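import Cfsg.Agent.R2.T1.Inf.LForm
import Cfsg.Agent.R2.T1.Inf.Cnt_m3
import Cfsg.Agent.R2.T1.Five.Lin_m3
import Cfsg.Agent.Prune
set_option linter.all false

section
prune_inst 0x7ffffdfbbbfffddedfff7e7fa7dfcdfdfbbfbfffa4dff9cb7fe06fffbbff7b9ac9c567ad8bebb3fe0ef7ca1c10ec7b43ffffefffea6bdc7ffffd5ff41ffbffcffdf7b50971dd8cbe0fb82ff603f0778e7f3fffffffffffffffffffffffffffbeffbfffffffff

-- part: R2/T1/Inf/LCnt
section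
set_option linter.all false
open scoped Cfsg.Agent.FastGrp

/-!
# S5771, S5929: counting on the adjoint module (helper11)

* `irrL`, `blueL`, `finrank_L`, `LK_inv` : no invariants for `2 ≠ 0`;
* `few` : the fixed vectors of the alternating group on the adjoint module for `n = 5`;
* `order_ge3`, `order_ge5` : lower bounds for the order.
-/

set_option autoImplicit false
set_option maxRecDepth 100000

namespace Cfsg.Agent.R2.T1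

open Cfsg Cfsg.Lie Module
open Cfsg.Agent.H952.F4 (ev es matRep MaxAlt)

universe u

variable {F : Type u} [Field F]

theorem irrL (h2 : (2 : F) ≠ 0) : Irr (L F) := fun _ hU h0 => irrL_aux h2 hU h0

theorem finrank_L : finrank F (chevE7.Idx → F) = 133 := by
  rw [finrank_fintype_fun_eq_card, Fintype.card_sum, Fintype.card_fin, Fintype.card_fin]
  rfl

/-- **blueprint lemma** for the adjoint module -/
theorem blueL (h2 : (2 : F) ≠ 0) {H : Subgroup ↥(chevE7.group F)} (hM : IsCoatom H)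
    {W : Submodule F (chevE7.Idx → F)} (hW : Stab (L F) H W) (h0 : W ≠ ⊥) (h1 : W ≠ ⊤)
    {g : Gh F} (hg : ∀ w ∈ W, L F g w ∈ W) : ad F g ∈ H :=
  blue_of hM (irrL h2) hW h0 h1 hg

/-- no invariants on the adjoint module -/
theorem LK_inv (h2 : (2 : F) ≠ 0) : (LK F).invariants = ⊥ := by
  by_contra hne
  have h1 := irrL h2 (LK F).invariants (fun g w hw => by
    have h3 : LK F (ad F g) w = w := (Representation.mem_invariants _ _).1 hw (ad F g)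
    have h4 : L F g w = w := h3
    rw [h4]; exact hw) hne
  have hs : IsSimpleGroup ↥(chevE7.group F) := simpleE7
  obtain ⟨g, hg⟩ := exists_ne (1 : ↥(chevE7.group F))
  apply hg
  have h3 : ((g : GL chevE7.Idx F) : Matrix chevE7.Idx chevE7.Idx F) = 1 := by
    apply Matrix.toLin'.injective
    refine LinearMap.ext fun v => ?_
    rw [Matrix.toLin'_one, LinearMap.id_apply, Matrix.toLin'_apply, ← LK_apply]
    have h4 : v ∈ (LK F).invariants := by rw [h1]; trivial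
    exact (Representation.mem_invariants _ _).1 h4 g
  exact Subtype.ext (Units.ext h3)

section card
variable [Finite F] {H : Subgroup ↥(chevE7.group F)} {n : ℕ} {φ : ↥(alternatingGroup (Fin n)) →* ↥(chevE7.group F)}

/-- **the fixed vectors of `A₅` on the adjoint module** -/
theorem few (h2 : (2 : F) ≠ 0) (hM : MaxAlt H n φ) (hn : n = 5) :
    ∃ k l : ℕ, k + l = finrank F (Representation.invariants (MonoidHom.comp (LK F) φ)) ∧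
      (H = φ.range → l = 0) ∧
      ((Nat.card F ^ k - 1) + (Nat.card F ^ l - 1)) * Nat.card ↥(chevE7.group F) ≤
        Nat.card ↥H * (Nat.card F ^ 133 - 1) := by
  have hs : IsSimpleGroup ↥(chevE7.group F) := simpleE7
  have h3 := Cfsg.Agent.H952.F4.MaxA.few_fixed (LK F) (LK_inv h2) hM hn h2
  rwa [finrank_L] at h3

/-- lower bound for the order -/
theorem order_gen {m : ℕ} (hm : 2 ≤ m) (hq : m ≤ Nat.card F) :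
    (m ^ 2 - 1) * (m ^ 6 - 1) * (m ^ 8 - 1) * (m ^ 10 - 1) * (m ^ 12 - 1) * (m ^ 14 - 1) * (m ^ 18 - 1) *
      Nat.card F ^ 133 ≤ (m ^ 70 * 2) * Nat.card ↥(chevE7.group F) := by
  have ho := order (K := F)
  set q := Nat.card F with hqdef
  have hg : Nat.gcd 2 (q - 1) ≤ 2 := Nat.gcd_le_left _ (by norm_num)
  have key : ∀ a, m ^ a * (q ^ a - 1) ≥ (m ^ a - 1) * q ^ a := by
    intro a
    have h4 : m ^ a ≤ q ^ a := Nat.pow_le_pow_left hq a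
    have h5 : 1 ≤ m ^ a := Nat.one_le_pow _ _ (by omega)
    rw [Nat.mul_sub, Nat.sub_mul, mul_one, one_mul]
    omega
  have k2 := key 2
  have k6 := key 6
  have k8 := key 8
  have k10 := key 10
  have k12 := key 12
  have k14 := key 14
  have k18 := key 18
  set N := Nat.card ↥(chevE7.group F) with hN
  have h1 : q ^ 63 * (q ^ 2 - 1) * (q ^ 6 - 1) * (q ^ 8 - 1) * (q ^ 10 - 1) * (q ^ 12 - 1) * (q ^ 14 - 1) *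
      (q ^ 18 - 1) ≤ 2 * N := by
    rw [← ho]; exact Nat.mul_le_mul_right _ hg
  calc (m ^ 2 - 1) * (m ^ 6 - 1) * (m ^ 8 - 1) * (m ^ 10 - 1) * (m ^ 12 - 1) * (m ^ 14 - 1) * (m ^ 18 - 1) * q ^ 133
      = q ^ 63 * ((m ^ 2 - 1) * q ^ 2) * ((m ^ 6 - 1) * q ^ 6) * ((m ^ 8 - 1) * q ^ 8) *
          ((m ^ 10 - 1) * q ^ 10) * ((m ^ 12 - 1) * q ^ 12) * ((m ^ 14 - 1) * q ^ 14) * ((m ^ 18 - 1) * q ^ 18) := by ring
    _ ≤ q ^ 63 * (m ^ 2 * (q ^ 2 - 1)) * (m ^ 6 * (q ^ 6 - 1)) * (m ^ 8 * (q ^ 8 - 1)) * (m ^ 10 * (q ^ 10 - 1)) *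
          (m ^ 12 * (q ^ 12 - 1)) * (m ^ 14 * (q ^ 14 - 1)) * (m ^ 18 * (q ^ 18 - 1)) := by gcongr
    _ = m ^ 70 * (q ^ 63 * (q ^ 2 - 1) * (q ^ 6 - 1) * (q ^ 8 - 1) * (q ^ 10 - 1) * (q ^ 12 - 1) * (q ^ 14 - 1) *
          (q ^ 18 - 1)) := by ring
    _ ≤ m ^ 70 * (2 * N) := Nat.mul_le_mul_left _ h1
    _ = _ := by ring

/-- `0.44 q^133 ≤ |G|` for `q ≥ 3` -/
theorem order_ge3 (hq : 3 ≤ Nat.card F) : 11 * Nat.card F ^ 133 ≤ 25 * Nat.card ↥(chevE7.group F) := by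
  have h := order_gen (m := 3) (by norm_num) hq
  norm_num at h
  omega

/-- `0.479 q^133 ≤ |G|` for `q ≥ 5` -/
theorem order_ge5 (hq : 5 ≤ Nat.card F) : 479 * Nat.card F ^ 133 ≤ 1000 * Nat.card ↥(chevE7.group F) := by
  have h := order_gen (m := 5) (by norm_num) hq
  norm_num at h
  omega

end card

end Cfsg.Agent.R2.T1
end

-- part: R2/T1/Inf/PatF
section
prune_inst 0x22100000000000020000000000000000000000000000000000000000000000000000000000080020000000000000000000000000000000000000000000000000000000000000000000000000000000000000000000000000000000000000000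
set_option linter.all false
open scoped Cfsg.Agent.FastGrp

/-!
# S5771, S5929: the patterns over the finite field (helper11)

* `ev_V_frob`, `ev_L_frob` : the multiplicities of `μ` and `μ ^ q` are equal;
* `ker_qd_V`, `ker_qd_L` : `dim ker (T² - (ζ + ζ⁻¹) T + 1)` over `F`;
* `patF` : `(ev (V F x) 1, ev (L F x) 1)`;
* `two`, `three`, `four`, `five` : elements of order 2, 3, 4 (square `-1`), 5.
-/

set_option autoImplicit false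
set_option maxRecDepth 100000

namespace Cfsg.Agent.R2.T1

open Cfsg Cfsg.Lie Module
open Cfsg.Agent.H943.E7V.Block (D1 rho)
open Cfsg.Agent.H952.F4 (ev es)

universe u v

section gen

variable {K : Type u} [Field K] {M : Type v} [AddCommGroup M] [Module K M]

theorem ev_zero (T : Module.End K M) : ev T 0 = finrank K ↥(LinearMap.ker T) := by
  rw [ev, Module.End.eigenspace_def, zero_smul, sub_zero]

open Polynomial in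
theorem ker_qd_split [FiniteDimensional K M] (T : Module.End K M) {ζ : K} (h0 : ζ ≠ 0) (h1 : ζ ≠ ζ⁻¹) :
    finrank K ↥(LinearMap.ker (Five.qd (ζ + ζ⁻¹) T)) = ev T ζ + ev T ζ⁻¹ := by
  have hco : IsCoprime (X - C ζ : K[X]) (X - C ζ⁻¹) := isCoprime_X_sub_C_of_isUnit_sub (by
    rw [isUnit_iff_ne_zero]
    exact sub_ne_zero.2 h1)
  have ha : ∀ a : K, aeval T (X - C a : K[X]) = T - a • 1 := by
    intro a
    rw [map_sub, aeval_X, aeval_C, Algebra.algebraMap_eq_smul_one]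
  have e1 := sup_ker_aeval_eq_ker_aeval_mul_of_coprime T hco
  have e2 := disjoint_ker_aeval_of_isCoprime T hco
  have e3 : aeval T ((X - C ζ) * (X - C ζ⁻¹) : K[X]) = Five.qd (ζ + ζ⁻¹) T := by
    rw [map_mul, ha, ha, Five.qd]
    have h2 : ζ * ζ⁻¹ = 1 := mul_inv_cancel₀ h0
    rw [sub_mul, mul_sub, mul_sub, mul_smul_comm, smul_mul_assoc, mul_one, one_mul, smul_mul_smul_comm, h2,
      mul_one, one_smul, add_smul]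
    abel
  rw [e3, ha, ha] at e1
  rw [ha, ha] at e2
  have h3 := Submodule.finrank_sup_add_finrank_inf_eq (LinearMap.ker (T - ζ • (1 : Module.End K M)))
    (LinearMap.ker (T - ζ⁻¹ • (1 : Module.End K M)))
  rw [e1, disjoint_iff.1 e2, finrank_bot, add_zero] at h3
  rw [h3, ev, ev, Module.End.eigenspace_def, Module.End.eigenspace_def]

open Polynomial in
theorem ker_qd_cube [FiniteDimensional K M] (h3 : (3 : K) ≠ 0) {T : Module.End K M} (hT : T ^ 3 = 1) :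
    finrank K ↥(LinearMap.ker (Five.qd (-1) T)) + ev T 1 = finrank K M := by
  have hco : IsCoprime (X ^ 2 + X + 1 : K[X]) (X - 1) := by
    refine ⟨C (3 : K)⁻¹, -(C (3 : K)⁻¹) * (X + 2), ?_⟩
    have h4 : C (3 : K)⁻¹ * 3 = 1 := by
      rw [← C_ofNat, ← C_mul, inv_mul_cancel₀ h3, C_1]
    linear_combination h4
  have e1 := sup_ker_aeval_eq_ker_aeval_mul_of_coprime T hco
  have e2 := disjoint_ker_aeval_of_isCoprime T hco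
  have e3 : aeval T ((X ^ 2 + X + 1) * (X - 1) : K[X]) = 0 := by
    have h5 : ((X ^ 2 + X + 1) * (X - 1) : K[X]) = X ^ 3 - 1 := by ring
    rw [h5, map_sub, map_pow, aeval_X, map_one, hT, sub_self]
  have e4 : aeval T (X ^ 2 + X + 1 : K[X]) = Five.qd (-1) T := by
    rw [map_add, map_add, map_pow, aeval_X, map_one, Five.qd, neg_one_smul, sub_neg_eq_add, pow_two]
  have e5 : aeval T (X - 1 : K[X]) = T - 1 := by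
    rw [map_sub, aeval_X, map_one]
  rw [e3, e4, e5, LinearMap.ker_zero] at e1
  rw [e4, e5] at e2
  have h6 := Submodule.finrank_sup_add_finrank_inf_eq (LinearMap.ker (Five.qd (-1) T))
    (LinearMap.ker (T - (1 : Module.End K M)))
  rw [e1, disjoint_iff.1 e2, finrank_bot, add_zero, finrank_top] at h6
  rw [h6, ev, Module.End.eigenspace_def, one_smul]

/-- a square root of `-1` -/
theorem ker_qd_sq [FiniteDimensional K M] {T : Module.End K M} (hT : T * T = -1) :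
    finrank K ↥(LinearMap.ker (Five.qd 0 T)) = finrank K M := by
  have h : Five.qd 0 T = 0 := by
    rw [Five.qd, hT, zero_smul, sub_zero, neg_add_cancel]
  rw [h, LinearMap.ker_zero, finrank_top]

end gen

section mats

variable {F : Type u} {K : Type v} [Field F] [Field K] {n : Type*} [Fintype n] [DecidableEq n]

theorem qd_toLin' (A : Matrix n n F) (t : F) : Five.qd t (Matrix.toLin' A) = Matrix.toLin' (A * A - t • A + 1) := by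
  rw [Five.qd, map_add, map_sub, map_smul, Matrix.toLin'_mul, Matrix.toLin'_one]
  rfl

theorem ker_qd_map (f : F →+* K) (A : Matrix n n F) (t : F) :
    finrank K ↥(LinearMap.ker (Five.qd (f t) (Matrix.toLin' (A.map f)))) =
      finrank F ↥(LinearMap.ker (Five.qd t (Matrix.toLin' A))) := by
  rw [← ev_zero, ← ev_zero, qd_toLin', qd_toLin', ← Cfsg.Agent.H815.F4Chg.ev_map f _ 0, map_zero]
  congr 2
  ext i j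
  simp [Matrix.mul_apply, Matrix.one_apply, apply_ite f]

end mats

section
variable {F : Type u} {K : Type v} [Field F] [Field K] (f : F →+* K)

theorem ker_qd_V (x : Gh F) (t : F) : finrank K ↥(LinearMap.ker (Five.qd (f t) (V K (emb f x)))) =
    finrank F ↥(LinearMap.ker (Five.qd t (V F x))) := by
  rw [V_eq, V_eq, rho_emb]
  exact ker_qd_map f _ t

theorem ker_qd_L (x : Gh F) (t : F) : finrank K ↥(LinearMap.ker (Five.qd (f t) (L K (emb f x)))) =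
    finrank F ↥(LinearMap.ker (Five.qd t (L F x))) := by
  rw [L_eq', L_eq', ad_emb_mat]
  exact ker_qd_map f _ t

include f in
/-- the Frobenius endomorphism of an extension of a finite field -/
theorem exists_frob [Finite F] : ∃ s : K →+* K, ∀ t, s t = t ^ Nat.card F := by
  have := Fintype.ofFinite F
  obtain ⟨p, hp⟩ := CharP.exists F
  have hpp : Fact p.Prime := ⟨CharP.char_is_prime F p⟩
  have hcp : CharP K p := charP_of_injective_ringHom f.injective p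
  obtain ⟨n, -, hn⟩ := FiniteField.card F p
  exact ⟨iterateFrobenius K p n, fun t => by rw [Nat.card_eq_fintype_card, hn]; rfl⟩

theorem ev_V_frob [Finite F] (x : Gh F) (μ : K) : ev (V K (emb f x)) (μ ^ Nat.card F) = ev (V K (emb f x)) μ := by
  obtain ⟨s, hs⟩ := exists_frob f
  have h := ev_V s (emb f x) μ
  rw [emb_frob f s hs, hs] at h
  exact h

theorem ev_L_frob [Finite F] (x : Gh F) (μ : K) : ev (L K (emb f x)) (μ ^ Nat.card F) = ev (L K (emb f x)) μ := by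
  obtain ⟨s, hs⟩ := exists_frob f
  have h := ev_L s (emb f x) μ
  rw [emb_frob f s hs, hs] at h
  exact h

/-- elements fixed by the Frobenius endomorphism -/
theorem exists_of_pow_eq [Finite F] {t : K} (h : t ^ Nat.card F = t) : ∃ a : F, f a = t := by
  have := Fintype.ofFinite F
  obtain ⟨s, hs⟩ := exists_frob f
  have hs' : ∀ t, s t = t ^ Fintype.card F := fun t => by rw [hs, Nat.card_eq_fintype_card]
  exact (Cfsg.Agent.BpExc.Emb.fix_iff_range (f := f) hs' t).1 (by rw [hs, h])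

end

section
variable {F : Type u} [Field F] [Finite F]

/-- the characteristic does not divide `N` -/
theorem exists_char {N : ℕ} (hN : (N : F) ≠ 0) : ∃ p : ℕ, ∃ _ : Fact p.Prime, ∃ _ : CharP F p, N.Coprime p := by
  obtain ⟨p, hp⟩ := CharP.exists F
  have hpp : Fact p.Prime := ⟨CharP.char_is_prime F p⟩
  refine ⟨p, hpp, hp, ?_⟩
  rw [Nat.coprime_comm, hpp.out.coprime_iff_not_dvd]
  intro h
  exact hN ((CharP.cast_eq_zero_iff F p N).2 h)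

/-- **the dimensions of the fixed spaces** -/
theorem patF {N : ℕ} {T : List (List ℕ × List ℕ)} (hchk : chk N T = true) (hN : (N : F) ≠ 0) {x : Gh F}
    (hx : x ^ N = 1) : ∃ P ∈ T, ev (V F x) 1 = P.1.getD 0 0 ∧ ev (L F x) 1 = P.2.getD 0 0 := by
  obtain ⟨p, hpp, hp, hcop⟩ := exists_char hN
  have hN0 : N ≠ 0 := by
    rintro rfl
    exact hN Nat.cast_zero
  obtain ⟨ζ, hζ, P, hP, h1⟩ := pat hchk hN0 p hcop hx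
  obtain ⟨h2, h3⟩ := h1 0 (Nat.pos_of_ne_zero hN0)
  rw [pow_zero] at h2 h3
  exact ⟨P, hP, by rw [← h2, ev_V_one], by rw [← h3, ev_L_one]⟩

omit [Finite F] in
theorem eq_one_of_ev {x : Gh F} (h : ev (V F x) 1 = 56) : x = 1 := by
  apply rho_injective
  rw [map_one]
  have h1 : Module.End.eigenspace (V F x) 1 = ⊤ := by
    apply Submodule.eq_top_of_finrank_eq
    rw [finrank_V]
    exact h
  have h2 : Matrix.toLin' (rho F x) = Matrix.toLin' 1 := by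
    rw [Matrix.toLin'_one, ← V_eq]
    refine LinearMap.ext fun v => ?_
    have h3 : v ∈ Module.End.eigenspace (V F x) 1 := by rw [h1]; trivial
    rw [Module.End.mem_eigenspace_iff, one_smul] at h3
    exact h3
  exact Matrix.toLin'.injective h2

/-- **elements of order 3** -/
theorem three (h3 : (3 : F) ≠ 0) {x : Gh F} (hx : x ^ 3 = 1) (hx1 : x ≠ 1) :
    (ev (V F x) 1 = 2 ∧ ev (L F x) 1 = 79) ∨ (ev (V F x) 1 = 32 ∧ ev (L F x) 1 = 67) ∨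
    (ev (V F x) 1 = 20 ∧ ev (L F x) 1 = 49) ∨ (ev (V F x) 1 = 14 ∧ ev (L F x) 1 = 49) ∨
    (ev (V F x) 1 = 20 ∧ ev (L F x) 1 = 43) := by
  obtain ⟨P, hP, h1, h2⟩ := patF chk3 (by exact_mod_cast h3) hx
  simp only [T3, List.mem_cons, List.not_mem_nil, or_false] at hP
  rcases hP with rfl | rfl | rfl | rfl | rfl | rfl
  · exact absurd (eq_one_of_ev h1) hx1
  all_goals simp only [List.getD_cons_zero] at h1 h2
  all_goals (clear * - h1 h2; tauto)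

/-- **involutions** -/
theorem two (h2 : (2 : F) ≠ 0) {x : Gh F} (hx : x * x = 1) (hx1 : ad F x ≠ 1) :
    (ev (V F x) 1 = 32 ∨ ev (V F x) 1 = 24) ∧ ev (L F x) 1 = 69 := by
  obtain ⟨P, hP, h1, h3⟩ := patF chk2 (by exact_mod_cast h2) (by rw [pow_two]; exact hx)
  simp only [T2, List.mem_cons, List.not_mem_nil, or_false] at hP
  have key : ev (L F x) 1 = 133 → False := by
    intro h
    apply hx1
    have h4 : Module.End.eigenspace (L F x) 1 = ⊤ := by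
      apply Submodule.eq_top_of_finrank_eq
      rw [finrank_L]
      exact h
    have h5 : Matrix.toLin' (adM F x) = Matrix.toLin' 1 := by
      rw [Matrix.toLin'_one, ← L_adM]
      refine LinearMap.ext fun v => ?_
      have h6 : v ∈ Module.End.eigenspace (L F x) 1 := by rw [h4]; trivial
      rw [Module.End.mem_eigenspace_iff, one_smul] at h6
      exact h6
    have h7 : adM F x = 1 := Matrix.toLin'.injective h5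
    apply Subtype.ext
    apply Units.ext
    exact h7
  rcases hP with rfl | rfl | rfl | rfl
  all_goals simp only [List.getD_cons_zero] at h1 h3
  · exact absurd h3 key
  · exact absurd h3 key
  all_goals (clear * - h1 h3 F x; tauto)

omit [Finite F] in
theorem ev_neg_one_eq_zero (h2 : (2 : F) ≠ 0) {x : Gh F} (hx : V F (x * x) = -1) {μ : F} (hμ : μ * μ = 1) :
    ev (V F x) μ = 0 := by
  rw [ev, Submodule.finrank_eq_zero, eq_bot_iff]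
  intro v hv
  rw [Module.End.mem_eigenspace_iff] at hv
  have h5 : V F (x * x) v = v := by rw [map_mul, Module.End.mul_apply, hv, map_smul, hv, smul_smul, hμ, one_smul]
  rw [hx] at h5
  have h6 : (2 : F) • v = 0 := by
    have h7 : -v = v := h5
    rw [two_smul]
    nth_rewrite 1 [← h7]
    exact neg_add_cancel v
  exact (Submodule.mem_bot F).2 ((smul_eq_zero.1 h6).resolve_left h2)

omit [Finite F] in
theorem pow_four_eq_one {x : Gh F} (hx : V F (x * x) = -1) : x ^ 4 = 1 := by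
  apply V_injective
  have h1 : x ^ 4 = (x * x) * (x * x) := by rw [← pow_two, ← pow_two, ← pow_mul]
  rw [h1, map_mul, hx, map_one]
  refine LinearMap.ext fun v => ?_
  show - - v = v
  exact _root_.neg_neg v

/-- **square roots of `-1`** -/
theorem four (h2 : (2 : F) ≠ 0) {x : Gh F} (hx : V F (x * x) = -1) :
    ev (L F x) 1 = 63 ∨ ev (L F x) 1 = 79 := by
  have h4 : ((4 : ℕ) : F) ≠ 0 := by
    have : ((4 : ℕ) : F) = 2 * 2 := by norm_num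
    rw [this]
    exact mul_ne_zero h2 h2
  obtain ⟨p, hpp, hp, hcop⟩ := exists_char h4
  obtain ⟨ζ, hζ, P, hP, h5⟩ := pat chk4 (by norm_num) p hcop (pow_four_eq_one hx)
  have hζ2 : ζ ^ 2 = -1 := by
    have h6 : ζ ^ 2 * ζ ^ 2 = 1 := by rw [← pow_add]; exact hζ.pow_eq_one
    rcases mul_self_eq_one_iff.1 h6 with h7 | h7
    · exact absurd h7 (hζ.pow_ne_one_of_pos_of_lt (by norm_num) (by norm_num))
    · exact h7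
  obtain ⟨h6, h7⟩ := h5 0 (by norm_num)
  have h8 := (h5 2 (by norm_num)).1
  rw [pow_zero] at h6 h7
  rw [ev_V_one, ev_neg_one_eq_zero h2 hx (one_mul 1)] at h6
  rw [ev_L_one] at h7
  rw [hζ2, ev_V_neg_one, ev_neg_one_eq_zero h2 hx (by rw [neg_mul_neg, one_mul])] at h8
  simp only [T4, List.mem_cons, List.not_mem_nil, or_false] at hP
  rw [h7]
  rcases hP with rfl | rfl | rfl | rfl | rfl | rfl | rfl | rfl | rfl | rfl | rfl | rfl | rfl | rfl | rfl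
  all_goals simp only [List.getD_cons_zero, List.getD_cons_succ] at h6 h7 h8
  all_goals first | (exfalso; omega) | simp

/-- the sum of a root of unity of order 5 and its inverse -/
theorem golden {K : Type v} [Field K] {ζ : K} (hζ : IsPrimitiveRoot ζ 5) :
    (ζ + ζ⁻¹) * (ζ + ζ⁻¹) + (ζ + ζ⁻¹) - 1 = 0 := by
  have h0 : ζ ≠ 0 := hζ.ne_zero (by norm_num)
  have h1 : ζ ^ 4 + ζ ^ 3 + ζ ^ 2 + ζ + 1 = 0 := by
    have h2 := hζ.geom_sum_eq_zero (by norm_num)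
    simp only [Finset.sum_range_succ, Finset.sum_range_zero, pow_zero, pow_one] at h2
    linear_combination h2
  field_simp
  linear_combination h1

/-- `5` does not divide the cardinality -/
theorem card_mod {N : ℕ} (hN : N.Prime) (h5 : (N : F) ≠ 0) : Nat.card F % N ≠ 0 := by
  have := Fintype.ofFinite F
  intro h
  apply h5
  obtain ⟨p', hp'⟩ := CharP.exists F
  have hpp' : Fact p'.Prime := ⟨CharP.char_is_prime F p'⟩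
  obtain ⟨n, -, hn⟩ := FiniteField.card F p'
  have h8 : N ∣ p' ^ (n : ℕ) := by
    rw [← hn, ← Nat.card_eq_fintype_card]
    exact Nat.dvd_of_mod_eq_zero h
  have h9 : N = p' := (Nat.prime_dvd_prime_iff_eq hN hpp'.out).1 (Nat.Prime.dvd_of_dvd_pow hN h8)
  rw [h9]
  exact CharP.cast_eq_zero F p'

theorem pow_mod_eq {K : Type v} [Field K] {ζ : K} {N : ℕ} (hζ : IsPrimitiveRoot ζ N) (m : ℕ) : ζ ^ m = ζ ^ (m % N) := by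
  nth_rewrite 1 [← Nat.div_add_mod m N]
  rw [pow_add, pow_mul, hζ.pow_eq_one, one_pow, one_mul]

theorem patF5_aux (h5 : (5 : F) ≠ 0) {K : Type v} [Field K] (f : F →+* K) {ζ : K} (hζ : IsPrimitiveRoot ζ 5) {x : Gh F}
    {a1 a2 a3 a4 b1 b2 b3 b4 : ℕ} (s1 : a4 = a1) (s2 : a3 = a2) (s3 : b4 = b1) (s4 : b3 = b2)
    (e1 : ev (V K (emb f x)) ζ = a1 ∧ ev (L K (emb f x)) ζ = b1)
    (e2 : ev (V K (emb f x)) (ζ ^ 2) = a2 ∧ ev (L K (emb f x)) (ζ ^ 2) = b2)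
    (e3 : ev (V K (emb f x)) (ζ ^ 3) = a3 ∧ ev (L K (emb f x)) (ζ ^ 3) = b3)
    (e4 : ev (V K (emb f x)) (ζ ^ 4) = a4 ∧ ev (L K (emb f x)) (ζ ^ 4) = b4) :
    (a1 = a2 ∧ b1 = b2) ∨ ∃ τ : F, τ * τ + τ - 1 = 0 ∧
      finrank F ↥(LinearMap.ker (Five.qd τ (V F x))) = 2 * a1 ∧
      finrank F ↥(LinearMap.ker (Five.qd τ (L F x))) = 2 * b1 ∧
      finrank F ↥(LinearMap.ker (Five.qd (-1 - τ) (V F x))) = 2 * a2 ∧
      finrank F ↥(LinearMap.ker (Five.qd (-1 - τ) (L F x))) = 2 * b2 := by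
  have h5' : ((5 : ℕ) : F) ≠ 0 := by exact_mod_cast h5
  have hq := card_mod (by norm_num) h5'
  have hfr := ev_V_frob f x ζ
  have hfr' := ev_L_frob f x ζ
  have hcases : Nat.card F % 5 = 1 ∨ Nat.card F % 5 = 2 ∨ Nat.card F % 5 = 3 ∨ Nat.card F % 5 = 4 := by (clear * - hq; omega)
  have h0 : ζ ≠ 0 := hζ.ne_zero (by norm_num)
  have hi : ζ⁻¹ = ζ ^ 4 := by
    rw [inv_eq_iff_eq_inv]
    apply eq_inv_of_mul_eq_one_left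
    rw [← pow_succ']
    exact hζ.pow_eq_one
  have hi2 : (ζ ^ 2)⁻¹ = ζ ^ 3 := by
    rw [inv_eq_iff_eq_inv]
    apply eq_inv_of_mul_eq_one_left
    rw [← pow_add]
    exact hζ.pow_eq_one
  have hpm : (ζ + ζ⁻¹) ^ Nat.card F = ζ + ζ⁻¹ → ∃ τ : F, τ * τ + τ - 1 = 0 ∧
      finrank F ↥(LinearMap.ker (Five.qd τ (V F x))) = 2 * a1 ∧
      finrank F ↥(LinearMap.ker (Five.qd τ (L F x))) = 2 * b1 ∧
      finrank F ↥(LinearMap.ker (Five.qd (-1 - τ) (V F x))) = 2 * a2 ∧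
      finrank F ↥(LinearMap.ker (Five.qd (-1 - τ) (L F x))) = 2 * b2 := by
    intro h
    obtain ⟨τ, hτ⟩ := exists_of_pow_eq f h
    have hne : ζ ≠ ζ⁻¹ := by
      rw [hi]
      intro h7
      have := hζ.pow_inj (i := 1) (j := 4) (by norm_num) (by norm_num) (by rw [pow_one]; exact h7)
      omega
    have hne2 : ζ ^ 2 ≠ (ζ ^ 2)⁻¹ := by
      rw [hi2]
      intro h7
      have := hζ.pow_inj (i := 2) (j := 3) (by norm_num) (by norm_num) h7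
      omega
    have hτ2 : f (-1 - τ) = ζ ^ 2 + (ζ ^ 2)⁻¹ := by
      have h7 := golden hζ
      have h8 : ζ ^ 2 + (ζ ^ 2)⁻¹ = (ζ + ζ⁻¹) * (ζ + ζ⁻¹) - 2 := by field_simp; ring
      rw [map_sub, map_neg, map_one, hτ, h8]
      linear_combination (-1 : K) * h7
    refine ⟨τ, ?_, ?_, ?_, ?_, ?_⟩
    · apply f.injective
      rw [map_sub, map_add, map_mul, hτ, map_one, map_zero]
      exact golden hζ
    · rw [← ker_qd_V f, hτ, ker_qd_split _ h0 hne, hi, e1.1, e4.1, s1, two_mul]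
    · rw [← ker_qd_L f, hτ, ker_qd_split _ h0 hne, hi, e1.2, e4.2, s3, two_mul]
    · rw [← ker_qd_V f, hτ2, ker_qd_split _ (pow_ne_zero 2 h0) hne2, hi2, e2.1, e3.1, s2, two_mul]
    · rw [← ker_qd_L f, hτ2, ker_qd_split _ (pow_ne_zero 2 h0) hne2, hi2, e2.2, e3.2, s4, two_mul]
  obtain ⟨s, hs⟩ := exists_frob f
  rcases hcases with h | h | h | h
  · right
    apply hpm
    rw [← hs, map_add, hs, hs, inv_pow, pow_mod_eq hζ, h, pow_one]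
  · left
    rw [pow_mod_eq hζ, h] at hfr hfr'
    exact ⟨by rw [← e1.1, ← e2.1, hfr], by rw [← e1.2, ← e2.2, hfr']⟩
  · left
    rw [pow_mod_eq hζ, h] at hfr hfr'
    exact ⟨by rw [← s2, ← e1.1, ← e3.1, hfr], by rw [← s4, ← e1.2, ← e3.2, hfr']⟩
  · right
    apply hpm
    rw [← hs, map_add, hs, hs, inv_pow, pow_mod_eq hζ, h, ← hi, inv_inv, add_comm]

/-- **elements of order 5** -/
theorem patF5 (h5 : (5 : F) ≠ 0) {x : Gh F} (hx : x ^ 5 = 1) :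
    ∃ P ∈ T5, ev (V F x) 1 = P.1.getD 0 0 ∧ ev (L F x) 1 = P.2.getD 0 0 ∧
    ((P.1.getD 1 0 = P.1.getD 2 0 ∧ P.2.getD 1 0 = P.2.getD 2 0) ∨ ∃ τ : F, τ * τ + τ - 1 = 0 ∧
      finrank F ↥(LinearMap.ker (Five.qd τ (V F x))) = 2 * P.1.getD 1 0 ∧
      finrank F ↥(LinearMap.ker (Five.qd τ (L F x))) = 2 * P.2.getD 1 0 ∧
      finrank F ↥(LinearMap.ker (Five.qd (-1 - τ) (V F x))) = 2 * P.1.getD 2 0 ∧
      finrank F ↥(LinearMap.ker (Five.qd (-1 - τ) (L F x))) = 2 * P.2.getD 2 0) := by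
  have h5' : ((5 : ℕ) : F) ≠ 0 := by exact_mod_cast h5
  obtain ⟨p, hpp, hp, hcop⟩ := exists_char h5'
  obtain ⟨ζ, hζ, P, hP, h6⟩ := pat chk5 (by norm_num) p hcop hx
  have e0 := h6 0 (by norm_num)
  have e1 := h6 1 (by norm_num)
  have e2 := h6 2 (by norm_num)
  have e3 := h6 3 (by norm_num)
  have e4 := h6 4 (by norm_num)
  rw [pow_zero, ev_V_one, ev_L_one] at e0
  rw [pow_one] at e1
  refine ⟨P, hP, e0.1, e0.2, ?_⟩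
  have sym : ∀ P ∈ T5, P.1.getD 4 0 = P.1.getD 1 0 ∧ P.1.getD 3 0 = P.1.getD 2 0 ∧
      P.2.getD 4 0 = P.2.getD 1 0 ∧ P.2.getD 3 0 = P.2.getD 2 0 := by decide +kernel
  obtain ⟨s1, s2, s3, s4⟩ := sym P hP
  exact patF5_aux h5 _ hζ s1 s2 s3 s4 e1 e2 e3 e4

/-- **elements of order 5**: the rational class, or a large eigenspace with `τ = ζ + ζ⁻¹` in `F` -/
theorem five (h5 : (5 : F) ≠ 0) {x : Gh F} (hx : x ^ 5 = 1) (hx1 : x ≠ 1) :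
    (ev (V F x) 1 = 16 ∧ ev (L F x) 1 = 33) ∨ ∃ τ : F, τ * τ + τ - 1 = 0 ∧
      24 ≤ finrank F ↥(LinearMap.ker (Five.qd τ (V F x))) ∧ 27 ≤ ev (L F x) 1 := by
  obtain ⟨P, hP, h1, h2, h3⟩ := patF5 h5 hx
  have key : ∀ P ∈ T5, P.1.getD 0 0 = 56 ∨ (P.1.getD 0 0 = 16 ∧ P.2.getD 0 0 = 33) ∨
      (P.1.getD 1 0 ≠ P.1.getD 2 0 ∧ (12 ≤ P.1.getD 1 0 ∨ 12 ≤ P.1.getD 2 0) ∧ 27 ≤ P.2.getD 0 0) := by decide
  rcases key P hP with h | ⟨h, h'⟩ | ⟨h, h', h''⟩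
  · rw [h] at h1
    exact absurd (eq_one_of_ev h1) hx1
  · left
    exact ⟨h1.trans h, h2.trans h'⟩
  · right
    rcases h3 with ⟨h4, -⟩ | ⟨τ, h4, h6, -, h7, -⟩
    · exact absurd h4 h
    · rcases h' with h8 | h8
      · exact ⟨τ, h4, by omega, by omega⟩
      · refine ⟨-1 - τ, ?_, by omega, by omega⟩
        linear_combination h4

end

end Cfsg.Agent.R2.T1

private theorem dce_7ed5a002ddda : _root_.True := by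
  try have : _root_.True := by simp only [_root_.Cfsg.Agent.R2.T1.T3.eq_1]
  try have : _root_.True := by simp only [_root_.Cfsg.Agent.R2.T1.T2.eq_1]
  try have : _root_.True := by simp only [_root_.Cfsg.Agent.R2.T1.T4.eq_1]
  exact _root_.True.intro
end

-- part: R2/T1/Odd/T9
section
prune_inst 0x204440002212000818058203202044040005b200234801f900044008465363a981274144c01f10835e3ef1384bc00001000159421000002a00be004003002084af68e227341f047d009fc0f887180c00000000000000000000000000041004000000000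
set_option linter.all false
open scoped Cfsg.Agent.FastGrp
private noncomputable def lq26413267b2 {T : Sort _} (f :
    type_of% (@_root_.List.cons.{0}) →
    type_of% (@_root_.List.nil.{0}) →
    type_of% (@_root_.Prod.mk.{0, 0}) →
    type_of% (@_root_.List.cons.{0} (Prod (List Nat) (List Nat))) → T) : T :=
  f (@_root_.List.cons.{0}) (@_root_.List.nil.{0}) (@_root_.Prod.mk.{0, 0}) (@_root_.List.cons.{0} (Prod (List Nat) (List Nat)))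

/-!
# S5771, ODD5: the patterns of the elements of order dividing 9 (helper11)
-/

set_option autoImplicit false
set_option maxRecDepth 100000

namespace Cfsg.Agent.R2.T1.Odd

/-- the patterns of the elements of order dividing 9 -/
def T9 : List (List ℕ × List ℕ) :=
  (beta% delta% lq26413267b2 fun a b c d =>
 (let e:=(let e:=(let e:=(let e:=(let e:=(d (c (a 4<|a 7<|a 7<|a 5<|a 7<|a 7<|a 5<|a 7<|a 7<|b) (a 17<|a 13<|a 15<|a 16<|a 14<|a 14<|a 16<|a 15<|a 13<|b))<|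
 d (c (a 4<|a 7<|a 7<|a 5<|a 7<|a 7<|a 5<|a 7<|a 7<|b) (a 17<|a 14<|a 13<|a 16<|a 15<|a 15<|a 16<|a 13<|a 14<|b))<|
 d (c (a 4<|a 7<|a 7<|a 5<|a 7<|a 7<|a 5<|a 7<|a 7<|b) (a 17<|a 15<|a 14<|a 16<|a 13<|a 13<|a 16<|a 14<|a 15<|b))<|
 d (c (a 8<|a 6<|a 6<|a 6<|a 6<|a 6<|a 6<|a 6<|a 6<|b) (a 15<|a 15<|a 15<|a 14<|a 15<|a 15<|a 14<|a 15<|a 15<|b))<|
 d (c (a 6<|a 6<|a 6<|a 7<|a 6<|a 6<|a 7<|a 6<|a 6<|b) (a 15<|a 15<|a 15<|a 14<|a 15<|a 15<|a 14<|a 15<|a 15<|b))<|b);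
 (d (c (a 6<|a 5<|a 6<|a 7<|a 7<|a 7<|a 7<|a 6<|a 5<|b) (a 17<|a 15<|a 14<|a 16<|a 13<|a 13<|a 16<|a 14<|a 15<|b))<|
 d (c (a 6<|a 5<|a 8<|a 7<|a 5<|a 5<|a 7<|a 8<|a 5<|b) (a 17<|a 14<|a 14<|a 13<|a 17<|a 17<|a 13<|a 14<|a 14<|b))<|
 d (c (a 6<|a 6<|a 7<|a 7<|a 5<|a 5<|a 7<|a 7<|a 6<|b) (a 17<|a 14<|a 13<|a 16<|a 15<|a 15<|a 16<|a 13<|a 14<|b))<|
 d (c (a 6<|a 7<|a 5<|a 7<|a 6<|a 6<|a 7<|a 5<|a 7<|b) (a 17<|a 13<|a 15<|a 16<|a 14<|a 14<|a 16<|a 15<|a 13<|b))<|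
 d (c (a 6<|a 8<|a 5<|a 7<|a 5<|a 5<|a 7<|a 5<|a 8<|b) (a 17<|a 14<|a 17<|a 13<|a 14<|a 14<|a 13<|a 17<|a 14<|b))<|
 e));
 (let e:=(d (c (a 8<|a 8<|a 6<|a 6<|a 4<|a 4<|a 6<|a 6<|a 8<|b) (a 19<|a 16<|a 15<|a 15<|a 11<|a 11<|a 15<|a 15<|a 16<|b))<|
 d (c (a 6<|a 6<|a 6<|a 4<|a 9<|a 9<|a 4<|a 6<|a 6<|b) (a 19<|a 14<|a 13<|a 15<|a 15<|a 15<|a 15<|a 13<|a 14<|b))<|
 d (c (a 6<|a 6<|a 9<|a 4<|a 6<|a 6<|a 4<|a 9<|a 6<|b) (a 19<|a 13<|a 15<|a 15<|a 14<|a 14<|a 15<|a 15<|a 13<|b))<|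
 d (c (a 6<|a 9<|a 6<|a 4<|a 6<|a 6<|a 4<|a 6<|a 9<|b) (a 19<|a 15<|a 14<|a 15<|a 13<|a 13<|a 15<|a 14<|a 15<|b))<|
 d (c (a 6<|a 5<|a 5<|a 7<|a 8<|a 8<|a 7<|a 5<|a 5<|b) (a 17<|a 17<|a 14<|a 13<|a 14<|a 14<|a 13<|a 14<|a 17<|b))<|
 e);
 (d (c (a 8<|a 4<|a 8<|a 6<|a 6<|a 6<|a 6<|a 8<|a 4<|b) (a 19<|a 11<|a 16<|a 15<|a 15<|a 15<|a 15<|a 16<|a 11<|b))<|
 d (c (a 8<|a 5<|a 6<|a 6<|a 7<|a 7<|a 6<|a 6<|a 5<|b) (a 19<|a 13<|a 15<|a 15<|a 14<|a 14<|a 15<|a 15<|a 13<|b))<|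
 d (c (a 8<|a 6<|a 4<|a 6<|a 8<|a 8<|a 6<|a 4<|a 6<|b) (a 19<|a 15<|a 11<|a 15<|a 16<|a 16<|a 15<|a 11<|a 15<|b))<|
 d (c (a 8<|a 6<|a 7<|a 6<|a 5<|a 5<|a 6<|a 7<|a 6<|b) (a 19<|a 15<|a 14<|a 15<|a 13<|a 13<|a 15<|a 14<|a 15<|b))<|
 d (c (a 8<|a 7<|a 5<|a 6<|a 6<|a 6<|a 6<|a 5<|a 7<|b) (a 19<|a 14<|a 13<|a 15<|a 15<|a 15<|a 15<|a 13<|a 14<|b))<|
 e)));
 (let e:=(let e:=(d (c (a 2<|a 5<|a 8<|a 6<|a 8<|a 8<|a 6<|a 8<|a 5<|b) (a 21<|a 17<|a 13<|a 14<|a 12<|a 12<|a 14<|a 13<|a 17<|b))<|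
 d (c (a 2<|a 6<|a 9<|a 9<|a 3<|a 3<|a 9<|a 9<|a 6<|b) (a 21<|a 15<|a 9<|a 11<|a 21<|a 21<|a 11<|a 9<|a 15<|b))<|
 d (c (a 2<|a 8<|a 5<|a 6<|a 8<|a 8<|a 6<|a 5<|a 8<|b) (a 21<|a 12<|a 17<|a 14<|a 13<|a 13<|a 14<|a 17<|a 12<|b))<|
 d (c (a 2<|a 8<|a 8<|a 6<|a 5<|a 5<|a 6<|a 8<|a 8<|b) (a 21<|a 13<|a 12<|a 14<|a 17<|a 17<|a 14<|a 12<|a 13<|b))<|
 d (c (a 2<|a 9<|a 3<|a 9<|a 6<|a 6<|a 9<|a 3<|a 9<|b) (a 21<|a 9<|a 21<|a 11<|a 15<|a 15<|a 11<|a 21<|a 9<|b))<|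
 e);
 (d (c (a 4<|a 5<|a 9<|a 8<|a 4<|a 4<|a 8<|a 9<|a 5<|b) (a 21<|a 14<|a 10<|a 14<|a 18<|a 18<|a 14<|a 10<|a 14<|b))<|
 d (c (a 4<|a 6<|a 7<|a 8<|a 5<|a 5<|a 8<|a 7<|a 6<|b) (a 21<|a 16<|a 12<|a 14<|a 14<|a 14<|a 14<|a 12<|a 16<|b))<|
 d (c (a 4<|a 7<|a 5<|a 8<|a 6<|a 6<|a 8<|a 5<|a 7<|b) (a 21<|a 12<|a 14<|a 14<|a 16<|a 16<|a 14<|a 14<|a 12<|b))<|
 d (c (a 4<|a 9<|a 4<|a 8<|a 5<|a 5<|a 8<|a 4<|a 9<|b) (a 21<|a 10<|a 18<|a 14<|a 14<|a 14<|a 14<|a 18<|a 10<|b))<|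
 d (c (a 2<|a 3<|a 6<|a 9<|a 9<|a 9<|a 9<|a 6<|a 3<|b) (a 21<|a 21<|a 15<|a 11<|a 9<|a 9<|a 11<|a 15<|a 21<|b))<|
 e));
 (let e:=(d (c (a 6<|a 3<|a 6<|a 7<|a 9<|a 9<|a 7<|a 6<|a 3<|b) (a 21<|a 15<|a 18<|a 11<|a 12<|a 12<|a 11<|a 18<|a 15<|b))<|
 d (c (a 6<|a 6<|a 9<|a 7<|a 3<|a 3<|a 7<|a 9<|a 6<|b) (a 21<|a 18<|a 12<|a 11<|a 15<|a 15<|a 11<|a 12<|a 18<|b))<|
 d (c (a 6<|a 9<|a 3<|a 7<|a 6<|a 6<|a 7<|a 3<|a 9<|b) (a 21<|a 12<|a 15<|a 11<|a 18<|a 18<|a 11<|a 15<|a 12<|b))<|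
 d (c (a 4<|a 4<|a 5<|a 8<|a 9<|a 9<|a 8<|a 5<|a 4<|b) (a 21<|a 18<|a 14<|a 14<|a 10<|a 10<|a 14<|a 14<|a 18<|b))<|
 d (c (a 4<|a 5<|a 6<|a 8<|a 7<|a 7<|a 8<|a 6<|a 5<|b) (a 21<|a 14<|a 16<|a 14<|a 12<|a 12<|a 14<|a 16<|a 14<|b))<|
 e);
 (d (c (a 8<|a 5<|a 8<|a 3<|a 8<|a 8<|a 3<|a 8<|a 5<|b) (a 21<|a 11<|a 16<|a 14<|a 15<|a 15<|a 14<|a 16<|a 11<|b))<|
 d (c (a 8<|a 6<|a 3<|a 6<|a 9<|a 9<|a 6<|a 3<|a 6<|b) (a 21<|a 15<|a 12<|a 11<|a 18<|a 18<|a 11<|a 12<|a 15<|b))<|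
 d (c (a 8<|a 8<|a 5<|a 3<|a 8<|a 8<|a 3<|a 5<|a 8<|b) (a 21<|a 15<|a 11<|a 14<|a 16<|a 16<|a 14<|a 11<|a 15<|b))<|
 d (c (a 8<|a 8<|a 8<|a 3<|a 5<|a 5<|a 3<|a 8<|a 8<|b) (a 21<|a 16<|a 15<|a 14<|a 11<|a 11<|a 14<|a 15<|a 16<|b))<|
 d (c (a 8<|a 9<|a 6<|a 6<|a 3<|a 3<|a 6<|a 6<|a 9<|b) (a 21<|a 18<|a 15<|a 11<|a 12<|a 12<|a 11<|a 15<|a 18<|b))<|
 e))));
 (let e:=(let e:=(let e:=(d (c (a 12<|a 8<|a 2<|a 4<|a 8<|a 8<|a 4<|a 2<|a 8<|b) (a 23<|a 17<|a 8<|a 10<|a 20<|a 20<|a 10<|a 8<|a 17<|b))<|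
 d (c (a 12<|a 8<|a 6<|a 4<|a 4<|a 4<|a 4<|a 6<|a 8<|b) (a 23<|a 18<|a 14<|a 13<|a 10<|a 10<|a 13<|a 14<|a 18<|b))<|
 d (c (a 12<|a 8<|a 8<|a 4<|a 2<|a 2<|a 4<|a 8<|a 8<|b) (a 23<|a 20<|a 17<|a 10<|a 8<|a 8<|a 10<|a 17<|a 20<|b))<|
 d (c (a 12<|a 6<|a 6<|a 4<|a 6<|a 6<|a 4<|a 6<|a 6<|b) (a 21<|a 15<|a 15<|a 11<|a 15<|a 15<|a 11<|a 15<|a 15<|b))<|
 d (c (a 8<|a 3<|a 9<|a 6<|a 6<|a 6<|a 6<|a 9<|a 3<|b) (a 21<|a 12<|a 18<|a 11<|a 15<|a 15<|a 11<|a 18<|a 12<|b))<|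
 e);
 (d (c (a 12<|a 4<|a 4<|a 10<|a 4<|a 4<|a 10<|a 4<|a 4<|b) (a 23<|a 10<|a 12<|a 22<|a 11<|a 11<|a 22<|a 12<|a 10<|b))<|
 d (c (a 12<|a 4<|a 4<|a 10<|a 4<|a 4<|a 10<|a 4<|a 4<|b) (a 23<|a 11<|a 10<|a 22<|a 12<|a 12<|a 22<|a 10<|a 11<|b))<|
 d (c (a 12<|a 4<|a 4<|a 10<|a 4<|a 4<|a 10<|a 4<|a 4<|b) (a 23<|a 12<|a 11<|a 22<|a 10<|a 10<|a 22<|a 11<|a 12<|b))<|
 d (c (a 12<|a 4<|a 8<|a 4<|a 6<|a 6<|a 4<|a 8<|a 4<|b) (a 23<|a 10<|a 18<|a 13<|a 14<|a 14<|a 13<|a 18<|a 10<|b))<|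
 d (c (a 12<|a 6<|a 4<|a 4<|a 8<|a 8<|a 4<|a 4<|a 6<|b) (a 23<|a 14<|a 10<|a 13<|a 18<|a 18<|a 13<|a 10<|a 14<|b))<|
 e));
 (let e:=(d (c (a 0<|a 3<|a 6<|a 7<|a 12<|a 12<|a 7<|a 6<|a 3<|b) (a 25<|a 22<|a 15<|a 12<|a 5<|a 5<|a 12<|a 15<|a 22<|b))<|
 d (c (a 0<|a 6<|a 12<|a 7<|a 3<|a 3<|a 7<|a 12<|a 6<|b) (a 25<|a 15<|a 5<|a 12<|a 22<|a 22<|a 12<|a 5<|a 15<|b))<|
 d (c (a 0<|a 9<|a 9<|a 1<|a 9<|a 9<|a 1<|a 9<|a 9<|b) (a 25<|a 9<|a 9<|a 27<|a 9<|a 9<|a 27<|a 9<|a 9<|b))<|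
 d (c (a 0<|a 12<|a 3<|a 7<|a 6<|a 6<|a 7<|a 3<|a 12<|b) (a 25<|a 5<|a 22<|a 12<|a 15<|a 15<|a 12<|a 22<|a 5<|b))<|
 d (c (a 12<|a 2<|a 8<|a 4<|a 8<|a 8<|a 4<|a 8<|a 2<|b) (a 23<|a 8<|a 20<|a 10<|a 17<|a 17<|a 10<|a 20<|a 8<|b))<|
 e);
 (d (c (a 8<|a 3<|a 6<|a 12<|a 3<|a 3<|a 12<|a 6<|a 3<|b) (a 25<|a 12<|a 8<|a 21<|a 13<|a 13<|a 21<|a 8<|a 12<|b))<|
 d (c (a 8<|a 6<|a 3<|a 12<|a 3<|a 3<|a 12<|a 3<|a 6<|b) (a 25<|a 8<|a 13<|a 21<|a 12<|a 12<|a 21<|a 13<|a 8<|b))<|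
 d (c (a 6<|a 3<|a 12<|a 4<|a 6<|a 6<|a 4<|a 12<|a 3<|b) (a 25<|a 8<|a 16<|a 12<|a 18<|a 18<|a 12<|a 16<|a 8<|b))<|
 d (c (a 6<|a 6<|a 3<|a 4<|a 12<|a 12<|a 4<|a 3<|a 6<|b) (a 25<|a 18<|a 8<|a 12<|a 16<|a 16<|a 12<|a 8<|a 18<|b))<|
 d (c (a 6<|a 12<|a 6<|a 4<|a 3<|a 3<|a 4<|a 6<|a 12<|b) (a 25<|a 16<|a 18<|a 12<|a 8<|a 8<|a 12<|a 18<|a 16<|b))<|
 e)));
 (let e:=(let e:=(d (c (a 2<|a 5<|a 5<|a 6<|a 11<|a 11<|a 6<|a 5<|a 5<|b) (a 27<|a 16<|a 15<|a 11<|a 11<|a 11<|a 11<|a 15<|a 16<|b))<|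
 d (c (a 2<|a 5<|a 11<|a 6<|a 5<|a 5<|a 6<|a 11<|a 5<|b) (a 27<|a 15<|a 11<|a 11<|a 16<|a 16<|a 11<|a 11<|a 15<|b))<|
 d (c (a 2<|a 11<|a 5<|a 6<|a 5<|a 5<|a 6<|a 5<|a 11<|b) (a 27<|a 11<|a 16<|a 11<|a 15<|a 15<|a 11<|a 16<|a 11<|b))<|
 d (c (a 0<|a 6<|a 6<|a 10<|a 6<|a 6<|a 10<|a 6<|a 6<|b) (a 27<|a 15<|a 15<|a 8<|a 15<|a 15<|a 8<|a 15<|a 15<|b))<|
 d (c (a 8<|a 3<|a 3<|a 12<|a 6<|a 6<|a 12<|a 3<|a 3<|b) (a 25<|a 13<|a 12<|a 21<|a 8<|a 8<|a 21<|a 12<|a 13<|b))<|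
 e);
 (d (c (a 10<|a 5<|a 5<|a 11<|a 2<|a 2<|a 11<|a 5<|a 5<|b) (a 27<|a 12<|a 11<|a 20<|a 10<|a 10<|a 20<|a 11<|a 12<|b))<|
 d (c (a 10<|a 6<|a 1<|a 5<|a 11<|a 11<|a 5<|a 1<|a 6<|b) (a 27<|a 16<|a 6<|a 11<|a 20<|a 20<|a 11<|a 6<|a 16<|b))<|
 d (c (a 10<|a 6<|a 10<|a 5<|a 2<|a 2<|a 5<|a 10<|a 6<|b) (a 27<|a 16<|a 15<|a 11<|a 11<|a 11<|a 11<|a 15<|a 16<|b))<|
 d (c (a 10<|a 10<|a 2<|a 5<|a 6<|a 6<|a 5<|a 2<|a 10<|b) (a 27<|a 15<|a 11<|a 11<|a 16<|a 16<|a 11<|a 11<|a 15<|b))<|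
 d (c (a 10<|a 11<|a 6<|a 5<|a 1<|a 1<|a 5<|a 6<|a 11<|b) (a 27<|a 20<|a 16<|a 11<|a 6<|a 6<|a 11<|a 16<|a 20<|b))<|
 e));
 (let e:=(d (c (a 12<|a 12<|a 6<|a 4<|a 0<|a 0<|a 4<|a 6<|a 12<|b) (a 27<|a 24<|a 18<|a 8<|a 3<|a 3<|a 8<|a 18<|a 24<|b))<|
 d (c (a 10<|a 1<|a 11<|a 5<|a 6<|a 6<|a 5<|a 11<|a 1<|b) (a 27<|a 6<|a 20<|a 11<|a 16<|a 16<|a 11<|a 20<|a 6<|b))<|
 d (c (a 10<|a 2<|a 5<|a 11<|a 5<|a 5<|a 11<|a 5<|a 2<|b) (a 27<|a 10<|a 12<|a 20<|a 11<|a 11<|a 20<|a 12<|a 10<|b))<|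
 d (c (a 10<|a 2<|a 6<|a 5<|a 10<|a 10<|a 5<|a 6<|a 2<|b) (a 27<|a 11<|a 16<|a 11<|a 15<|a 15<|a 11<|a 16<|a 11<|b))<|
 d (c (a 10<|a 5<|a 2<|a 11<|a 5<|a 5<|a 11<|a 2<|a 5<|b) (a 27<|a 11<|a 10<|a 20<|a 12<|a 12<|a 20<|a 10<|a 11<|b))<|
 e);
 (d (c (a 0<|a 10<|a 10<|a 1<|a 7<|a 7<|a 1<|a 10<|a 10<|b) (a 29<|a 10<|a 7<|a 25<|a 10<|a 10<|a 25<|a 7<|a 10<|b))<|
 d (c (a 0<|a 11<|a 2<|a 10<|a 5<|a 5<|a 10<|a 2<|a 11<|b) (a 29<|a 5<|a 20<|a 7<|a 20<|a 20<|a 7<|a 20<|a 5<|b))<|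
 d (c (a 0<|a 12<|a 1<|a 10<|a 5<|a 5<|a 10<|a 1<|a 12<|b) (a 29<|a 2<|a 25<|a 10<|a 15<|a 15<|a 10<|a 25<|a 2<|b))<|
 d (c (a 12<|a 0<|a 12<|a 4<|a 6<|a 6<|a 4<|a 12<|a 0<|b) (a 27<|a 3<|a 24<|a 8<|a 18<|a 18<|a 8<|a 24<|a 3<|b))<|
 d (c (a 12<|a 6<|a 0<|a 4<|a 12<|a 12<|a 4<|a 0<|a 6<|b) (a 27<|a 18<|a 3<|a 8<|a 24<|a 24<|a 8<|a 3<|a 18<|b))<|
 e)))));
 (let e:=(let e:=(let e:=(let e:=(d (c (a 0<|a 5<|a 11<|a 10<|a 2<|a 2<|a 10<|a 11<|a 5<|b) (a 29<|a 20<|a 5<|a 7<|a 20<|a 20<|a 7<|a 5<|a 20<|b))<|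
 d (c (a 0<|a 5<|a 12<|a 10<|a 1<|a 1<|a 10<|a 12<|a 5<|b) (a 29<|a 15<|a 2<|a 10<|a 25<|a 25<|a 10<|a 2<|a 15<|b))<|
 d (c (a 0<|a 7<|a 10<|a 1<|a 10<|a 10<|a 1<|a 10<|a 7<|b) (a 29<|a 10<|a 10<|a 25<|a 7<|a 7<|a 25<|a 10<|a 10<|b))<|
 d (c (a 0<|a 10<|a 5<|a 10<|a 3<|a 3<|a 10<|a 5<|a 10<|b) (a 29<|a 7<|a 15<|a 10<|a 20<|a 20<|a 10<|a 15<|a 7<|b))<|
 d (c (a 0<|a 10<|a 7<|a 1<|a 10<|a 10<|a 1<|a 7<|a 10<|b) (a 29<|a 7<|a 10<|a 25<|a 10<|a 10<|a 25<|a 10<|a 7<|b))<|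
 e);
 (d (c (a 2<|a 10<|a 10<|a 0<|a 7<|a 7<|a 0<|a 10<|a 10<|b) (a 29<|a 10<|a 10<|a 25<|a 7<|a 7<|a 25<|a 10<|a 10<|b))<|
 d (c (a 0<|a 1<|a 5<|a 10<|a 12<|a 12<|a 10<|a 5<|a 1<|b) (a 29<|a 25<|a 15<|a 10<|a 2<|a 2<|a 10<|a 15<|a 25<|b))<|
 d (c (a 0<|a 2<|a 5<|a 10<|a 11<|a 11<|a 10<|a 5<|a 2<|b) (a 29<|a 20<|a 20<|a 7<|a 5<|a 5<|a 7<|a 20<|a 20<|b))<|
 d (c (a 0<|a 3<|a 10<|a 10<|a 5<|a 5<|a 10<|a 10<|a 3<|b) (a 29<|a 20<|a 7<|a 10<|a 15<|a 15<|a 10<|a 7<|a 20<|b))<|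
 d (c (a 0<|a 5<|a 3<|a 10<|a 10<|a 10<|a 10<|a 3<|a 5<|b) (a 29<|a 15<|a 20<|a 10<|a 7<|a 7<|a 10<|a 20<|a 15<|b))<|
 e));
 (let e:=(d (c (a 4<|a 1<|a 10<|a 5<|a 10<|a 10<|a 5<|a 10<|a 1<|b) (a 29<|a 12<|a 20<|a 10<|a 10<|a 10<|a 10<|a 20<|a 12<|b))<|
 d (c (a 4<|a 10<|a 1<|a 5<|a 10<|a 10<|a 5<|a 1<|a 10<|b) (a 29<|a 10<|a 12<|a 10<|a 20<|a 20<|a 10<|a 12<|a 10<|b))<|
 d (c (a 4<|a 10<|a 10<|a 5<|a 1<|a 1<|a 5<|a 10<|a 10<|b) (a 29<|a 20<|a 10<|a 10<|a 12<|a 12<|a 10<|a 10<|a 20<|b))<|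
 d (c (a 2<|a 7<|a 10<|a 0<|a 10<|a 10<|a 0<|a 10<|a 7<|b) (a 29<|a 7<|a 10<|a 25<|a 10<|a 10<|a 25<|a 10<|a 7<|b))<|
 d (c (a 2<|a 10<|a 7<|a 0<|a 10<|a 10<|a 0<|a 7<|a 10<|b) (a 29<|a 10<|a 7<|a 25<|a 10<|a 10<|a 25<|a 7<|a 10<|b))<|
 e);
 (d (c (a 2<|a 9<|a 1<|a 9<|a 8<|a 8<|a 9<|a 1<|a 9<|b) (a 31<|a 9<|a 17<|a 9<|a 16<|a 16<|a 9<|a 17<|a 9<|b))<|
 d (c (a 0<|a 9<|a 9<|a 1<|a 9<|a 9<|a 1<|a 9<|a 9<|b) (a 31<|a 9<|a 9<|a 24<|a 9<|a 9<|a 24<|a 9<|a 9<|b))<|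
 d (c (a 10<|a 1<|a 10<|a 2<|a 10<|a 10<|a 2<|a 10<|a 1<|b) (a 29<|a 5<|a 22<|a 10<|a 15<|a 15<|a 10<|a 22<|a 5<|b))<|
 d (c (a 10<|a 10<|a 1<|a 2<|a 10<|a 10<|a 2<|a 1<|a 10<|b) (a 29<|a 15<|a 5<|a 10<|a 22<|a 22<|a 10<|a 5<|a 15<|b))<|
 d (c (a 10<|a 10<|a 10<|a 2<|a 1<|a 1<|a 2<|a 10<|a 10<|b) (a 29<|a 22<|a 15<|a 10<|a 5<|a 5<|a 10<|a 15<|a 22<|b))<|
 e)));
 (let e:=(let e:=(d (c (a 0<|a 0<|a 3<|a 10<|a 15<|a 15<|a 10<|a 3<|a 0<|b) (a 33<|a 30<|a 15<|a 5<|a 0<|a 0<|a 5<|a 15<|a 30<|b))<|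
 d (c (a 0<|a 3<|a 15<|a 10<|a 0<|a 0<|a 10<|a 15<|a 3<|b) (a 33<|a 15<|a 0<|a 5<|a 30<|a 30<|a 5<|a 0<|a 15<|b))<|
 d (c (a 0<|a 15<|a 0<|a 10<|a 3<|a 3<|a 10<|a 0<|a 15<|b) (a 33<|a 0<|a 30<|a 5<|a 15<|a 15<|a 5<|a 30<|a 0<|b))<|
 d (c (a 2<|a 1<|a 8<|a 9<|a 9<|a 9<|a 9<|a 8<|a 1<|b) (a 31<|a 17<|a 16<|a 9<|a 9<|a 9<|a 9<|a 16<|a 17<|b))<|
 d (c (a 2<|a 8<|a 9<|a 9<|a 1<|a 1<|a 9<|a 9<|a 8<|b) (a 31<|a 16<|a 9<|a 9<|a 17<|a 17<|a 9<|a 9<|a 16<|b))<|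
 e);
 (d (c (a 16<|a 2<|a 2<|a 8<|a 8<|a 8<|a 8<|a 2<|a 2<|b) (a 33<|a 9<|a 8<|a 17<|a 16<|a 16<|a 17<|a 8<|a 9<|b))<|
 d (c (a 16<|a 2<|a 8<|a 8<|a 2<|a 2<|a 8<|a 8<|a 2<|b) (a 33<|a 8<|a 16<|a 17<|a 9<|a 9<|a 17<|a 16<|a 8<|b))<|
 d (c (a 16<|a 8<|a 0<|a 2<|a 10<|a 10<|a 2<|a 0<|a 8<|b) (a 33<|a 17<|a 1<|a 8<|a 24<|a 24<|a 8<|a 1<|a 17<|b))<|
 d (c (a 16<|a 8<|a 2<|a 8<|a 2<|a 2<|a 8<|a 2<|a 8<|b) (a 33<|a 16<|a 9<|a 17<|a 8<|a 8<|a 17<|a 9<|a 16<|b))<|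
 d (c (a 16<|a 10<|a 8<|a 2<|a 0<|a 0<|a 2<|a 8<|a 10<|b) (a 33<|a 24<|a 17<|a 8<|a 1<|a 1<|a 8<|a 17<|a 24<|b))<|
 e));
 (let e:=(d (c (a 0<|a 6<|a 15<|a 1<|a 6<|a 6<|a 1<|a 15<|a 6<|b) (a 37<|a 6<|a 6<|a 21<|a 15<|a 15<|a 21<|a 6<|a 6<|b))<|
 d (c (a 0<|a 6<|a 15<|a 7<|a 0<|a 0<|a 7<|a 15<|a 6<|b) (a 37<|a 20<|a 1<|a 6<|a 21<|a 21<|a 6<|a 1<|a 20<|b))<|
 d (c (a 0<|a 15<|a 0<|a 7<|a 6<|a 6<|a 7<|a 0<|a 15<|b) (a 37<|a 1<|a 21<|a 6<|a 20<|a 20<|a 6<|a 21<|a 1<|b))<|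
 d (c (a 0<|a 15<|a 6<|a 1<|a 6<|a 6<|a 1<|a 6<|a 15<|b) (a 37<|a 6<|a 15<|a 21<|a 6<|a 6<|a 21<|a 15<|a 6<|b))<|
 d (c (a 16<|a 0<|a 10<|a 2<|a 8<|a 8<|a 2<|a 10<|a 0<|b) (a 33<|a 1<|a 24<|a 8<|a 17<|a 17<|a 8<|a 24<|a 1<|b))<|
 e);
 (d (c (a 2<|a 0<|a 6<|a 15<|a 6<|a 6<|a 15<|a 6<|a 0<|b) (a 37<|a 20<|a 7<|a 15<|a 6<|a 6<|a 15<|a 7<|a 20<|b))<|
 d (c (a 2<|a 6<|a 0<|a 15<|a 6<|a 6<|a 15<|a 0<|a 6<|b) (a 37<|a 6<|a 20<|a 15<|a 7<|a 7<|a 15<|a 20<|a 6<|b))<|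
 d (c (a 2<|a 6<|a 6<|a 15<|a 0<|a 0<|a 15<|a 6<|a 6<|b) (a 37<|a 7<|a 6<|a 15<|a 20<|a 20<|a 15<|a 6<|a 7<|b))<|
 d (c (a 0<|a 0<|a 6<|a 7<|a 15<|a 15<|a 7<|a 6<|a 0<|b) (a 37<|a 21<|a 20<|a 6<|a 1<|a 1<|a 6<|a 20<|a 21<|b))<|
 d (c (a 0<|a 6<|a 6<|a 1<|a 15<|a 15<|a 1<|a 6<|a 6<|b) (a 37<|a 15<|a 6<|a 21<|a 6<|a 6<|a 21<|a 6<|a 15<|b))<|
 e))));
 (let e:=(let e:=(let e:=(d (c (a 20<|a 6<|a 0<|a 6<|a 6<|a 6<|a 6<|a 0<|a 6<|b) (a 37<|a 15<|a 2<|a 15<|a 16<|a 16<|a 15<|a 2<|a 15<|b))<|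
 d (c (a 20<|a 6<|a 6<|a 6<|a 0<|a 0<|a 6<|a 6<|a 6<|b) (a 37<|a 16<|a 15<|a 15<|a 2<|a 2<|a 15<|a 15<|a 16<|b))<|
 d (c (a 12<|a 0<|a 15<|a 1<|a 6<|a 6<|a 1<|a 15<|a 0<|b) (a 37<|a 0<|a 26<|a 6<|a 16<|a 16<|a 6<|a 26<|a 0<|b))<|
 d (c (a 12<|a 6<|a 0<|a 1<|a 15<|a 15<|a 1<|a 0<|a 6<|b) (a 37<|a 16<|a 0<|a 6<|a 26<|a 26<|a 6<|a 0<|a 16<|b))<|
 d (c (a 12<|a 15<|a 6<|a 1<|a 0<|a 0<|a 1<|a 6<|a 15<|b) (a 37<|a 26<|a 16<|a 6<|a 0<|a 0<|a 6<|a 16<|a 26<|b))<|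
 e);
 (d (c (a 20<|a 0<|a 0<|a 18<|a 0<|a 0<|a 18<|a 0<|a 0<|b) (a 43<|a 0<|a 0<|a 45<|a 0<|a 0<|a 45<|a 0<|a 0<|b))<|
 d (c (a 20<|a 0<|a 12<|a 0<|a 6<|a 6<|a 0<|a 12<|a 0<|b) (a 39<|a 0<|a 30<|a 2<|a 15<|a 15<|a 2<|a 30<|a 0<|b))<|
 d (c (a 20<|a 6<|a 0<|a 0<|a 12<|a 12<|a 0<|a 0<|a 6<|b) (a 39<|a 15<|a 0<|a 2<|a 30<|a 30<|a 2<|a 0<|a 15<|b))<|
 d (c (a 20<|a 12<|a 6<|a 0<|a 0<|a 0<|a 0<|a 6<|a 12<|b) (a 39<|a 30<|a 15<|a 2<|a 0<|a 0<|a 2<|a 15<|a 30<|b))<|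
 d (c (a 20<|a 0<|a 6<|a 6<|a 6<|a 6<|a 6<|a 6<|a 0<|b) (a 37<|a 2<|a 16<|a 15<|a 15<|a 15<|a 15<|a 16<|a 2<|b))<|
 e));
 (let e:=(d (c (a 0<|a 1<|a 17<|a 10<|a 0<|a 0<|a 10<|a 17<|a 1<|b) (a 47<|a 16<|a 0<|a 1<|a 26<|a 26<|a 1<|a 0<|a 16<|b))<|
 d (c (a 0<|a 10<|a 1<|a 16<|a 1<|a 1<|a 16<|a 1<|a 10<|b) (a 47<|a 0<|a 17<|a 10<|a 16<|a 16<|a 10<|a 17<|a 0<|b))<|
 d (c (a 0<|a 10<|a 16<|a 1<|a 1<|a 1<|a 1<|a 16<|a 10<|b) (a 47<|a 16<|a 1<|a 16<|a 10<|a 10<|a 16<|a 1<|a 16<|b))<|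
 d (c (a 0<|a 16<|a 1<|a 1<|a 10<|a 10<|a 1<|a 1<|a 16<|b) (a 47<|a 1<|a 10<|a 16<|a 16<|a 16<|a 16<|a 10<|a 1<|b))<|
 d (c (a 0<|a 17<|a 0<|a 10<|a 1<|a 1<|a 10<|a 0<|a 17<|b) (a 47<|a 0<|a 26<|a 1<|a 16<|a 16<|a 1<|a 26<|a 0<|b))<|
 e);
 (d (c (a 2<|a 16<|a 10<|a 0<|a 1<|a 1<|a 0<|a 10<|a 16<|b) (a 47<|a 16<|a 10<|a 16<|a 1<|a 1<|a 16<|a 10<|a 16<|b))<|
 d (c (a 0<|a 0<|a 1<|a 10<|a 17<|a 17<|a 10<|a 1<|a 0<|b) (a 47<|a 26<|a 16<|a 1<|a 0<|a 0<|a 1<|a 16<|a 26<|b))<|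
 d (c (a 0<|a 1<|a 1<|a 16<|a 10<|a 10<|a 16<|a 1<|a 1<|b) (a 47<|a 17<|a 16<|a 10<|a 0<|a 0<|a 10<|a 16<|a 17<|b))<|
 d (c (a 0<|a 1<|a 10<|a 1<|a 16<|a 16<|a 1<|a 10<|a 1<|b) (a 47<|a 10<|a 16<|a 16<|a 1<|a 1<|a 16<|a 16<|a 10<|b))<|
 d (c (a 0<|a 1<|a 10<|a 16<|a 1<|a 1<|a 16<|a 10<|a 1<|b) (a 47<|a 16<|a 0<|a 10<|a 17<|a 17<|a 10<|a 0<|a 16<|b))<|
 e)));
 (let e:=(let e:=(d (c (a 0<|a 0<|a 0<|a 7<|a 21<|a 21<|a 7<|a 0<|a 0<|b) (a 49<|a 35<|a 7<|a 0<|a 0<|a 0<|a 0<|a 7<|a 35<|b))<|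
 d (c (a 0<|a 0<|a 21<|a 7<|a 0<|a 0<|a 7<|a 21<|a 0<|b) (a 49<|a 7<|a 0<|a 0<|a 35<|a 35<|a 0<|a 0<|a 7<|b))<|
 d (c (a 0<|a 21<|a 0<|a 7<|a 0<|a 0<|a 7<|a 0<|a 21<|b) (a 49<|a 0<|a 35<|a 0<|a 7<|a 7<|a 0<|a 35<|a 0<|b))<|
 d (c (a 2<|a 1<|a 16<|a 0<|a 10<|a 10<|a 0<|a 16<|a 1<|b) (a 47<|a 1<|a 16<|a 16<|a 10<|a 10<|a 16<|a 16<|a 1<|b))<|
 d (c (a 2<|a 10<|a 1<|a 0<|a 16<|a 16<|a 0<|a 1<|a 10<|b) (a 47<|a 10<|a 1<|a 16<|a 16<|a 16<|a 16<|a 1<|a 10<|b))<|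
 e);
 (d (c (a 20<|a 0<|a 0<|a 18<|a 0<|a 0<|a 18<|a 0<|a 0<|b) (a 49<|a 0<|a 0<|a 42<|a 0<|a 0<|a 42<|a 0<|a 0<|b))<|
 d (c (a 20<|a 0<|a 16<|a 0<|a 2<|a 2<|a 0<|a 16<|a 0<|b) (a 49<|a 0<|a 32<|a 0<|a 10<|a 10<|a 0<|a 32<|a 0<|b))<|
 d (c (a 20<|a 2<|a 0<|a 0<|a 16<|a 16<|a 0<|a 0<|a 2<|b) (a 49<|a 10<|a 0<|a 0<|a 32<|a 32<|a 0<|a 0<|a 10<|b))<|
 d (c (a 20<|a 16<|a 2<|a 0<|a 0<|a 0<|a 0<|a 2<|a 16<|b) (a 49<|a 32<|a 10<|a 0<|a 0<|a 0<|a 0<|a 10<|a 32<|b))<|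
 d (c (a 14<|a 0<|a 0<|a 21<|a 0<|a 0<|a 21<|a 0<|a 0<|b) (a 49<|a 0<|a 0<|a 42<|a 0<|a 0<|a 42<|a 0<|a 0<|b))<|
 e));
 (let e:=(d (c (a 0<|a 27<|a 0<|a 1<|a 0<|a 0<|a 1<|a 0<|a 27<|b) (a 79<|a 0<|a 27<|a 0<|a 0<|a 0<|a 0<|a 27<|a 0<|b))<|
 d (c (a 32<|a 0<|a 0<|a 0<|a 12<|a 12<|a 0<|a 0<|a 0<|b) (a 67<|a 1<|a 0<|a 0<|a 32<|a 32<|a 0<|a 0<|a 1<|b))<|
 d (c (a 32<|a 0<|a 0<|a 12<|a 0<|a 0<|a 12<|a 0<|a 0<|b) (a 67<|a 0<|a 0<|a 33<|a 0<|a 0<|a 33<|a 0<|a 0<|b))<|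
 d (c (a 32<|a 0<|a 12<|a 0<|a 0<|a 0<|a 0<|a 12<|a 0<|b) (a 67<|a 0<|a 32<|a 0<|a 1<|a 1<|a 0<|a 32<|a 0<|b))<|
 d (c (a 32<|a 12<|a 0<|a 0<|a 0<|a 0<|a 0<|a 0<|a 12<|b) (a 67<|a 32<|a 1<|a 0<|a 0<|a 0<|a 0<|a 1<|a 32<|b))<|
 e);
 (a (c (a 56<|a 0<|a 0<|a 0<|a 0<|a 0<|a 0<|a 0<|a 0<|b) (a 133<|a 0<|a 0<|a 0<|a 0<|a 0<|a 0<|a 0<|a 0<|b))<|
 a (c (a 2<|a 0<|a 0<|a 27<|a 0<|a 0<|a 27<|a 0<|a 0<|b) (a 79<|a 0<|a 0<|a 27<|a 0<|a 0<|a 27<|a 0<|a 0<|b))<|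
 a (c (a 0<|a 0<|a 0<|a 1<|a 27<|a 27<|a 1<|a 0<|a 0<|b) (a 79<|a 27<|a 0<|a 0<|a 0<|a 0<|a 0<|a 0<|a 27<|b))<|
 a (c (a 0<|a 0<|a 27<|a 1<|a 0<|a 0<|a 1<|a 27<|a 0<|b) (a 79<|a 0<|a 0<|a 0<|a 27<|a 27<|a 0<|a 0<|a 0<|b))<|
 e)))))))

private theorem _root_.Cfsg.Agent.KO762813f.e0.{ku, kv} {α : Type kv} {M : List α → Sort ku} (φ : ∀ l, M l) {z : M List.nil} {s : ∀ a l, M l → M (List.cons a l)} (h0 : φ List.nil = z) (hs : ∀ a l, φ (List.cons a l) = s a l (φ l)) (l : List α) : φ l = @List.rec α M z s l := List.rec h0 (fun a l ih => (hs a l).trans (congrArg (s a l) ih)) l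
private noncomputable def _root_.Cfsg.Agent.KO762813f.k1.{ku0} : type_of% @List.all.{ku0} := @(fun x0 x1 x2 => @List.rec.{(ku0+1), ku0} @x0 @(fun x3 => (@x0 → @Bool) → @Bool) @(fun x3 => @Bool.true) @(fun x3 x4 x5 x6 => @Bool.rec.{1} @(fun x7 => @Bool) @Bool.false (@x5 @x6) (@x6 @x3)) @x1 @x2)
private theorem _root_.Cfsg.Agent.KO762813f.e1.{ku0} : @List.all.{ku0} = @_root_.Cfsg.Agent.KO762813f.k1.{ku0} := by delta _root_.Cfsg.Agent.KO762813f.k1; funext a0 a1 a2; refine (congrFun (_root_.Cfsg.Agent.KO762813f.e0 (fun a1 a2 => @List.all.{ku0} a0 a1 a2) ?_ (fun c0 c1 => ?_) a1) a2 :) <;> (rfl')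
private theorem _root_.Cfsg.Agent.KO762813f.e2.{ku} {M : Nat → Sort ku} (φ : ∀ n, M n) {z : M Nat.zero} {s : ∀ n, M n → M (Nat.succ n)} (h0 : φ Nat.zero = z) (hs : ∀ n, φ (Nat.succ n) = s n (φ n)) (n : Nat) : φ n = @Nat.rec M z s n := Nat.rec h0 (fun n ih => (hs n).trans (congrArg (s n) ih)) n
private noncomputable def _root_.Cfsg.Agent.KO762813f.k3 : type_of% @List.range.loop := @(fun x0 x1 => @Nat.rec.{1} @(fun x2 => (@List.{0} ℕ) → @List.{0} ℕ) @(fun x2 => @x2) @(fun x2 x3 x4 => @x3 (@x2 :: @x4)) @x0 @x1)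
private theorem _root_.Cfsg.Agent.KO762813f.e3 : @List.range.loop = @_root_.Cfsg.Agent.KO762813f.k3 := by delta _root_.Cfsg.Agent.KO762813f.k3; funext a0 a1; refine (congrFun (_root_.Cfsg.Agent.KO762813f.e2 (fun a0 a1 => @List.range.loop a0 a1) ?_ (fun c0 => ?_) a0) a1 :) <;> (rfl')
private noncomputable def _root_.Cfsg.Agent.KO762813f.k4 : (by first | exact type_of% @Cfsg.Agent.H944.Tab.allAlc | exact Unit : Sort _) := by first | (refine @Subtype.val _ (fun g => @Cfsg.Agent.H944.Tab.allAlc = @g) (@Subtype.mk _ _ (@(fun x0 x1 x2 => @List.rec.{1, 0} ℕ @(fun x3 => ℕ → ((@List.{0} ℕ) → @Bool) → @Bool) @(fun x3 x4 => @x4 []) @(fun x3 x4 x5 x6 x7 => @Cfsg.Agent.KO762813f.k1.{0} _ (@Cfsg.Agent.KO762813f.k3 (@Nat.add (@Nat.div @x6 @x3) (nat_lit 1)) []) @(fun x8 => @x5 (@Nat.sub @x6 (@Nat.mul @x3 @x8)) @(fun x9 => @x7 (@x8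 :: @x9)))) @x0 @x1 @x2)) ?_); rewrite [← Cfsg.Agent.KO762813f.e3, ← Cfsg.Agent.KO762813f.e1.{0}]; funext a0 a1 a2; refine (congrFun (congrFun (_root_.Cfsg.Agent.KO762813f.e0 (fun a0 a1 a2 => @Cfsg.Agent.H944.Tab.allAlc a0 a1 a2) ?_ (fun c0 c1 => ?_) a0) a1) a2 :) <;> (rfl')) | exact @Cfsg.Agent.H944.Tab.allAlc | exact ()
private theorem _root_.Cfsg.Agent.KO762813f.e4 : (by first | exact @Cfsg.Agent.H944.Tab.allAlc = @_root_.Cfsg.Agent.KO762813f.k4 | exact True : Prop) := by first | (delta _root_.Cfsg.Agent.KO762813f.k4; exact @Subtype.property _ (fun g => @Cfsg.Agent.H944.Tab.allAlc = @g) _) | rfl | trivial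
private noncomputable def _root_.Cfsg.Agent.KO762813f.k5 : type_of% @List.range := @(fun x0 => @Cfsg.Agent.KO762813f.k3 @x0 [])
private theorem _root_.Cfsg.Agent.KO762813f.e5 : @List.range = @_root_.Cfsg.Agent.KO762813f.k5 := by delta _root_.Cfsg.Agent.KO762813f.k5; rewrite [← Cfsg.Agent.KO762813f.e3]; rfl'
private noncomputable def _root_.Cfsg.Agent.KO762813f.k6 : type_of% @Bool.or := @(fun x0 x1 => @Bool.rec.{1} @(fun x2 => @Bool) @x1 @Bool.true @x0)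
private theorem _root_.Cfsg.Agent.KO762813f.e6 : @Bool.or = @_root_.Cfsg.Agent.KO762813f.k6 := by delta _root_.Cfsg.Agent.KO762813f.k6; rfl'
private noncomputable def _root_.Cfsg.Agent.KO762813f.k7 : type_of% @Bool.not := @(fun x0 => @Bool.rec.{1} @(fun x1 => @Bool) @Bool.true @Bool.false @x0)
private theorem _root_.Cfsg.Agent.KO762813f.e7 : @Bool.not = @_root_.Cfsg.Agent.KO762813f.k7 := by delta _root_.Cfsg.Agent.KO762813f.k7; rfl'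
private noncomputable def _root_.Cfsg.Agent.KO762813f.k8 : type_of% @Nat.decEq := @(fun x0 x1 => @Bool.rec.{1} @(fun x2 => (@Eq.{1} _ (@Nat.beq @x0 @x1) @x2) → @Decidable (@Eq.{1} _ @x0 @x1)) @(fun x2 => @Decidable.isFalse _ (@Nat.ne_of_beq_eq_false _ _ @x2)) @(fun x2 => @Decidable.isTrue _ (@Nat.eq_of_beq_eq_true _ _ @x2)) (@Nat.beq @x0 @x1) (@Eq.refl.{1} _ (@Nat.beq @x0 @x1)))
private theorem _root_.Cfsg.Agent.KO762813f.e8 : @Nat.decEq = @_root_.Cfsg.Agent.KO762813f.k8 := by delta _root_.Cfsg.Agent.KO762813f.k8; rfl'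
private noncomputable def _root_.Cfsg.Agent.KO762813f.k9 : type_of% @instDecidableEqNat := @Cfsg.Agent.KO762813f.k8
private theorem _root_.Cfsg.Agent.KO762813f.e9 : @instDecidableEqNat = @_root_.Cfsg.Agent.KO762813f.k9 := by delta _root_.Cfsg.Agent.KO762813f.k9; rewrite [← Cfsg.Agent.KO762813f.e8]; rfl'
private noncomputable def _root_.Cfsg.Agent.KO762813f.k11 : (by first | exact type_of% @Cfsg.Agent.R2.T1.dt | exact Unit : Sort _) := by first | (refine @Subtype.val _ (fun g => @Cfsg.Agent.R2.T1.dt = @g) (@Subtype.mk _ _ (@(fun x0 x1 => @List.rec.{1, 0} ℕ @(fun x2 => (@List.{0} ℕ) → ℕ) @(fun x2 => nat_lit 0) @(fun x2 x3 x4 x5 => @List.rec.{1, 0} ℕ @(fun x6 => ((@Nat.hasNotBit (nat_lit 2) (@List.ctorIdx.{0} _ @x6)) → ℕ) → ℕ) @(fun x6 => @x6 (@Nat.ne_of_beq_eq_false _ _ (@Eq.refl.{1} _ @Bool.false))) @(fun x6 x7 x8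 x9 => @Nat.add (@Nat.mul @x2 @x6) (@x4 @x7)) @x5 @(fun x6 => nat_lit 0)) @x0 @x1)) ?_); funext a0 a1; refine (congrFun (_root_.Cfsg.Agent.KO762813f.e0 (fun a0 a1 => @Cfsg.Agent.R2.T1.dt a0 a1) ?_ (fun c0 c1 => ?_) a0) a1 :) <;> [(funext b0; (rfl')); (funext b0; (cases b0 with | @nil  => (rfl') | @cons b0_0 b0_1 => (rfl')))]) | exact @Cfsg.Agent.R2.T1.dt | exact ()
private theorem _root_.Cfsg.Agent.KO762813f.e11 : (by first | exact @Cfsg.Agent.R2.T1.dt = @_root_.Cfsg.Agent.KO762813f.k11 | exact True : Prop) := by first | (delta _root_.Cfsg.Agent.KO762813f.k11; exact @Subtype.property _ (fun g => @Cfsg.Agent.R2.T1.dt = @g) _) | rfl | trivial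
private noncomputable def _root_.Cfsg.Agent.KO762813f.k12.{ku0} : type_of% @List.elem.{ku0} := @(fun x0 x1 x2 x3 => @List.rec.{1, ku0} @x0 @(fun x4 => @Bool) @Bool.false @(fun x4 x5 x6 => @Bool.rec.{1} @(fun x7 => @Bool) @x6 @Bool.true (@BEq.beq.{ku0} _ @x1 @x2 @x4)) @x3)
private theorem _root_.Cfsg.Agent.KO762813f.e12.{ku0} : @List.elem.{ku0} = @_root_.Cfsg.Agent.KO762813f.k12.{ku0} := by delta _root_.Cfsg.Agent.KO762813f.k12; funext a0 a1 a2 a3; refine (_root_.Cfsg.Agent.KO762813f.e0 (fun a3 => @List.elem.{ku0} a0 a1 a2 a3) ?_ (fun c0 c1 => ?_) a3 :) <;> (rfl')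
private noncomputable def _root_.Cfsg.Agent.KO762813f.k13.{ku0} : type_of% @List.contains.{ku0} := @(fun x0 x1 x2 x3 => @Cfsg.Agent.KO762813f.k12.{ku0} _ @x1 @x3 @x2)
private theorem _root_.Cfsg.Agent.KO762813f.e13.{ku0} : @List.contains.{ku0} = @_root_.Cfsg.Agent.KO762813f.k13.{ku0} := by delta _root_.Cfsg.Agent.KO762813f.k13; rewrite [← Cfsg.Agent.KO762813f.e12.{ku0}]; rfl'
private noncomputable def _root_.Cfsg.Agent.KO762813f.k14.{ku0, ku1} : type_of% @List.map.{ku0, ku1} := @(fun x0 x1 x2 x3 => @List.rec.{(ku1+1), ku0} @x0 @(fun x4 => @List.{ku1} @x1) [] @(fun x4 x5 x6 => (@x2 @x4) :: @x6) @x3)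
private theorem _root_.Cfsg.Agent.KO762813f.e14.{ku0, ku1} : @List.map.{ku0, ku1} = @_root_.Cfsg.Agent.KO762813f.k14.{ku0, ku1} := by delta _root_.Cfsg.Agent.KO762813f.k14; funext a0 a1 a2 a3; refine (_root_.Cfsg.Agent.KO762813f.e0 (fun a3 => @List.map.{ku0, ku1} a0 a1 a2 a3) ?_ (fun c0 c1 => ?_) a3 :) <;> (rfl')
private noncomputable def _root_.Cfsg.Agent.KO762813f.k15 : (by first | exact type_of% @Cfsg.Agent.R2.T1.Fq.dg | exact Unit : Sort _) := by first | (refine @Subtype.val _ (fun g => @Cfsg.Agent.R2.T1.Fq.dg = @g) (@Subtype.mk _ _ (@(fun x0 x1 => @Nat.mod (@Nat.shiftRight @x0 (@Nat.mul (nat_lit 8) @x1)) (nat_lit 256))) ?_); rfl') | exact @Cfsg.Agent.R2.T1.Fq.dg | exact ()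
private theorem _root_.Cfsg.Agent.KO762813f.e15 : (by first | exact @Cfsg.Agent.R2.T1.Fq.dg = @_root_.Cfsg.Agent.KO762813f.k15 | exact True : Prop) := by first | (delta _root_.Cfsg.Agent.KO762813f.k15; exact @Subtype.property _ (fun g => @Cfsg.Agent.R2.T1.Fq.dg = @g) _) | rfl | trivial
private noncomputable def _root_.Cfsg.Agent.KO762813f.k16 : (by first | exact type_of% @Cfsg.Agent.R2.T1.Fq.hd | exact Unit : Sort _) := by first | (refine @Subtype.val _ (fun g => @Cfsg.Agent.R2.T1.Fq.hd = @g) (@Subtype.mk _ _ (@(fun x0 x1 => @List.rec.{1, 0} ℕ @(fun x2 => ℕ) (@x1 (nat_lit 1) []) @(fun x2 x3 x4 => @Nat.rec.{1} @(fun x5 => ℕ) (@x1 (nat_lit 0) @x3) @(fun x5 x6 => @x1 (@Nat.succ @x5) @x3) (@Nat.pow (nat_lit 256) @x2)) @x0)) ?_); rfl') | exact @Cfsg.Agent.R2.T1.Fq.hd | exact ()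
private theorem _root_.Cfsg.Agent.KO762813f.e16 : (by first | exact @Cfsg.Agent.R2.T1.Fq.hd = @_root_.Cfsg.Agent.KO762813f.k16 | exact True : Prop) := by first | (delta _root_.Cfsg.Agent.KO762813f.k16; exact @Subtype.property _ (fun g => @Cfsg.Agent.R2.T1.Fq.hd = @g) _) | rfl | trivial
private noncomputable def _root_.Cfsg.Agent.KO762813f.k17 : (by first | exact type_of% @Cfsg.Agent.R2.T1.Fq.ev7 | exact Unit : Sort _) := by first | (refine @Subtype.val _ (fun g => @Cfsg.Agent.R2.T1.Fq.ev7 = @g) (@Subtype.mk _ _ (@(fun x0 x1 => @Cfsg.Agent.KO762813f.k16 @x1 @(fun x2 x3 => @Cfsg.Agent.KO762813f.k16 @x3 @(fun x4 x5 => @Cfsg.Agent.KO762813f.k16 @x5 @(fun x6 x7 => @Cfsg.Agent.KO762813f.k16 @x7 @(fun x8 x9 => @Cfsg.Agent.KO762813f.k16 @x9 @(fun x10 x11 => @Cfsg.Agent.KO762813f.k16 @x11 @(fun x12 x13 => @Cfsg.Agent.KO762813f.k16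 @x13 @(fun x14 x15 => @x0 @x2 @x4 @x6 @x8 @x10 @x12 @x14))))))))) ?_); rewrite [← Cfsg.Agent.KO762813f.e16]; (try delta Cfsg.Agent.R2.T1.Fq.ev7); (try generalize @Cfsg.Agent.R2.T1.Fq.hd = g0); rfl') | exact @Cfsg.Agent.R2.T1.Fq.ev7 | exact ()
private theorem _root_.Cfsg.Agent.KO762813f.e17 : (by first | exact @Cfsg.Agent.R2.T1.Fq.ev7 = @_root_.Cfsg.Agent.KO762813f.k17 | exact True : Prop) := by first | (delta _root_.Cfsg.Agent.KO762813f.k17; exact @Subtype.property _ (fun g => @Cfsg.Agent.R2.T1.Fq.ev7 = @g) _) | rfl | trivial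
private noncomputable def _root_.Cfsg.Agent.KO762813f.k18 : (by first | exact type_of% @Cfsg.Agent.R2.T1.Fq.fV | exact Unit : Sort _) := by first | (refine @Subtype.val _ (fun g => @Cfsg.Agent.R2.T1.Fq.fV = @g) (@Subtype.mk _ _ (@(fun x0 x1 x2 x3 => @Cfsg.Agent.KO762813f.k15 (@Nat.mod (@Nat.mul (@Nat.pow (nat_lit 256) @x2) (@Cfsg.Agent.KO762813f.k17 @Cfsg.Agent.R2.T1.Fq.pV @x1)) (@Nat.rec.{1} @(fun x4 => ℕ) (nat_lit 0) @(fun x4 x5 => @x4) (@Nat.pow (nat_lit 256) @x0))) @x3)) ?_); rewrite [← Cfsg.Agent.KO762813f.e17, ← Cfsg.Agent.KO762813f.e15]; (try delta Cfsg.Agent.R2.T1.Fq.fV Cfsg.Agent.R2.T1.Fq.hs); (try generalize @Cfsg.Agent.R2.T1.Fq.dg = g0); (try generalize @Cfsg.Agent.R2.T1.Fq.ev7 = g1); (try generalize @Cfsg.Agent.R2.T1.Fq.pV = g2); rfl') | exact @Cfsg.Agent.R2.T1.Fq.fV | exact ()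
private theorem _root_.Cfsg.Agent.KO762813f.e18 : (by first | exact @Cfsg.Agent.R2.T1.Fq.fV = @_root_.Cfsg.Agent.KO762813f.k18 | exact True : Prop) := by first | (delta _root_.Cfsg.Agent.KO762813f.k18; exact @Subtype.property _ (fun g => @Cfsg.Agent.R2.T1.Fq.fV = @g) _) | rfl | trivial
private noncomputable def _root_.Cfsg.Agent.KO762813f.k19 : (by first | exact type_of% @Cfsg.Agent.R2.T1.Fq.fL | exact Unit : Sort _) := by first | (refine @Subtype.val _ (fun g => @Cfsg.Agent.R2.T1.Fq.fL = @g) (@Subtype.mk _ _ (@(fun x0 x1 x2 => @Nat.add (@Bool.rec.{1} @(fun x3 => ℕ) (nat_lit 0) (nat_lit 7) (@Nat.beq @x2 (nat_lit 0))) (@Nat.add (@Cfsg.Agent.KO762813f.k15 (@Nat.mod (@Cfsg.Agent.KO762813f.k17 @Cfsg.Agent.R2.T1.Fq.pL @x1) (@Nat.rec.{1} @(fun x3 => ℕ) (nat_lit 0) @(fun x3 x4 => @x3) (@Nat.pow (nat_lit 256) @x0))) @x2)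 (@Cfsg.Agent.KO762813f.k15 (@Nat.mod (@Cfsg.Agent.KO762813f.k17 @Cfsg.Agent.R2.T1.Fq.pL @x1) (@Nat.rec.{1} @(fun x3 => ℕ) (nat_lit 0) @(fun x3 x4 => @x3) (@Nat.pow (nat_lit 256) @x0))) (@Nat.mod (@Nat.sub @x0 (@Nat.mod @x2 @x0)) @x0))))) ?_); rewrite [← Cfsg.Agent.KO762813f.e17, ← Cfsg.Agent.KO762813f.e15]; (try delta Cfsg.Agent.R2.T1.Fq.fL Cfsg.Agent.R2.T1.Fq.hs); (try generalize @Cfsg.Agent.R2.T1.Fq.dg = g0); (try generalize @Cfsg.Agent.R2.T1.Fq.ev7 = g1); (try generalize @Cfsg.Agent.R2.T1.Fq.pL = g2); rfl') | exact @Cfsg.Agent.R2.T1.Fq.fL | exact ()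
private theorem _root_.Cfsg.Agent.KO762813f.e19 : (by first | exact @Cfsg.Agent.R2.T1.Fq.fL = @_root_.Cfsg.Agent.KO762813f.k19 | exact True : Prop) := by first | (delta _root_.Cfsg.Agent.KO762813f.k19; exact @Subtype.property _ (fun g => @Cfsg.Agent.R2.T1.Fq.fL = @g) _) | rfl | trivial

theorem chk9 : chk 9 T9 = true := by
  delta chk
  rw [Fq.cV_eq (N := 9) (by decide), Fq.cL_eq (N := 9) (by decide)]
  (first | (rewrite [Cfsg.Agent.KO762813f.e4, Cfsg.Agent.KO762813f.e1.{0}, Cfsg.Agent.KO762813f.e5, Cfsg.Agent.KO762813f.e6, Cfsg.Agent.KO762813f.e7, Cfsg.Agent.KO762813f.e9, Cfsg.Agent.KO762813f.e11, Cfsg.Agent.KO762813f.e13.{0}, Cfsg.Agent.KO762813f.e14.{0, 0}, Cfsg.Agent.KO762813f.e18, Cfsg.Agent.KO762813f.e19]; decide +kernel) | decide +kernel)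

end Cfsg.Agent.R2.T1.Odd
end
end
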