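import Cfsg.Agent.R2.T1.Odd.T9
import Cfsg.Agent.ChevFast.E7
import Cfsg.Agent.ChevFast.E8
import Cfsg.Agent.R2.T1.Five.Diag
import Cfsg.Agent.StandardComponent.AltAut
import Cfsg.Agent.R2.T1.Inf.Cnt_m3
import Cfsg.Agent.FastGrp
import Cfsg.Agent.Prune
set_option linter.all false

section
prune_inst 0x7ffebdfb6bf8afffdfff7e7ff6d7cffd99b9bfffefdff9cbffec61ffabdf6b0ac9c56b858fea10fe1ef6e21450fa7bd3ebffffffea67fc7ffffdfff45ffbffcfedf6bd0851d688340fb80ff703f07f8e7f3fffffffffffffffffffffffffffbeffbfffffffff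

-- part: R2/T1/Inf/Tor
section
prune_inst 0x100001407400000000000000020004202000000000000000000000400149000200400000128000000000200008000100000000400000000000000000000000000000000000000000000000000000000000000000000000000000000000000000000000000
set_option linter.all false
open scoped Cfsg.Agent.FastGrp

/-!
# S5771, S5929: the torus attached to an element of order 3 (helper11)

* `Rep z N x v` : `x` is conjugate to the element `c` of the torus with `c ^ N = 1`, `α_i(c) = z ^ v_i`; `Rep.word`;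
* `exists_nf` : the representatives in the alcove of a class given by `ev (V K x) 1`, `ev (L K x) 1`;
* `lam l μ` : one-parameter subgroups; `Rep.lam`;
* `TL l j0 d c0 χ₁ χ₂` : conditions on the cocharacter `l`; `TL.exists_lam` : the classes of elements of order 3;
* `tor32` : for `x` of order 3 with `ev (V F x) 1 = 32`, a cyclic group of order `q ± 1` containing `x`, of polynomials
  in `x`.
-/

set_option autoImplicit false
set_option maxRecDepth 100000

namespace Cfsg.Agent.R2.T1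

open Cfsg Cfsg.Lie Module
open Cfsg.Agent.ChevalleyStructure Cfsg.Agent.ChevalleyStructure.Elts Cfsg.Agent.ChevalleyStructure.RootVec
  Cfsg.Agent.ChevalleyStructure.RootVecTab Cfsg.Agent.ChevalleyStructure.CoxeterGeomTypes
open Cfsg.Agent.ChevalleyStructure.StBasic Cfsg.Agent.H129.StCover
open Cfsg.Agent.H943.E7V.Block (D1 rho)
open Cfsg.Agent.H944.Kac Cfsg.Agent.H944.Tab Cfsg.Agent.H944.E7Two
open Cfsg.Agent.H952.F4 (ev es)

universe u

section
variable {K : Type u} [Field K]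

/-- `x` is conjugate to the element of exponent `N` of the torus with `α_i = z ^ v_i` -/
def Rep (z : Kˣ) (N : ℕ) (x : Gh K) (v : Fin 7 → ZMod N) : Prop :=
  ∃ (g : Gh K) (c : Fin chevE7.rank → Kˣ), Phi K c = g * x * g⁻¹ ∧ c ^ N = 1 ∧
    ∀ i : Fin 7, rtv (chevE7.simple i) c = z ^ (v i).val

variable {z : Kˣ} {N : ℕ} [NeZero N] {x : Gh K} {v : Fin 7 → ZMod N}

theorem Rep.step (hzN : z ^ N = 1) (h : Rep z N x v) (j : Fin 7) : Rep z N x (srefl chevE7 7 j v) := by
  obtain ⟨g, c, h1, h2, h3⟩ := h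
  let j' : Fin chevE7.rank := j
  refine ⟨stn chevE7 (chevE7.simple j') (1 : K) * g, sAct chevE7 K j' c, ?_, ?_, fun i => ?_⟩
  · rw [← conj_n_phi e7T.inList isPhi, h1]
    group
  · rw [← map_pow, h2, map_one]
  · refine (Five.rtv_sAct j' _ c).trans ?_
    rw [h3 i]
    have h4 : rtv (chevE7.simple j') c = z ^ (v j).val := h3 j
    rw [h4, ← Five.val_sub_mul hzN]
    rfl

theorem Rep.word (hzN : z ^ N = 1) (w : List (Fin 7)) : ∀ {v : Fin 7 → ZMod N}, Rep z N x v →
    Rep z N x (w.foldl (fun v j => srefl chevE7 7 j v) v) := by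
  induction w with
  | nil => exact fun h => h
  | cons j w ih => exact fun h => ih (h.step hzN j)

/-- the test of the representatives in the alcove -/
def chkNf (N v0 l0 : ℕ) (S : List (List ℕ)) : Bool := allAlc th7 N fun y => (List.range N).all fun t =>
  !((2 * t + dt [2, 3, 4, 6, 5, 4, 3] y) % N == 0) || (!(cV N y t 0 == v0 && cL N y 0 == l0) || S.contains y)

/-- **representatives in the alcove** -/
theorem exists_nf {v0 l0 : ℕ} {S : List (List ℕ)} (hchk : chkNf N v0 l0 S = true) {ζ : Kˣ}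
    (hζ : IsPrimitiveRoot ζ N) (h : ∃ (g : Gh K) (c : Fin chevE7.rank → Kˣ), Phi K c = g * x * g⁻¹ ∧ c ^ N = 1)
    (hv : ev (V K x) 1 = v0) (hl : ev (L K x) 1 = l0) :
    ∃ Y ∈ S, Rep ζ N x fun i => ((Y.getD i 0 : ℕ) : ZMod N) := by
  have hN : 0 < N := Nat.pos_of_ne_zero (NeZero.ne N)
  obtain ⟨g, c, y, h1, h2, h3, h4⟩ := Five.exists_alc hN hζ h
  have hζ' : IsPrimitiveRoot (ζ : K) N := IsPrimitiveRoot.coe_units_iff.2 hζ
  obtain ⟨t, htN, ht⟩ : ∃ t < N, ζ ^ t = wt botv c := by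
    have h5 : ((wt botv c : Kˣ) : K) ^ N = 1 := by
      rw [← Units.val_pow_eq_pow_val, wt_pow_one h2, Units.val_one]
    obtain ⟨t, htN, ht⟩ := hζ'.eq_pow_of_pow_eq_one h5
    exact ⟨t, htN, Units.ext (by rw [Units.val_pow_eq_pow_val, ht])⟩
  set Y := List.ofFn y with hY
  have hlen : Y.length = 7 := by rw [hY, List.length_ofFn]
  have hget : ∀ j : Fin 7, Y.getD j 0 = y j := by
    intro j
    rw [hY, List.getD_eq_getElem _ _ (by rw [List.length_ofFn]; exact j.2), List.getElem_ofFn]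
  have hv' : ∀ j < 7, rtv (chevE7.simple j) c = ζ ^ Y.getD j 0 := by
    intro j hj
    have h5 := h3 ⟨j, hj⟩
    rw [← hget ⟨j, hj⟩] at h5
    exact h5
  have hc := allAlc_spec th7 N _ (by decide) hchk Y (by rw [hlen]; rfl) h4
  rw [List.all_eq_true] at hc
  have hc' := hc t (List.mem_range.2 htN)
  rw [core_rel hlen hv' hζ ht.symm] at hc'
  have e1 := ev_V_core hlen hv' hζ ht.symm hN
  have e2 := ev_L_core hlen hv' hζ hN
  rw [pow_zero, ← ev_V_of_conj h1, hv] at e1
  rw [pow_zero, ← ev_L_of_conj h1, hl] at e2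
  rw [← e1, ← e2] at hc'
  simp only [beq_self_eq_true, Bool.and_self, Bool.not_true, Bool.false_or, List.contains_iff_mem] at hc'
  refine ⟨Y, hc', g, c, h1, h2, fun i => ?_⟩
  rw [h3 i, ← hget i, ← Five.pow_val hζ.pow_eq_one]

/-- one-parameter subgroups of the torus -/
def lam (l : Fin chevE7.rank → ℤ) (μ : Kˣ) : Fin chevE7.rank → Kˣ := fun i => μ ^ l i

/-- the exponents -/
def chW (l : Fin chevE7.rank → ℤ) (k : ℕ) : ℤ := ∑ i : Fin chevE7.rank, chevE8.cartan i k * l i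

/-- the exponents -/
def chR (l : Fin chevE7.rank → ℤ) (r : ℕ) : ℤ := ∑ i : Fin chevE7.rank, chevE7.cartan i r * l i

theorem wt_lam (l : Fin chevE7.rank → ℤ) (μ : Kˣ) (s : D1) : wt s (lam l μ) = μ ^ chW l (nn s) := by
  unfold wt lam chW
  rw [← prod_zpow_sum]
  exact Finset.prod_congr rfl fun i _ => by rw [← zpow_mul, mul_comm]

theorem rtv_lam (l : Fin chevE7.rank → ℤ) (μ : Kˣ) (r : ℕ) : rtv r (lam l μ) = μ ^ chR l r := by
  unfold rtv lam chR
  rw [← prod_zpow_sum]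
  exact Finset.prod_congr rfl fun i _ => by rw [← zpow_mul, mul_comm]

theorem lam_mul (l : Fin chevE7.rank → ℤ) (μ ν : Kˣ) : lam l (μ * ν) = lam l μ * lam l ν := by
  funext i
  exact mul_zpow _ _ _

theorem lam_one (l : Fin chevE7.rank → ℤ) : lam l (1 : Kˣ) = 1 := by
  funext i
  exact one_zpow _

theorem lam_pow (l : Fin chevE7.rank → ℤ) {μ : Kˣ} {M : ℕ} (h : μ ^ M = 1) : lam l μ ^ M = 1 := by
  funext i
  show (μ ^ l i) ^ M = 1
  rw [← zpow_natCast, ← zpow_mul, mul_comm, zpow_mul, zpow_natCast, h, one_zpow]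

omit [NeZero N] in
/-- elements of odd order of the torus are determined by the values of the roots -/
theorem Phi_eq (hN : Odd N) {c c' : Fin chevE7.rank → Kˣ} (hc : c ^ N = 1) (hc' : c' ^ N = 1)
    (h : ∀ i : Fin 7, rtv (chevE7.simple i) c = rtv (chevE7.simple i) c') : Phi K c = Phi K c' := by
  have h1 : ∀ i < 7, rtv (chevE7.simple i) (c * c'⁻¹) = 1 := by
    intro i hi
    have h2 := h ⟨i, hi⟩
    have h3 : rtv (chevE7.simple i) (c * c'⁻¹) = rtv (chevE7.simple i) c * (rtv (chevE7.simple i) c')⁻¹ := by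
      unfold rtv
      rw [← Finset.prod_inv_distrib, ← Finset.prod_mul_distrib]
      exact Finset.prod_congr rfl fun j _ => by rw [Pi.mul_apply, Pi.inv_apply, mul_zpow, inv_zpow]
    have h4 : rtv (chevE7.simple i) c = rtv (chevE7.simple i) c' := h2
    rw [h3, h4, mul_inv_cancel]
  obtain ⟨h2, h3⟩ := rho_Phi_center' h1
  have h4 : (c * c'⁻¹) ^ N = 1 := by rw [mul_pow, inv_pow, hc, hc', inv_one, mul_one]
  have h5 := wt_pow_one h4 topv
  have h6 : wt topv (c * c'⁻¹) = 1 := by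
    obtain ⟨k, hk⟩ := hN
    rw [hk, pow_succ, pow_mul, pow_two, h2, one_pow, one_mul] at h5
    exact h5
  have h7 : Phi K (c * c'⁻¹) = 1 := by
    apply rho_injective
    rw [h3, h6, map_one]
    exact Matrix.diagonal_one
  rw [map_mul, map_inv, mul_inv_eq_one] at h7
  exact h7

omit [NeZero N] in
/-- representatives in one-parameter subgroups -/
theorem Rep.lam {ζ : Kˣ} (hζ : ζ ^ N = 1) (hN : Odd N) (h : Rep ζ N x v) (l : Fin chevE7.rank → ℤ)
    (hl : ∀ i : Fin 7, ζ ^ chR l (chevE7.simple i) = ζ ^ (v i).val) : ∃ g : Gh K, Phi K (lam l ζ) = g * x * g⁻¹ := by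
  obtain ⟨g, c, h1, h2, h3⟩ := h
  refine ⟨g, ?_⟩
  rw [← h1]
  refine Phi_eq hN (lam_pow l hζ) h2 fun i => ?_
  rw [rtv_lam, h3, hl]

/-- the exponent of the weight `w` -/
def chv (j0 : ℕ) (d c0 : ℤ) (w : ℕ × List ℕ) : ℤ := c0 + d * (w.2.getD j0 0 : ℕ)

/-- the conditions on the cocharacter `l`: only the simple root `j0` is non-trivial, with the value `d` -/
structure TL (l : Fin chevE7.rank → ℤ) (j0 : ℕ) (d c0 χ₁ χ₂ : ℤ) : Prop where
  simple : ∀ i < 7, chR l (chevE7.simple i) = if i = j0 then d else 0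
  lt : j0 < 7
  bot : chW l 120 = c0
  mod : ∀ w ∈ RL, (d * (w.2.getD j0 0 : ℕ)) % 3 = 0 → w.2.getD j0 0 = 0
  diff : χ₁ - χ₂ = d
  inj : ∃ (i j : Fin chevE7.rank) (a b : ℤ), a * l i + b * l j = 1
  dom₁ : ∀ e : ℤ, e = 1 ∨ e = -1 → (WL.map fun w => if (chv j0 d c0 w ≠ e * χ₁ ∧ (chv j0 d c0 w - e * χ₁) % 3 = 0) then
    1 else 0).sum < (WL.map fun w => if chv j0 d c0 w = χ₁ then 1 else 0).sum
  dom₂ : ∀ e : ℤ, e = 1 ∨ e = -1 → (WL.map fun w => if (chv j0 d c0 w ≠ e * χ₂ ∧ (chv j0 d c0 w - e * χ₂) % 3 = 0) then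
    1 else 0).sum < (WL.map fun w => if chv j0 d c0 w = χ₂ then 1 else 0).sum

/-- the cocharacter of type `D₆` (the highest coroot) -/
def lTh : Fin chevE7.rank → ℤ := fun i => [2, 2, 3, 4, 3, 2, 1].getD i 0

/-- the cocharacter of type `D₅ A₁` -/
def l6 : Fin chevE7.rank → ℤ := fun i => [2, 3, 4, 6, 5, 4, 2].getD i 0

/-- the cocharacter of type `E₆` -/
def l7 : Fin chevE7.rank → ℤ := fun i => [2, 3, 4, 6, 5, 4, 3].getD i 0

/-- the cocharacter of type `A₆` -/
def l2 : Fin chevE7.rank → ℤ := fun i => [4, 7, 8, 12, 9, 6, 3].getD i 0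

theorem TL1 : TL lTh 0 1 (-1) 1 0 where
  inj := ⟨⟨0, by decide⟩, ⟨2, by decide⟩, -1, 1, by decide⟩
  simple := by (delta Cfsg.Agent.R2.T1.chR; rewrite [Cfsg.Agent.ChevFast.E7.cartan]; decide +kernel)
  lt := by decide
  bot := by (delta Cfsg.Agent.R2.T1.chW; rewrite [Cfsg.Agent.ChevFast.E8.cartan]; decide +kernel)
  mod := by decide +kernel
  diff := by decide
  dom₁ := by rintro e (rfl | rfl) <;> decide +kernel
  dom₂ := by rintro e (rfl | rfl) <;> decide +kernel

theorem TL6 : TL l6 5 1 (-2) 1 0 where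
  inj := ⟨⟨0, by decide⟩, ⟨1, by decide⟩, -1, 1, by decide⟩
  simple := by (delta Cfsg.Agent.R2.T1.chR; rewrite [Cfsg.Agent.ChevFast.E7.cartan]; decide +kernel)
  lt := by decide
  bot := by (delta Cfsg.Agent.R2.T1.chW; rewrite [Cfsg.Agent.ChevFast.E8.cartan]; decide +kernel)
  mod := by decide +kernel
  diff := by decide
  dom₁ := by rintro e (rfl | rfl) <;> decide +kernel
  dom₂ := by rintro e (rfl | rfl) <;> decide +kernel

variable {l : Fin chevE7.rank → ℤ} {j0 : ℕ} {d c0 χ₁ χ₂ : ℤ}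

/-- elements of the torus with only one non-trivial value on the simple roots -/
theorem wt_one (hj : j0 < 7) {t : Fin chevE7.rank → Kˣ} (h : ∀ i < 7, i ≠ j0 → rtv (chevE7.simple i) t = 1) (s : D1) :
    wt s t = wt botv t * rtv (chevE7.simple j0) t ^ rt chevE8 (nn s) j0 := by
  rw [wt_eq', Finset.prod_eq_single j0]
  · intro j hj1 hj2
    rw [h j (Finset.mem_range.1 hj1) hj2, one_zpow]
  · intro h1
    exact absurd (Finset.mem_range.2 hj) h1

theorem TL.wt_lam (hT : TL l j0 d c0 χ₁ χ₂) (s : D1) (μ : Kˣ) :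
    wt s (R2.T1.lam l μ) = μ ^ (c0 + d * rt chevE8 (nn s) j0) := by
  have h1 : ∀ i < 7, i ≠ j0 → rtv (chevE7.simple i) (R2.T1.lam l μ) = 1 := by
    intro i hi hij
    rw [rtv_lam, hT.simple i hi, if_neg hij, zpow_zero]
  rw [wt_one hT.lt h1, R2.T1.wt_lam, rtv_lam, hT.simple j0 hT.lt, if_pos rfl]
  have h2 : chW l (nn botv) = c0 := hT.bot
  rw [h2, zpow_add, zpow_mul]

theorem L_Phi_apply (a : Fin chevE7.rank → Kˣ) (X : chevE7.Idx → K) (i : chevE7.Idx) :
    L K (Phi K a) X i = dL a i * X i := by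
  rw [L_Phi, Matrix.toLin'_apply, Matrix.mulVec_diagonal]

theorem TL.rtv_lam (hT : TL l j0 d c0 χ₁ χ₂) {r : ℕ} (hr : r < 126) (μ : Kˣ) :
    rtv r (R2.T1.lam l μ) = μ ^ (d * rt chevE7 r j0) := by
  rw [rtv_eq hr, Finset.prod_eq_single j0]
  · rw [R2.T1.rtv_lam, hT.simple j0 hT.lt, if_pos rfl, zpow_mul]
  · intro j hj1 hj2
    rw [R2.T1.rtv_lam, hT.simple j (Finset.mem_range.1 hj1), if_neg hj2, zpow_zero, one_zpow]
  · intro h1
    exact absurd (Finset.mem_range.2 hT.lt) h1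

theorem TL.mod' (hT : TL l j0 d c0 χ₁ χ₂) {r : ℕ} (hr : r < 126) (h : (3 : ℤ) ∣ d * rt chevE7 r j0) :
    rt chevE7 r j0 = 0 := by
  have h1 : ∀ k, 63 ≤ k → k < 126 → ∃ w ∈ RL, w.1 = k := by
    intro k hk1 hk2
    have h2 : k ∈ RL.map Prod.fst := by
      rw [RL_fst, List.mem_range'_1]
      omega
    obtain ⟨w, hw, hwk⟩ := List.mem_map.1 h2
    exact ⟨w, hw, hwk⟩
  by_cases h63 : 63 ≤ r
  · obtain ⟨w, hw, rfl⟩ := h1 r h63 hr
    rw [RL_rt w hw j0 hT.lt] at h ⊢
    have h2 := hT.mod w hw (Int.emod_eq_zero_of_dvd h)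
    rw [h2]
    rfl
  · obtain ⟨w, hw, hwr⟩ := h1 (125 - r) (by omega) (by omega)
    have h3 : r = 125 - w.1 := by omega
    rw [h3, RL_rt' w hw j0 hT.lt] at h ⊢
    rw [mul_neg, dvd_neg] at h
    have h2 := hT.mod w hw (Int.emod_eq_zero_of_dvd h)
    rw [h2]
    rfl

/-- the torus acts trivially on the fixed points of `x` on the adjoint module -/
theorem TL.fix (hT : TL l j0 d c0 χ₁ χ₂) {ζ : Kˣ} (hζ : IsPrimitiveRoot ζ 3) {X : chevE7.Idx → K}
    (hX : L K (Phi K (R2.T1.lam l ζ)) X = X) (μ : Kˣ) : L K (Phi K (R2.T1.lam l μ)) X = X := by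
  funext i
  have h1 := congrFun hX i
  rw [L_Phi_apply] at h1 ⊢
  rcases i with i | r
  · exact one_mul _
  · have h5 : ∀ a : Fin chevE7.rank → Kˣ, dL a (Sum.inr r) = ((rtv r a : Kˣ) : K) := fun _ => rfl
    rw [h5] at h1 ⊢
    have hr : (r : ℕ) < 126 := r.2
    rw [hT.rtv_lam hr] at h1 ⊢
    by_cases h2 : X (Sum.inr r) = 0
    · rw [h2, mul_zero]
    · have h3 : ((ζ ^ (d * rt chevE7 r j0) : Kˣ) : K) = 1 := by
        apply mul_right_cancel₀ h2
        rw [h1, one_mul]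
      have h4 : ζ ^ (d * rt chevE7 r j0) = 1 := Units.ext h3
      rw [hζ.zpow_eq_one_iff_dvd] at h4
      rw [hT.mod' hr h4, mul_zero, zpow_zero, Units.val_one, one_mul]

/-- the one-parameter subgroup is injective -/
theorem TL.lam_injective (hT : TL l j0 d c0 χ₁ χ₂) : Function.Injective fun μ : Kˣ => R2.T1.lam l μ := by
  obtain ⟨i, j, a, b, h⟩ := hT.inj
  intro μ ν hμν
  have h1 : μ ^ l i = ν ^ l i := congrFun hμν i
  have h2 : μ ^ l j = ν ^ l j := congrFun hμν j
  rw [← zpow_one μ, ← zpow_one ν, ← h, zpow_add, zpow_add, mul_comm a, mul_comm b, zpow_mul, zpow_mul, zpow_mul,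
    zpow_mul, h1, h2]

/-- **the classes of elements of order 3 as values of one-parameter subgroups** -/
theorem TL.exists_lam (hT : TL l j0 d c0 χ₁ χ₂) {v0 l0 : ℕ} {S : List (List ℕ)} (hchk : chkNf 3 v0 l0 S = true)
    (hw : ∀ Y ∈ S, ∃ w : List (Fin 7), w.foldl (fun v j => srefl chevE7 7 j v) (fun i : Fin 7 =>
      ((Y.getD i 0 : ℕ) : ZMod 3)) = fun i : Fin 7 => ((if (i : ℕ) = j0 then d else 0 : ℤ) : ZMod 3))
    {ζ : Kˣ} (hζ : IsPrimitiveRoot ζ 3) {x : Gh K}
    (h : ∃ (g : Gh K) (c : Fin chevE7.rank → Kˣ), Phi K c = g * x * g⁻¹ ∧ c ^ 3 = 1) (hv : ev (V K x) 1 = v0)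
    (hl : ev (L K x) 1 = l0) : ∃ g : Gh K, Phi K (R2.T1.lam l ζ) = g * x * g⁻¹ := by
  obtain ⟨Y, hY, hR⟩ := exists_nf hchk hζ h hv hl
  obtain ⟨w, hw⟩ := hw Y hY
  have hR' := hR.word hζ.pow_eq_one w
  rw [hw] at hR'
  refine hR'.lam hζ.pow_eq_one (by decide) l fun i => ?_
  rw [hT.simple i i.2]
  exact Five.zpow_val hζ.pow_eq_one _

end

section c32

theorem nf32 : chkNf 3 32 67 [[0, 0, 0, 0, 0, 1, 1], [1, 0, 0, 0, 0, 0, 0]] = true := by decide +kernel

theorem chW_lTh : ∀ k < 240, rt chevE8 k 7 = 1 → chW lTh k = 0 ∨ chW lTh k = 1 ∨ chW lTh k = -1 := by (delta Cfsg.Agent.R2.T1.chW; rewrite [Cfsg.Agent.ChevFast.E8.cartan]; decide +kernel)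

variable {K : Type u} [Field K]

/-- the class of the elements of order 3 with 32 fixed weights: `h_θ(ζ)` -/
theorem exists_lTh {ζ : Kˣ} (hζ : IsPrimitiveRoot ζ 3) {x : Gh K}
    (h : ∃ (g : Gh K) (c : Fin chevE7.rank → Kˣ), Phi K c = g * x * g⁻¹ ∧ c ^ 3 = 1) (h32 : ev (V K x) 1 = 32) :
    ∃ g : Gh K, Phi K (lam lTh ζ) = g * x * g⁻¹ := by
  have h67 : ev (L K x) 1 = 67 := by
    obtain ⟨P, hP, h1⟩ := exists_pat chk3 (by norm_num) hζ h
    obtain ⟨h2, h3⟩ := h1 0 (by norm_num)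
    rw [pow_zero] at h2 h3
    rw [h32] at h2
    rw [h3]
    have key : ∀ P ∈ T3, 32 = P.1.getD 0 0 → P.2.getD 0 0 = 67 := by decide
    exact key P hP h2
  refine TL1.exists_lam nf32 (fun Y hY => ?_) hζ h h32 h67
  simp only [List.mem_cons, List.not_mem_nil, or_false] at hY
  rcases hY with rfl | rfl
  · exact ⟨[6, 5, 4, 3, 1, 2, 0, 3, 2, 4, 3, 1, 5, 4, 3, 2, 0], by (delta Cfsg.Agent.ChevalleyStructure.CoxeterGeomTypes.cartanOf Cfsg.Agent.H944.Kac.srefl; rewrite [Cfsg.Agent.ChevFast.E7.cartan]; decide +kernel)⟩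
  · exact ⟨[], by decide +kernel⟩

/-- the coefficients of the polynomial -/
theorem poly_coef {ζ μ : K} (h3 : (3 : K) ≠ 0) (hζ : IsPrimitiveRoot ζ 3) (hμ : μ ≠ 0) {k : ℤ}
    (hk : k = 0 ∨ k = 1 ∨ k = -1) : μ ^ k = (1 + μ + μ⁻¹) / 3 + (1 + ζ⁻¹ * μ + ζ * μ⁻¹) / 3 * ζ ^ k +
      (1 + ζ * μ + ζ⁻¹ * μ⁻¹) / 3 * (ζ ^ k * ζ ^ k) := by
  have h0 : ζ ≠ 0 := hζ.ne_zero (by norm_num)
  have h1 : ζ ^ 2 + ζ + 1 = 0 := by
    have h2 := hζ.geom_sum_eq_zero (by norm_num)
    simp only [Finset.sum_range_succ, Finset.sum_range_zero, pow_zero, pow_one] at h2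
    linear_combination h2
  have hi : ζ⁻¹ = -ζ - 1 := by
    field_simp
    linear_combination h1
  have hT : (3 : K) * 3⁻¹ = 1 := mul_inv_cancel₀ h3
  have hμi : μ * μ⁻¹ = 1 := mul_inv_cancel₀ hμ
  simp only [div_eq_mul_inv]
  rcases hk with rfl | rfl | rfl
  · rw [zpow_zero, zpow_zero, hi]
    linear_combination (-1 : K) * hT
  · rw [zpow_one, zpow_one, hi]
    linear_combination (-μ) * hT - (3 : K)⁻¹ * (1 + μ * (ζ - 2) - μ⁻¹ * (ζ - 1)) * h1
  · rw [zpow_neg_one, zpow_neg_one, hi]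
    linear_combination (-μ⁻¹) * hT - (3 : K)⁻¹ * (1 + μ * (ζ + 2) - μ⁻¹ * (ζ + 3)) * h1

/-- **the torus over `K`** -/
theorem tor32K (h3 : (3 : K) ≠ 0) {ζ : Kˣ} (hζ : IsPrimitiveRoot ζ 3) {x : Gh K}
    (h : ∃ (g : Gh K) (c : Fin chevE7.rank → Kˣ), Phi K c = g * x * g⁻¹ ∧ c ^ 3 = 1) (h32 : ev (V K x) 1 = 32) :
    ∃ Y : Kˣ →* Gh K, Function.Injective Y ∧ Y ζ = x ∧ ∀ μ : Kˣ, rho K (Y μ) =
      ((1 + (μ : K) + (μ : K)⁻¹) / 3) • (1 : Matrix D1 D1 K) +
      ((1 + (ζ : K)⁻¹ * μ + ζ * (μ : K)⁻¹) / 3) • rho K x +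
      ((1 + (ζ : K) * μ + (ζ : K)⁻¹ * (μ : K)⁻¹) / 3) • (rho K x * rho K x) ∧
      ∀ X, L K x X = X → L K (Y μ) X = X := by
  obtain ⟨g, hg⟩ := exists_lTh hζ h h32
  let Y : Kˣ →* Gh K :=
    { toFun := fun μ => g⁻¹ * Phi K (lam lTh μ) * g
      map_one' := by rw [lam_one, map_one]; group
      map_mul' := fun μ ν => by rw [lam_mul, map_mul]; group }
  have hYζ : Y ζ = x := by
    show g⁻¹ * Phi K (lam lTh ζ) * g = x
    rw [hg]; group
  have hζ' : IsPrimitiveRoot (ζ : K) 3 := IsPrimitiveRoot.coe_units_iff.2 hζ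
  have hch : ∀ s : D1, chW lTh (nn s) = 0 ∨ chW lTh (nn s) = 1 ∨ chW lTh (nn s) = -1 := fun s =>
    chW_lTh _ (nn_lt s) (rt_nn s)
  have hpoly : ∀ μ : Kˣ, rho K (Phi K (lam lTh μ)) =
      ((1 + (μ : K) + (μ : K)⁻¹) / 3) • (1 : Matrix D1 D1 K) +
      ((1 + (ζ : K)⁻¹ * μ + ζ * (μ : K)⁻¹) / 3) • rho K (Phi K (lam lTh ζ)) +
      ((1 + (ζ : K) * μ + (ζ : K)⁻¹ * (μ : K)⁻¹) / 3) • (rho K (Phi K (lam lTh ζ)) * rho K (Phi K (lam lTh ζ))) := by
    intro μ
    rw [rho_Phi, rho_Phi, Matrix.diagonal_mul_diagonal, ← Matrix.diagonal_one, ← Matrix.diagonal_smul,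
      ← Matrix.diagonal_smul, ← Matrix.diagonal_smul, Matrix.diagonal_add, Matrix.diagonal_add]
    refine congrArg Matrix.diagonal (funext fun s => ?_)
    simp only [wt_lam, Pi.smul_apply, smul_eq_mul, Units.val_zpow_eq_zpow_val, mul_one]
    exact poly_coef h3 hζ' μ.ne_zero (hch s)
  refine ⟨Y, ?_, hYζ, fun μ => ⟨?_, fun X hX => ?_⟩⟩
  · rw [injective_iff_map_eq_one]
    intro μ hμ
    have h1 : Phi K (lam lTh μ) = 1 := by
      have h2 : g⁻¹ * Phi K (lam lTh μ) * g = 1 := hμ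
      have h4 : Phi K (lam lTh μ) = g * (g⁻¹ * Phi K (lam lTh μ) * g) * g⁻¹ := by group
      rw [h4, h2]; group
    have h5 := isPhi.inj (h1.trans (map_one (Phi K)).symm)
    exact TL1.lam_injective (h5.trans (lam_one lTh).symm)
  · have h1 : rho K (Y μ) = rho K g⁻¹ * rho K (Phi K (lam lTh μ)) * rho K g := by
      rw [← map_mul, ← map_mul]; rfl
    have h2 : rho K x = rho K g⁻¹ * rho K (Phi K (lam lTh ζ)) * rho K g := by
      rw [← map_mul, ← map_mul, hg]
      congr 1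
      group
    have h4 : rho K g * rho K g⁻¹ = 1 := by rw [← map_mul, mul_inv_cancel, map_one]
    have h4' : rho K g⁻¹ * rho K g = 1 := by rw [← map_mul, inv_mul_cancel, map_one]
    have h5 : rho K x * rho K x = rho K g⁻¹ * (rho K (Phi K (lam lTh ζ)) * rho K (Phi K (lam lTh ζ))) * rho K g := by
      rw [h2]
      calc _ = rho K g⁻¹ * rho K (Phi K (lam lTh ζ)) * (rho K g * rho K g⁻¹) * rho K (Phi K (lam lTh ζ)) * rho K g := by
            simp only [mul_assoc]
        _ = _ := by rw [h4, mul_one]; simp only [mul_assoc]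
    rw [h1, hpoly μ, h5, h2]
    simp only [mul_add, add_mul, mul_smul_comm, smul_mul_assoc, mul_one, h4', mul_assoc]
  · have h1 : L K (Phi K (lam lTh ζ)) (L K g X) = L K g X := by
      rw [hg, ← Module.End.mul_apply, ← map_mul, inv_mul_cancel_right, map_mul, Module.End.mul_apply, hX]
    show L K (g⁻¹ * Phi K (lam lTh μ) * g) X = X
    rw [map_mul, map_mul, Module.End.mul_apply, Module.End.mul_apply, TL1.fix hζ h1 μ, ← Module.End.mul_apply,
      ← map_mul, inv_mul_cancel, map_one, Module.End.one_apply]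

theorem toLin'_poly {F : Type u} [Field F] (A : Matrix D1 D1 F) (a b c : F) :
    Matrix.toLin' (a • (1 : Matrix D1 D1 F) + b • A + c • (A * A)) =
      a • (1 : Module.End F (D1 → F)) + b • Matrix.toLin' A + c • (Matrix.toLin' A * Matrix.toLin' A) := by
  rw [map_add, map_add, map_smul, map_smul, map_smul, Matrix.toLin'_mul, Matrix.toLin'_one]
  rfl

/-- **the torus of the elements of order 3 with 32 fixed weights**: a cyclic group of order `q - 1` or `q + 1` of polynomials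
in `x` -/
theorem tor32 {F : Type u} [Field F] [Finite F] (h3 : (3 : F) ≠ 0) {x : Gh F} (hx : x ^ 3 = 1)
    (h32 : ev (V F x) 1 = 32) :
    ∃ (y : Gh F) (a b c : F) (m : ℕ), (V F y = a • (1 : Module.End F (D1 → F)) + b • V F x + c • (V F x * V F x) ∧
      a + b + c = 1) ∧ y ^ m = x ∧ orderOf y = 3 * m ∧ (3 * m + 1 = Nat.card F ∨ 3 * m = Nat.card F + 1) ∧
      ∀ X, L F x X = X → L F y X = X := by
  have h3' : ((3 : ℕ) : F) ≠ 0 := by exact_mod_cast h3
  obtain ⟨p, hpp, hp, hcop⟩ := exists_char h3'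
  have hfr := frame p (by norm_num) hcop hx
  let K := AlgebraicClosure F
  let f : F →+* K := algebraMap F K
  obtain ⟨s, hs⟩ := exists_frob f
  have h3K : (3 : K) ≠ 0 := by
    have h := (map_ne_zero f).2 h3
    rwa [map_ofNat] at h
  have hq3 := card_mod (by norm_num) h3'
  have hq0 : ((Nat.card F : ℕ) : K) = 0 := by
    have := Fintype.ofFinite F
    have h7 : (Nat.card F : F) = 0 := by
      rw [Nat.card_eq_fintype_card]
      exact FiniteField.cast_card_eq_zero F
    have h8 := congrArg f h7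
    rwa [map_natCast, map_zero] at h8
  have hq1 : 1 < Nat.card F := Finite.one_lt_card
  obtain ⟨m, hm, hm0, hmK⟩ : ∃ m : ℕ, (3 * m + 1 = Nat.card F ∨ 3 * m = Nat.card F + 1) ∧ 0 < m ∧
      ((3 * m : ℕ) : K) ≠ 0 := by
    rcases (by omega : Nat.card F % 3 = 1 ∨ Nat.card F % 3 = 2) with h | h
    · refine ⟨Nat.card F / 3, by omega, by omega, ?_⟩
      have h4 : 3 * (Nat.card F / 3) + 1 = Nat.card F := by omega
      have h5 : ((3 * (Nat.card F / 3) : ℕ) : K) + 1 = 0 := by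
        rw [← hq0, ← h4]; push_cast; congr 3; omega
      intro h6
      rw [h6, zero_add] at h5
      exact one_ne_zero h5
    · refine ⟨(Nat.card F + 1) / 3, by omega, by omega, ?_⟩
      have h4 : 3 * ((Nat.card F + 1) / 3) = Nat.card F + 1 := by omega
      rw [h4, Nat.cast_add, hq0, zero_add, Nat.cast_one]
      exact one_ne_zero
  have : NeZero ((3 * m : ℕ) : K) := ⟨hmK⟩
  obtain ⟨μ', hμ'⟩ : ∃ μ : K, IsPrimitiveRoot μ (3 * m) := HasEnoughRootsOfUnity.exists_primitiveRoot K (3 * m)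
  have hμ0 : μ' ≠ 0 := hμ'.ne_zero (by omega)
  obtain ⟨μ, hμu⟩ : ∃ μ : Kˣ, (μ : K) = μ' := ⟨Units.mk0 μ' hμ0, rfl⟩
  rw [← hμu] at hμ'
  have hμ : IsPrimitiveRoot μ (3 * m) := IsPrimitiveRoot.coe_units_iff.1 hμ'
  have hζ : IsPrimitiveRoot (μ ^ m) 3 := hμ.pow (by omega) (mul_comm 3 m)
  have h32K : ev (V K (emb f x)) 1 = 32 := by rw [ev_V_one, h32]
  obtain ⟨Y, hYi, hYζ, hY⟩ := tor32K h3K hζ hfr h32K
  -- the Frobenius endomorphism
  have hsμ : s (μ : K) = μ ∨ s (μ : K) = (μ : K)⁻¹ := by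
    rw [hs]
    rcases hm with h | h
    · left
      rw [← h, pow_succ, ← Units.val_pow_eq_pow_val, hμ.pow_eq_one, Units.val_one, one_mul]
    · right
      have h5 : (μ : K) ^ Nat.card F * μ = 1 := by
        rw [← pow_succ, ← h, ← Units.val_pow_eq_pow_val, hμ.pow_eq_one, Units.val_one]
      exact eq_inv_of_mul_eq_one_left h5
  have hfix : ∀ t : K, s t = t → ∃ a : F, f a = t := fun t ht => exists_of_pow_eq f (by rw [← hs, ht])
  have s3 : s (3 : K) = 3 := map_ofNat s 3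
  obtain ⟨a, ha⟩ := hfix ((1 + (μ : K) + (μ : K)⁻¹) / 3) (by
    rw [map_div₀, map_add, map_add, map_inv₀, map_one, s3]
    rcases hsμ with h | h
    · rw [h]
    · rw [h, inv_inv, add_assoc, add_comm (μ : K)⁻¹, ← add_assoc])
  obtain ⟨b, hb⟩ := hfix ((1 + ((μ ^ m : Kˣ) : K)⁻¹ * μ + ((μ ^ m : Kˣ) : K) * (μ : K)⁻¹) / 3) (by
    rw [Units.val_pow_eq_pow_val, map_div₀, map_add, map_add, map_mul, map_mul, map_inv₀, map_inv₀, map_pow, map_one, s3]
    rcases hsμ with h | h
    · rw [h]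
    · rw [h, inv_inv, inv_pow, inv_inv, add_assoc, add_comm ((μ : K) ^ m * _), ← add_assoc])
  obtain ⟨c, hc⟩ := hfix ((1 + ((μ ^ m : Kˣ) : K) * μ + ((μ ^ m : Kˣ) : K)⁻¹ * (μ : K)⁻¹) / 3) (by
    rw [Units.val_pow_eq_pow_val, map_div₀, map_add, map_add, map_mul, map_mul, map_inv₀, map_inv₀, map_pow, map_one, s3]
    rcases hsμ with h | h
    · rw [h]
    · rw [h, inv_inv, inv_pow, inv_inv, add_assoc, add_comm (((μ : K) ^ m)⁻¹ * _), ← add_assoc])
  have hA : rho K (Y μ) = (a • (1 : Matrix D1 D1 F) + b • rho F x + c • (rho F x * rho F x)).map f := by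
    rw [(hY μ).1, ← ha, ← hb, ← hc, rho_emb]
    ext i j
    simp [Matrix.mul_apply, Matrix.one_apply, apply_ite f]
    rfl
  obtain ⟨y, hy1, hy2⟩ := exists_of_rho f hA
  refine ⟨y, a, b, c, m, ⟨?_, ?_⟩, ?_, ?_, hm, fun X hX => ?_⟩
  · rw [V_eq, V_eq, hy2, toLin'_poly]
  · apply f.injective
    have hζ' : IsPrimitiveRoot ((μ ^ m : Kˣ) : K) 3 := IsPrimitiveRoot.coe_units_iff.2 hζ
    have h5 := poly_coef h3K hζ' μ.ne_zero (Or.inl rfl)
    rw [zpow_zero, zpow_zero, mul_one, mul_one, mul_one] at h5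
    rw [map_add, map_add, map_one, ha, hb, hc, ← h5]
  · apply emb_injective f
    rw [map_pow, hy1, ← map_pow, hYζ]
  · rw [← orderOf_injective (emb f) (emb_injective f), hy1, orderOf_injective Y hYi, ← hμ.eq_orderOf]
  · have h5 := (hY μ).2 (fun i => f (X i)) (by rw [L_emb, hX])
    rw [← hy1, L_emb] at h5
    funext i
    exact f.injective (congrFun h5 i)

/-- subspaces stable under `x` are stable under the torus -/
theorem stable_of_poly {F : Type u} [Field F] {x y : Gh F} {a b c : F}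
    (hy : V F y = a • (1 : Module.End F (D1 → F)) + b • V F x + c • (V F x * V F x)) {W : Submodule F (D1 → F)}
    (hW : ∀ w ∈ W, V F x w ∈ W) : ∀ w ∈ W, V F y w ∈ W := by
  intro w hw
  rw [hy]
  exact add_mem (add_mem (W.smul_mem a hw) (W.smul_mem b (hW w hw))) (W.smul_mem c (hW _ (hW w hw)))

/-- fixed vectors of `x` are fixed by the torus -/
theorem fixed_of_poly {F : Type u} [Field F] {x y : Gh F} {a b c : F}
    (hy : V F y = a • (1 : Module.End F (D1 → F)) + b • V F x + c • (V F x * V F x)) (h1 : a + b + c = 1)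
    {v : D1 → F} (hv : V F x v = v) : V F y v = v := by
  rw [hy]
  show a • v + b • V F x v + c • V F x (V F x v) = v
  rw [hv, hv, ← add_smul, ← add_smul, h1, one_smul]

theorem commute_of_poly {F : Type u} [Field F] {x y g : Gh F} {a b c : F}
    (hy : V F y = a • (1 : Module.End F (D1 → F)) + b • V F x + c • (V F x * V F x)) (hg : g * x = x * g) :
    g * y = y * g := by
  apply V_injective
  have h1 : V F g * V F x = V F x * V F g := by rw [← map_mul, ← map_mul, hg]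
  rw [map_mul, map_mul, hy, mul_add, mul_add, add_mul, add_mul, mul_smul_comm, mul_smul_comm, mul_smul_comm,
    smul_mul_assoc, smul_mul_assoc, smul_mul_assoc, mul_one, one_mul, ← mul_assoc, h1, mul_assoc, h1, mul_assoc]

end c32

end Cfsg.Agent.R2.T1
end

-- part: R2/T1/Inf/TorL
section
prune_inst 0x14200100340002000018008083000420200000000003000009000000004100002941060002200000000288400000004000000010800000000000000000010000800002000040a100260088008000000000000000000000000000000000000000000000000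
set_option linter.all false
open scoped Cfsg.Agent.FastGrp

/-!
# S5771, S5929: the torus in the centre of the centralizer of an element of order 3 (helper11)

* `TL l j0 d c0 χ₁ χ₂` : the decidable conditions on the cocharacter `l`;
* `TL.conj` : `h λ(ζ) h⁻¹ = λ(ζ) ^ e` implies `h λ(μ) h⁻¹ = λ(μ) ^ e`;
* `torL` : for `x` of order 3 with `(ev (V F x) 1, ev (L F x) 1)` one of `(20, 49)`, `(2, 79)`, `(14, 49)`: a cyclic group of order
  `q ± 1` which contains `x`, acts trivially on the fixed points of `x` on the adjoint module, and is centralized by the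
  centralizer of `x`.
-/

set_option autoImplicit false
set_option maxRecDepth 100000

namespace Cfsg.Agent.R2.T1

open Cfsg Cfsg.Lie Module
open Cfsg.Agent.ChevalleyStructure Cfsg.Agent.ChevalleyStructure.Elts Cfsg.Agent.ChevalleyStructure.RootVec
  Cfsg.Agent.ChevalleyStructure.RootVecTab Cfsg.Agent.ChevalleyStructure.CoxeterGeomTypes
open Cfsg.Agent.H943.E7V.Block (D1 rho)
open Cfsg.Agent.H944.Kac Cfsg.Agent.H944.Tab Cfsg.Agent.H944.E7Two
open Cfsg.Agent.H952.F4 (ev es)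

universe u

section
variable {K : Type u} [Field K]

theorem V_Phi_apply (a : Fin chevE7.rank → Kˣ) (v : D1 → K) (s : D1) :
    V K (Phi K a) v s = ((wt s a : Kˣ) : K) * v s := by
  rw [V_Phi, Matrix.toLin'_apply, Matrix.mulVec_diagonal]
  rfl

/-- the coordinate subspaces -/
def sup1 (K : Type u) [Field K] (T : D1 → Prop) : Submodule K (D1 → K) where
  carrier := {v | ∀ s, ¬ T s → v s = 0}
  add_mem' := fun {a b} ha hb s hs => by rw [Pi.add_apply, ha s hs, hb s hs, add_zero]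
  zero_mem' := fun _ _ => rfl
  smul_mem' := fun c a ha s hs => by rw [Pi.smul_apply, ha s hs, smul_zero]

theorem mem_sup1 {T : D1 → Prop} {v : D1 → K} : v ∈ sup1 K T ↔ ∀ s, ¬ T s → v s = 0 := Iff.rfl

open Classical in
theorem finrank_sup1 (T : D1 → Prop) : finrank K ↥(sup1 K T) = (Finset.univ.filter fun s : D1 => T s).card := by
  have h1 := Cfsg.Agent.H944.E6T.ev_diag (fun s : D1 => if T s then (0 : K) else 1) 0 rfl
  have h2 : sup1 K T = LinearMap.ker (Matrix.toLin' (Matrix.diagonal fun s : D1 => if T s then (0 : K) else 1)) := by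
    ext v
    rw [mem_sup1, LinearMap.mem_ker, Matrix.toLin'_apply, funext_iff]
    refine forall_congr' fun s => ?_
    rw [Matrix.mulVec_diagonal]
    by_cases hs : T s
    · simp [hs]
    · simp [hs]
  rw [h2, ← ev_zero, h1]
  congr 1
  ext s
  simp

theorem wt_zpow (s : D1) (a : Fin chevE7.rank → Kˣ) (e : ℤ) : wt s (a ^ e) = wt s a ^ e := by
  unfold wt
  rw [← Finset.prod_zpow]
  refine Finset.prod_congr rfl fun i _ => ?_
  rw [Pi.pow_apply, ← zpow_mul, ← zpow_mul, mul_comm]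

variable {l : Fin chevE7.rank → ℤ} {j0 : ℕ} {d c0 χ₁ χ₂ : ℤ}

theorem card_D1 (hj : j0 < 7) (P : ℤ → Prop) [DecidablePred P] :
    (Finset.univ.filter fun s : D1 => P (c0 + d * rt chevE8 (nn s) j0)).card =
      (WL.map fun w => if P (chv j0 d c0 w) then 1 else 0).sum := by
  rw [Finset.card_filter, sum_D1 fun n => if P (c0 + d * rt chevE8 n j0) then 1 else 0]
  congr 1
  refine List.map_congr_left fun w hw => ?_
  rw [WL_rt w hw j0 hj]
  rfl

/-- the values at the dominating exponents -/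
theorem TL.dom (hT : TL l j0 d c0 χ₁ χ₂) {ζ : Kˣ} (hζ : IsPrimitiveRoot ζ 3) {h : Gh K} {e : ℤ} (he : e = 1 ∨ e = -1)
    (hh : h * Phi K (R2.T1.lam l ζ) * h⁻¹ = Phi K (R2.T1.lam l ζ) ^ e) {μ : Kˣ} {t : Fin chevE7.rank → Kˣ}
    (ht : Phi K t = h * Phi K (R2.T1.lam l μ) * h⁻¹) {χ : ℤ}
    (hdom : (WL.map fun w => if (chv j0 d c0 w ≠ e * χ ∧ (chv j0 d c0 w - e * χ) % 3 = 0) then 1 else 0).sum <
      (WL.map fun w => if chv j0 d c0 w = χ then 1 else 0).sum) :
    ∃ s : D1, c0 + d * rt chevE8 (nn s) j0 = e * χ ∧ wt s t = μ ^ χ := by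
  classical
  by_contra hcon
  have hcon' : ∀ s : D1, c0 + d * rt chevE8 (nn s) j0 = e * χ → wt s t ≠ μ ^ χ := by
    intro s h1 h2
    exact hcon ⟨s, h1, h2⟩
  have hinj : Function.Injective (V K h) := by
    intro a b hab
    have h1 := congrArg (V K h⁻¹) hab
    rwa [← Module.End.mul_apply, ← Module.End.mul_apply, ← map_mul, inv_mul_cancel, map_one] at h1
  have hle : (sup1 K fun s => c0 + d * rt chevE8 (nn s) j0 = χ).map (V K h) ≤
      sup1 K fun s => c0 + d * rt chevE8 (nn s) j0 ≠ e * χ ∧ (c0 + d * rt chevE8 (nn s) j0 - e * χ) % 3 = 0 := by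
    rintro _ ⟨v, hv, rfl⟩
    set w := V K h v with hw
    have hsc : ∀ ν : Kˣ, V K (Phi K (R2.T1.lam l ν)) v = ((ν ^ χ : Kˣ) : K) • v := by
      intro ν
      funext s
      rw [V_Phi_apply, hT.wt_lam, Pi.smul_apply, smul_eq_mul]
      by_cases hs : c0 + d * rt chevE8 (nn s) j0 = χ
      · rw [hs]
      · rw [hv s hs, mul_zero, mul_zero]
    have h1 : V K (Phi K (R2.T1.lam l ζ ^ e)) w = ((ζ ^ χ : Kˣ) : K) • w := by
      rw [map_zpow, ← hh, hw, ← Module.End.mul_apply, ← map_mul, inv_mul_cancel_right, map_mul, Module.End.mul_apply,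
        hsc, map_smul]
    have h2 : V K (Phi K t) w = ((μ ^ χ : Kˣ) : K) • w := by
      rw [ht, hw, ← Module.End.mul_apply, ← map_mul, inv_mul_cancel_right, map_mul, Module.End.mul_apply,
        hsc, map_smul]
    intro s hs
    by_contra hws
    have e1 := congrFun h1 s
    have e2 := congrFun h2 s
    rw [V_Phi_apply, Pi.smul_apply, smul_eq_mul] at e1 e2
    have e3 := Units.ext (mul_right_cancel₀ hws e1)
    have e4 := Units.ext (mul_right_cancel₀ hws e2)
    rw [wt_zpow, hT.wt_lam, ← zpow_mul] at e3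
    apply hs
    have h3 : (c0 + d * rt chevE8 (nn s) j0 - e * χ) % 3 = 0 := by
      have h4 : ζ ^ ((c0 + d * rt chevE8 (nn s) j0) * e - χ) = 1 := by
        rw [zpow_sub, e3, mul_inv_cancel]
      rw [hζ.zpow_eq_one_iff_dvd] at h4
      push_cast at h4
      rcases he with rfl | rfl <;> omega
    exact ⟨fun h5 => hcon' s h5 e4, h3⟩
  have h1 := Submodule.finrank_mono hle
  rw [Five.finrank_map_inj hinj, finrank_sup1, finrank_sup1] at h1
  have c1 := card_D1 (c0 := c0) (d := d) hT.lt (fun z => z = χ)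
  have c2 := card_D1 (c0 := c0) (d := d) hT.lt (fun z => z ≠ e * χ ∧ (z - e * χ) % 3 = 0)
  have c1' : (Finset.univ.filter fun s : D1 => c0 + d * rt chevE8 (nn s) j0 = χ).card =
      (WL.map fun w => if chv j0 d c0 w = χ then 1 else 0).sum := by
    rw [← c1]
  have c2' : (Finset.univ.filter fun s : D1 => c0 + d * rt chevE8 (nn s) j0 ≠ e * χ ∧
      (c0 + d * rt chevE8 (nn s) j0 - e * χ) % 3 = 0).card =
      (WL.map fun w => if (chv j0 d c0 w ≠ e * χ ∧ (chv j0 d c0 w - e * χ) % 3 = 0) then 1 else 0).sum := by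
    rw [← c2]
  have h2 : ∀ {p q : D1 → Prop} [DecidablePred p] (_ : ∀ s, p s ↔ q s), (Finset.univ.filter p).card =
      (@Finset.filter _ q (Classical.decPred q) Finset.univ).card := by
    intro p q _ hpq
    congr 1
    ext s
    simp only [Finset.mem_filter, Finset.mem_univ, true_and]
    exact hpq s
  rw [← h2 fun _ => Iff.rfl, ← h2 fun _ => Iff.rfl, c1', c2'] at h1
  omega

/-- **the normalizer of `⟨λ(ζ)⟩` normalizes the torus** -/
theorem TL.conj (h2 : (2 : K) ≠ 0) (hT : TL l j0 d c0 χ₁ χ₂) (hd : d ≠ 0) {ζ : Kˣ} (hζ : IsPrimitiveRoot ζ 3) {h : Gh K}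
    {e : ℤ} (he : e = 1 ∨ e = -1) (hh : h * Phi K (R2.T1.lam l ζ) * h⁻¹ = Phi K (R2.T1.lam l ζ) ^ e) (μ : Kˣ) :
    h * Phi K (R2.T1.lam l μ) * h⁻¹ = Phi K (R2.T1.lam l μ) ^ e := by
  -- the fixed points
  have hfix : ∀ X, L K (Phi K (R2.T1.lam l ζ)) X = X → L K (h * Phi K (R2.T1.lam l μ) * h⁻¹) X = X := by
    intro X hX
    have h1 : L K (Phi K (R2.T1.lam l ζ)) (L K h⁻¹ X) = L K h⁻¹ X := by
      have h3 : Phi K (R2.T1.lam l ζ) * h⁻¹ = h⁻¹ * Phi K (R2.T1.lam l ζ) ^ e := by rw [← hh]; group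
      rw [← Module.End.mul_apply, ← map_mul, h3, map_mul, Module.End.mul_apply]
      congr 1
      rcases he with rfl | rfl
      · rw [zpow_one, hX]
      · rw [zpow_neg_one]
        nth_rewrite 1 [← hX]
        rw [← Module.End.mul_apply, ← map_mul, inv_mul_cancel, map_one, Module.End.one_apply]
    rw [map_mul, map_mul, Module.End.mul_apply, Module.End.mul_apply, hT.fix hζ h1 μ, ← Module.End.mul_apply,
      ← map_mul, mul_inv_cancel, map_one, Module.End.one_apply]
  have hinl : ∀ i : Fin chevE7.rank, L K (Phi K (R2.T1.lam l ζ)) (Pi.single (Sum.inl i) 1) = Pi.single (Sum.inl i) 1 := by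
    intro i
    funext j
    rw [L_Phi_apply]
    by_cases hj : j = Sum.inl i
    · rw [hj]
      exact one_mul _
    · rw [Pi.single_eq_of_ne hj, mul_zero]
  obtain ⟨t, ht⟩ := Five.exists_Phi_of_fix h2 fun i => hfix _ (hinl i)
  have hs : ∀ i < 7, i ≠ j0 → rtv (chevE7.simple i) t = 1 := by
    intro i hi hij
    have hlt : chevE7.simple i < chevE7.nroots := simple_lt7 i hi
    have hX : L K (Phi K (R2.T1.lam l ζ)) (Pi.single (Sum.inr ⟨chevE7.simple i, hlt⟩) 1) =
        Pi.single (Sum.inr ⟨chevE7.simple i, hlt⟩) 1 := by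
      funext j
      rw [L_Phi_apply]
      by_cases hj : j = Sum.inr ⟨chevE7.simple i, hlt⟩
      · rw [hj]
        show ((rtv (chevE7.simple i) (R2.T1.lam l ζ) : Kˣ) : K) * _ = _
        rw [R2.T1.rtv_lam, hT.simple i hi, if_neg hij, zpow_zero, Units.val_one, one_mul]
      · rw [Pi.single_eq_of_ne hj, mul_zero]
    have h1 := congrFun (hfix _ hX) (Sum.inr ⟨chevE7.simple i, hlt⟩)
    rw [← ht, L_Phi_apply, Pi.single_eq_same, mul_one] at h1
    exact Units.ext h1
  obtain ⟨s1, e1, f1⟩ := hT.dom hζ he hh ht (hT.dom₁ e he)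
  obtain ⟨s2, e2, f2⟩ := hT.dom hζ he hh ht (hT.dom₂ e he)
  set τ := wt botv t with hτ
  set ν := rtv (chevE7.simple j0) t with hν
  rw [wt_one hT.lt hs, ← hτ, ← hν] at f1 f2
  have hdiff := hT.diff
  have hk : rt chevE7 0 0 = rt chevE7 0 0 := rfl
  have hκ : rt chevE8 (nn s1) j0 - rt chevE8 (nn s2) j0 = e := by
    have h3 : d * (rt chevE8 (nn s1) j0 - rt chevE8 (nn s2) j0) = d * e := by
      rw [mul_sub]
      have : d * rt chevE8 (nn s1) j0 - d * rt chevE8 (nn s2) j0 = e * χ₁ - e * χ₂ := by rw [← e1, ← e2]; ring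
      rw [this, ← mul_sub, hdiff, mul_comm]
    exact mul_left_cancel₀ hd h3
  have hee : e * e = 1 := by rcases he with rfl | rfl <;> rfl
  have hνe : ν ^ e = μ ^ d := by
    have h3 : ν ^ e = ν ^ rt chevE8 (nn s1) j0 * (ν ^ rt chevE8 (nn s2) j0)⁻¹ := by
      rw [← zpow_neg, ← zpow_add, ← hκ, sub_eq_add_neg]
    have h4 : μ ^ d = μ ^ χ₁ * (μ ^ χ₂)⁻¹ := by
      rw [← zpow_neg, ← zpow_add, ← hdiff, sub_eq_add_neg]
    rw [h3, h4, ← f1, ← f2]
    rw [mul_inv, mul_mul_mul_comm, mul_inv_cancel, one_mul]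
  have hν' : ν = μ ^ (d * e) := by
    rw [zpow_mul, ← hνe, ← zpow_mul, hee, zpow_one]
  have hτ' : τ = μ ^ (e * c0) := by
    have h3 : τ = μ ^ χ₂ * (ν ^ rt chevE8 (nn s2) j0)⁻¹ := by rw [← f2, mul_assoc, mul_inv_cancel, mul_one]
    rw [h3, hν', ← zpow_mul, ← zpow_neg, ← zpow_add]
    congr 1
    have h5 : χ₂ = e * (e * χ₂) := by rw [← mul_assoc, hee, one_mul]
    rw [← e2] at h5
    rw [h5]
    ring
  rw [← ht, ← map_zpow]
  apply rho_injective
  rw [rho_Phi, rho_Phi]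
  refine congrArg Matrix.diagonal (funext fun s => ?_)
  rw [wt_zpow, hT.wt_lam, wt_one hT.lt hs, ← hτ, ← hν, hτ', hν', ← zpow_mul, ← zpow_mul, ← zpow_add]
  congr 2
  ring

end

/-- `y` generates the torus of the element `x` of order 3 -/
structure IsTor {F : Type u} [Field F] (x y : Gh F) (m : ℕ) : Prop where
  pow : y ^ m = x
  order : orderOf y = 3 * m
  card : 3 * m + 1 = Nat.card F ∨ 3 * m = Nat.card F + 1
  fixL : ∀ X, L F x X = X → L F y X = X
  comm : ∀ g, g * x = x * g → g * y = y * g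
  inv : ∀ g, g * x * g⁻¹ = x⁻¹ → g * y * g⁻¹ = y⁻¹

theorem Phi_zpow_lam {K : Type u} [Field K] (l : Fin chevE7.rank → ℤ) (μ : Kˣ) (e : ℤ) :
    lam l μ ^ e = lam l (μ ^ e) := by
  funext i
  show (μ ^ l i) ^ e = (μ ^ e) ^ l i
  rw [← zpow_mul, ← zpow_mul, mul_comm]

/-- **the torus of an element of order 3**, general form -/
theorem TL.main {F : Type u} [Field F] [Finite F] (h2 : (2 : F) ≠ 0) (h3 : (3 : F) ≠ 0)
    {l : Fin chevE7.rank → ℤ} {j0 : ℕ} {d c0 χ₁ χ₂ : ℤ} (hT : TL l j0 d c0 χ₁ χ₂) (hd : d ≠ 0) {x : Gh F}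
    (hex : ∀ ζ : (AlgebraicClosure F)ˣ, IsPrimitiveRoot ζ 3 →
      ∃ g, Phi (AlgebraicClosure F) (R2.T1.lam l ζ) = g * emb (algebraMap F (AlgebraicClosure F)) x * g⁻¹) :
    ∃ (y : Gh F) (m : ℕ), IsTor x y m ∧ ((∀ w ∈ WL, chv j0 d c0 w % 3 = 0 → chv j0 d c0 w = 0) →
      ∀ v, V F x v = v → V F y v = v) := by
  have h3' : ((3 : ℕ) : F) ≠ 0 := by exact_mod_cast h3
  let K := AlgebraicClosure F
  let f : F →+* K := algebraMap F K
  obtain ⟨s, hs⟩ := exists_frob f
  have h2K : (2 : K) ≠ 0 := by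
    have h := (map_ne_zero f).2 h2
    rwa [map_ofNat] at h
  have hq3 := card_mod (by norm_num) h3'
  have hq0 : ((Nat.card F : ℕ) : K) = 0 := by
    have := Fintype.ofFinite F
    have h7 : (Nat.card F : F) = 0 := by
      rw [Nat.card_eq_fintype_card]
      exact FiniteField.cast_card_eq_zero F
    have h8 := congrArg f h7
    rwa [map_natCast, map_zero] at h8
  have hq1 : 1 < Nat.card F := Finite.one_lt_card
  obtain ⟨m, hm, hm0, hmK⟩ : ∃ m : ℕ, (3 * m + 1 = Nat.card F ∨ 3 * m = Nat.card F + 1) ∧ 0 < m ∧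
      ((3 * m : ℕ) : K) ≠ 0 := by
    rcases (by omega : Nat.card F % 3 = 1 ∨ Nat.card F % 3 = 2) with h | h
    · refine ⟨Nat.card F / 3, by omega, by omega, ?_⟩
      have h4 : 3 * (Nat.card F / 3) + 1 = Nat.card F := by omega
      have h5 : ((3 * (Nat.card F / 3) : ℕ) : K) + 1 = 0 := by
        rw [← hq0, ← h4]; push_cast; congr 3; omega
      intro h6
      rw [h6, zero_add] at h5
      exact one_ne_zero h5
    · refine ⟨(Nat.card F + 1) / 3, by omega, by omega, ?_⟩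
      have h4 : 3 * ((Nat.card F + 1) / 3) = Nat.card F + 1 := by omega
      rw [h4, Nat.cast_add, hq0, zero_add, Nat.cast_one]
      exact one_ne_zero
  have : NeZero ((3 * m : ℕ) : K) := ⟨hmK⟩
  obtain ⟨μ', hμ'⟩ : ∃ μ : K, IsPrimitiveRoot μ (3 * m) := HasEnoughRootsOfUnity.exists_primitiveRoot K (3 * m)
  have hμ0 : μ' ≠ 0 := hμ'.ne_zero (by omega)
  obtain ⟨μ, hμu⟩ : ∃ μ : Kˣ, (μ : K) = μ' := ⟨Units.mk0 μ' hμ0, rfl⟩
  rw [← hμu] at hμ'
  have hμ : IsPrimitiveRoot μ (3 * m) := IsPrimitiveRoot.coe_units_iff.1 hμ'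
  have hζ : IsPrimitiveRoot (μ ^ m) 3 := hμ.pow (by omega) (mul_comm 3 m)
  obtain ⟨g, hg⟩ := hex (μ ^ m) hζ
  change Phi K (R2.T1.lam l (μ ^ m)) = g * emb f x * g⁻¹ at hg
  have hxg : emb f x = g⁻¹ * Phi K (R2.T1.lam l (μ ^ m)) * g := by rw [hg]; group
  -- the Frobenius endomorphism
  obtain ⟨e, he, hsμ⟩ : ∃ e : ℤ, (e = 1 ∨ e = -1) ∧ Units.map (s : K →* K) μ = μ ^ e := by
    rcases hm with h | h
    · refine ⟨1, Or.inl rfl, ?_⟩
      rw [zpow_one]
      apply Units.ext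
      show s (μ : K) = μ
      rw [hs, ← h, pow_succ, ← Units.val_pow_eq_pow_val, hμ.pow_eq_one, Units.val_one, one_mul]
    · refine ⟨-1, Or.inr rfl, ?_⟩
      rw [zpow_neg_one]
      apply eq_inv_of_mul_eq_one_left
      apply Units.ext
      show s (μ : K) * μ = 1
      rw [hs, ← pow_succ, ← h, ← Units.val_pow_eq_pow_val, hμ.pow_eq_one, Units.val_one]
  have hsl : ∀ k : ℕ, emb s (Phi K (R2.T1.lam l (μ ^ k))) = Phi K (R2.T1.lam l (μ ^ k)) ^ e := by
    intro k
    rw [emb_Phi, ← map_zpow, Phi_zpow_lam]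
    congr 1
    funext i
    show Units.map (s : K →* K) ((μ ^ k) ^ l i) = ((μ ^ k) ^ e) ^ l i
    rw [map_zpow, map_pow, hsμ]
    congr 1
    rw [← zpow_natCast, ← zpow_natCast, ← zpow_mul, ← zpow_mul, mul_comm]
  set z : Gh K := g⁻¹ * Phi K (R2.T1.lam l μ) * g with hz
  have hconj : ∀ (h : Gh K) (e : ℤ), (e = 1 ∨ e = -1) → h * emb f x * h⁻¹ = emb f x ^ e → h * z * h⁻¹ = z ^ e := by
    intro h e he hh
    have h4 : (g * h * g⁻¹) * Phi K (R2.T1.lam l (μ ^ m)) * (g * h * g⁻¹)⁻¹ = Phi K (R2.T1.lam l (μ ^ m)) ^ e := by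
      have h5 : (g * h * g⁻¹) * Phi K (R2.T1.lam l (μ ^ m)) * (g * h * g⁻¹)⁻¹ = g * (h * emb f x * h⁻¹) * g⁻¹ := by
        rw [hg]; group
      rw [h5, hh, hg, ← MulAut.conj_apply, map_zpow, MulAut.conj_apply]
    have h6 := hT.conj h2K hd hζ he h4 μ
    have h7 : h * z * h⁻¹ = g⁻¹ * ((g * h * g⁻¹) * Phi K (R2.T1.lam l μ) * (g * h * g⁻¹)⁻¹) * g := by
      rw [hz]; group
    have h8 : z ^ e = g⁻¹ * Phi K (R2.T1.lam l μ) ^ e * g := by
      have h9 : z = MulAut.conj g⁻¹ (Phi K (R2.T1.lam l μ)) := by rw [MulAut.conj_apply, inv_inv]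
      rw [h9, ← map_zpow, MulAut.conj_apply, inv_inv]
    rw [h7, h6, h8]
  have hfz : emb s z = z := by
    have h4 : (emb s g * g⁻¹) * Phi K (R2.T1.lam l (μ ^ m)) * (emb s g * g⁻¹)⁻¹ = Phi K (R2.T1.lam l (μ ^ m)) ^ e := by
      rw [← hsl m, hg, map_mul, map_mul, emb_frob f s hs, map_inv]
      group
    have h6 := hT.conj h2K hd hζ he h4 μ
    have h7 := hsl 1
    rw [pow_one] at h7
    rw [hz, map_mul, map_mul, h7, ← h6, map_inv]
    group
  obtain ⟨y, hy⟩ := exists_of_emb_eq f s hs hfz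
  have hinj := emb_injective f
  have hzpow : ∀ k : ℕ, z ^ k = g⁻¹ * Phi K (R2.T1.lam l (μ ^ k)) * g := by
    intro k
    have h9 : z = MulAut.conj g⁻¹ (Phi K (R2.T1.lam l μ)) := by rw [MulAut.conj_apply, inv_inv]
    have h10 : R2.T1.lam l (μ ^ k) = R2.T1.lam l μ ^ k := by
      rw [← zpow_natCast, ← zpow_natCast, Phi_zpow_lam]
    rw [h9, ← map_pow, MulAut.conj_apply, inv_inv, ← map_pow, h10]
  refine ⟨y, m, ⟨?_, ?_, hm, fun X hX => ?_, fun g' hg' => ?_, fun g' hg' => ?_⟩, fun hV v hv => ?_⟩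
  · apply hinj
    rw [map_pow, hy, hzpow, hxg]
  · rw [← orderOf_injective (emb f) hinj, hy]
    have h4 : orderOf z = orderOf (R2.T1.lam l μ) := by
      have h9 : z = MulAut.conj g⁻¹ (Phi K (R2.T1.lam l μ)) := by rw [MulAut.conj_apply, inv_inv]
      rw [h9, MulEquiv.orderOf_eq, orderOf_injective (Phi K) isPhi.inj]
    rw [h4, hμ.eq_orderOf]
    apply Nat.dvd_antisymm
    · apply orderOf_dvd_of_pow_eq_one
      exact lam_pow l (pow_orderOf_eq_one μ)
    · apply orderOf_dvd_of_pow_eq_one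
      apply hT.lam_injective
      show R2.T1.lam l (μ ^ orderOf (R2.T1.lam l μ)) = R2.T1.lam l 1
      rw [lam_one, ← pow_orderOf_eq_one (R2.T1.lam l μ), ← zpow_natCast, ← zpow_natCast, Phi_zpow_lam]
  · have h4 : L K (emb f x) (fun i => f (X i)) = fun i => f (X i) := by rw [L_emb, hX]
    have h5 : L K (Phi K (R2.T1.lam l (μ ^ m))) (L K g fun i => f (X i)) = L K g fun i => f (X i) := by
      rw [hg, ← Module.End.mul_apply, ← map_mul, inv_mul_cancel_right, map_mul, Module.End.mul_apply, h4]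
    have h6 : L K z (fun i => f (X i)) = fun i => f (X i) := by
      rw [hz, map_mul, map_mul, Module.End.mul_apply, Module.End.mul_apply, hT.fix hζ h5 μ, ← Module.End.mul_apply,
        ← map_mul, inv_mul_cancel, map_one, Module.End.one_apply]
    rw [← hy, L_emb] at h6
    funext i
    exact f.injective (congrFun h6 i)
  · apply hinj
    have h4 := hconj (emb f g') 1 (Or.inl rfl) (by
      rw [zpow_one, ← map_mul, hg', map_mul, mul_inv_cancel_right])
    rw [zpow_one, mul_inv_eq_iff_eq_mul] at h4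
    rw [map_mul, map_mul, hy, h4]
  · apply hinj
    have h4 := hconj (emb f g') (-1) (Or.inr rfl) (by
      rw [zpow_neg_one, ← map_inv, ← map_inv, ← map_mul, ← map_mul, hg'])
    rw [map_mul, map_mul, map_inv, map_inv, hy, h4, zpow_neg_one]
  · have h4 : V K (emb f x) (fun i => f (v i)) = fun i => f (v i) := by rw [V_emb, hv]
    have h5 : V K (Phi K (R2.T1.lam l (μ ^ m))) (V K g fun i => f (v i)) = V K g fun i => f (v i) := by
      rw [hg, ← Module.End.mul_apply, ← map_mul, inv_mul_cancel_right, map_mul, Module.End.mul_apply, h4]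
    have h6 : V K (Phi K (R2.T1.lam l μ)) (V K g fun i => f (v i)) = V K g fun i => f (v i) := by
      funext t
      have h7 := congrFun h5 t
      rw [V_Phi_apply, hT.wt_lam] at h7 ⊢
      by_cases h8 : V K g (fun i => f (v i)) t = 0
      · rw [h8, mul_zero]
      · have h9 : (((μ ^ m) ^ (c0 + d * rt chevE8 (nn t) j0) : Kˣ) : K) = 1 := by
          apply mul_right_cancel₀ h8
          rw [h7, one_mul]
        have h10 : (μ ^ m) ^ (c0 + d * rt chevE8 (nn t) j0) = 1 := Units.ext h9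
        rw [hζ.zpow_eq_one_iff_dvd] at h10
        have h11 : nn t ∈ WL.map Prod.fst := (WL_mem _ (nn_lt t)).1 (rt_nn t)
        obtain ⟨w, hw, hwt⟩ := List.mem_map.1 h11
        have h12 : chv j0 d c0 w = c0 + d * rt chevE8 (nn t) j0 := by
          rw [← hwt, WL_rt w hw j0 hT.lt]
          rfl
        have h13 := hV w hw (by rw [h12]; exact Int.emod_eq_zero_of_dvd h10)
        rw [← h12, h13, zpow_zero, Units.val_one, one_mul]
    have h14 : V K z (fun i => f (v i)) = fun i => f (v i) := by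
      rw [hz, map_mul, map_mul, Module.End.mul_apply, Module.End.mul_apply, h6, ← Module.End.mul_apply,
        ← map_mul, inv_mul_cancel, map_one, Module.End.one_apply]
    rw [← hy, V_emb] at h14
    funext i
    exact f.injective (congrFun h14 i)

theorem nf49 : chkNf 3 20 49 [[0, 0, 0, 0, 0, 1, 0], [1, 0, 0, 0, 0, 0, 1]] = true := by decide +kernel
section
variable {F : Type u} [Field F] [Finite F] (h2 : (2 : F) ≠ 0) (h3 : (3 : F) ≠ 0) {x : Gh F} (hx : x ^ 3 = 1)

include h3 hx in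
theorem exists_lam_F {l : Fin chevE7.rank → ℤ} {j0 : ℕ} {d c0 χ₁ χ₂ : ℤ} (hT : TL l j0 d c0 χ₁ χ₂) {v0 l0 : ℕ}
    {S : List (List ℕ)} (hchk : chkNf 3 v0 l0 S = true)
    (hw : ∀ Y ∈ S, ∃ w : List (Fin 7), w.foldl (fun v j => srefl chevE7 7 j v) (fun i : Fin 7 =>
      ((Y.getD i 0 : ℕ) : ZMod 3)) = fun i : Fin 7 => ((if (i : ℕ) = j0 then d else 0 : ℤ) : ZMod 3))
    (hv : ev (V F x) 1 = v0) (hl : ev (L F x) 1 = l0) (ζ : (AlgebraicClosure F)ˣ) (hζ : IsPrimitiveRoot ζ 3) :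
    ∃ g, Phi (AlgebraicClosure F) (R2.T1.lam l ζ) = g * emb (algebraMap F (AlgebraicClosure F)) x * g⁻¹ := by
  obtain ⟨p, hpp, hp, hcop⟩ := exists_char (N := 3) (by exact_mod_cast h3)
  exact hT.exists_lam hchk hw hζ (frame p (by norm_num) hcop hx) (by rw [ev_V_one, hv]) (by rw [ev_L_one, hl])

/-- elements with fixed vectors have the same order in the adjoint group -/
theorem orderOf_ad {F : Type u} [Field F] {y : Gh F} {v : D1 → F} (hv : v ≠ 0) (h : V F y v = v) :
    orderOf (ad F y) = orderOf y := by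
  apply Nat.dvd_antisymm (orderOf_map_dvd _ _)
  apply orderOf_dvd_of_pow_eq_one
  have h1 : ad F (y ^ orderOf (ad F y)) = 1 := by rw [map_pow, pow_orderOf_eq_one]
  have h2 : ∀ k : ℕ, V F (y ^ k) v = v := by
    intro k
    induction k with
    | zero => rw [pow_zero, map_one, Module.End.one_apply]
    | succ k ih => rw [pow_succ, map_mul, Module.End.mul_apply, h, ih]
  rcases ad_eq_one_iff.1 h1 with h3 | h3
  · exact faithful h3
  · have h4 := h2 (orderOf (ad F y))
    rw [h3] at h4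
    have h5 : -v = v := h4
    obtain ⟨t, ht⟩ : ∃ t, v t ≠ 0 := by
      by_contra hcon
      apply hv
      funext t
      by_contra h6
      exact hcon ⟨t, h6⟩
    have h6 : -v t = v t := congrFun h5 t
    have h7 : (-1 : F) = 1 := by
      apply mul_right_cancel₀ ht
      rw [neg_one_mul, one_mul, h6]
    apply faithful
    rw [h3]
    refine LinearMap.ext fun w => funext fun t => ?_
    show -w t = w t
    rw [← neg_one_mul, h7, one_mul]

include h2 h3 hx

/-- **the torus of the elements of order 3 of type `D₅ A₁`** -/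
theorem tor49 (hv : ev (V F x) 1 = 20) (hl : ev (L F x) 1 = 49) :
    ∃ (y : Gh F) (m : ℕ), IsTor x y m ∧ ∀ v, V F x v = v → V F y v = v := by
  obtain ⟨y, m, h4, h5⟩ := TL6.main h2 h3 (by decide) (exists_lam_F h3 hx TL6 nf49 (fun Y hY => by
    simp only [List.mem_cons, List.not_mem_nil, or_false] at hY
    rcases hY with rfl | rfl
    · exact ⟨[], by decide +kernel⟩
    · exact ⟨[6, 5, 4, 3, 1, 2, 0, 3, 2, 4, 3, 1, 5, 4, 3, 2, 0, 6, 5, 4, 3, 1, 2, 3, 4, 5], by (delta Cfsg.Agent.ChevalleyStructure.CoxeterGeomTypes.cartanOf Cfsg.Agent.H944.Kac.srefl; rewrite [Cfsg.Agent.ChevFast.E7.cartan]; decide +kernel)⟩) hv hl)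
  exact ⟨y, m, h4, h5 (by decide +kernel)⟩

end

end Cfsg.Agent.R2.T1
end

-- part: R2/T1/Inf/Aut
section
prune_inst 0x4200840010002000000008283002240440000000043000009200040080040630902a60010200210110880200000014000000019800000000000800040010120940152028348a10466008f800804000000000000000000000000000000000004000000000
set_option linter.all false
open scoped Cfsg.Agent.FastGrp

/-!
# S5771, S5929: elements of `H` as permutations, `n ≥ 7` (helper11)

* `exists_perm` : the elements of `H` act on `A_n` as permutations;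
* `comm_three` : an element of `H` which centralizes `C_{A_n}(c)`, `c` a 3-cycle, is a power of `c`;
* `no_tor` : a torus of order `3 m` of a lift of a 3-cycle in `H`: `m = 1`, that is `q = 2` or `q = 4`;
* `no32` : if `H` stabilizes a proper subspace of `V F` then the 3-cycles do not have 32 fixed weights (`q ≠ 2, 4`);
* `no_inv3`, `no_inv3'` : if `A_n` has fixed vectors on the adjoint module then the 3-cycles are not of type `(20, 49)`,
  `(32, 67)` (`q` odd), and not of type `(2, 79)`, `(14, 49)` if `q ≠ 5, 7`.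
-/

set_option autoImplicit false
set_option maxRecDepth 100000

namespace Cfsg.Agent.R2.T1

open Cfsg Cfsg.Lie Module Equiv Equiv.Perm
open Cfsg.Agent.H943.E7V.Block (D1 rho)
open Cfsg.Agent.H952.F4 (ev es MaxAlt)

universe u

/-! ### permutations -/

section perm
variable {n : ℕ}

theorem card_support_compl {c : Perm (Fin n)} (hc : c.IsThreeCycle) : (Finset.univ \ c.support).card = n - 3 := by
  rw [Finset.card_sdiff_of_subset (Finset.subset_univ _), Finset.card_univ, Fintype.card_fin, hc.card_support]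

theorem exists_three {c : Perm (Fin n)} (hn : 7 ≤ n) (hc : c.IsThreeCycle) {u : Fin n} (hu : u ∉ c.support) :
    ∃ v w t : Fin n, v ∉ c.support ∧ w ∉ c.support ∧ t ∉ c.support ∧ u ≠ v ∧ u ≠ w ∧ u ≠ t ∧ v ≠ w ∧ v ≠ t ∧ w ≠ t := by
  have h1 : 3 ≤ ((Finset.univ \ c.support).erase u).card := by
    rw [Finset.card_erase_of_mem (by simp [hu]), card_support_compl hc]
    omega
  obtain ⟨s, hs, hs3⟩ := Finset.exists_subset_card_eq h1
  obtain ⟨v, w, t, hvw, hvt, hwt, rfl⟩ := Finset.card_eq_three.1 hs3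
  have hv := hs (Finset.mem_insert_self _ _)
  have hw := hs (Finset.mem_insert_of_mem (Finset.mem_insert_self _ _))
  have ht := hs (Finset.mem_insert_of_mem (Finset.mem_insert_of_mem (Finset.mem_singleton_self _)))
  rw [Finset.mem_erase, Finset.mem_sdiff] at hv hw ht
  exact ⟨v, w, t, hv.2.2, hw.2.2, ht.2.2, Ne.symm hv.1, Ne.symm hw.1, Ne.symm ht.1, hvw, hvt, hwt⟩

/-- the 3-cycle `u → v → w → u` -/
def cyc3 (u v w : Fin n) : Perm (Fin n) := swap u v * swap v w

theorem cyc3_mem {u v w : Fin n} (huv : u ≠ v) (hvw : v ≠ w) : cyc3 u v w ∈ alternatingGroup (Fin n) := by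
  rw [mem_alternatingGroup, cyc3, Perm.sign_mul, sign_swap huv, sign_swap hvw]
  decide

theorem cyc3_fix {u v w z : Fin n} (h1 : z ≠ u) (h2 : z ≠ v) (h3 : z ≠ w) : cyc3 u v w z = z := by
  rw [cyc3, Perm.mul_apply, swap_apply_of_ne_of_ne h2 h3, swap_apply_of_ne_of_ne h1 h2]

theorem cyc3_ne {u v w z : Fin n} (huv : u ≠ v) (huw : u ≠ w) (hvw : v ≠ w) (h : z = u ∨ z = v ∨ z = w) :
    cyc3 u v w z ≠ z := by
  rcases h with rfl | rfl | rfl
  · rw [cyc3, Perm.mul_apply, swap_apply_of_ne_of_ne huv huw, swap_apply_left]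
    exact Ne.symm huv
  · rw [cyc3, Perm.mul_apply, swap_apply_left, swap_apply_of_ne_of_ne (Ne.symm huw) (Ne.symm hvw)]
    exact Ne.symm hvw
  · rw [cyc3, Perm.mul_apply, swap_apply_right, swap_apply_right]
    exact huw

theorem cyc3_comm {c : Perm (Fin n)} {u v w : Fin n} (hu : u ∉ c.support) (hv : v ∉ c.support) (hw : w ∉ c.support) :
    cyc3 u v w * c = c * cyc3 u v w := by
  rw [notMem_support] at hu hv hw
  have hcs : ∀ {a b : Fin n}, c a = a → c b = b → swap a b * c = c * swap a b := by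
    intro a b ha hb
    have h1 := mul_swap_eq_swap_mul c a b
    rw [ha, hb] at h1
    exact h1.symm
  rw [cyc3, mul_assoc, hcs hv hw, ← mul_assoc, hcs hu hv, mul_assoc]

/-- a permutation which centralizes the centralizer of the 3-cycle `c` is a power of `c` -/
theorem perm_pow {c : Perm (Fin n)} (hn : 7 ≤ n) (hc : c.IsThreeCycle) {σ : Perm (Fin n)}
    (h : ∀ a ∈ alternatingGroup (Fin n), a * c = c * a → σ * a * σ⁻¹ = a) : ∃ k : ℤ, σ = c ^ k := by
  have hfix : ∀ u, u ∉ c.support → σ u = u := by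
    intro u hu
    obtain ⟨v, w, t, hv, hw, ht, huv, huw, hut, hvw, hvt, hwt⟩ := exists_three hn hc hu
    have key : ∀ {a b : Fin n}, a ∉ c.support → b ∉ c.support → u ≠ a → u ≠ b → a ≠ b → σ u = u ∨ σ u = a ∨ σ u = b := by
      intro a b ha hb hua hub hab
      by_contra hcon
      push Not at hcon
      have h1 := h _ (cyc3_mem hua hab) (cyc3_comm hu ha hb)
      have h2 : cyc3 u a b (σ u) = σ u := cyc3_fix hcon.1 hcon.2.1 hcon.2.2
      rw [← h1, Perm.mul_apply, Perm.mul_apply, show σ⁻¹ (σ u) = u from σ.symm_apply_apply u] at h2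
      exact cyc3_ne hua hub hab (Or.inl rfl) (σ.injective h2)
    rcases key hv hw huv huw hvw with h1 | h1 | h1
    · exact h1
    · rcases key hw ht huw hut hwt with h2 | h2 | h2
      · exact h2
      · exact absurd (h1.symm.trans h2) hvw
      · exact absurd (h1.symm.trans h2) hvt
    · rcases key hv ht huv hut hvt with h2 | h2 | h2
      · exact h2
      · exact absurd (h2.symm.trans h1) hvw
      · exact absurd (h1.symm.trans h2) hwt
  have hcomm : ∀ y, σ (c y) = c (σ y) := by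
    intro y
    have h1 := h c (by rw [mem_alternatingGroup]; exact hc.sign) rfl
    rw [mul_inv_eq_iff_eq_mul] at h1
    exact congrArg (fun g : Perm (Fin n) => g y) h1
  have hcommz : ∀ (k : ℤ) (y : Fin n), σ ((c ^ k) y) = (c ^ k) (σ y) := by
    intro k y
    have h1 : Commute σ c := Perm.ext hcomm
    have h2 : σ * c ^ k = c ^ k * σ := (h1.zpow_right k).eq
    exact congrArg (fun g : Perm (Fin n) => g y) h2
  obtain ⟨x, hx⟩ : ∃ x, x ∈ c.support := by
    have h1 : c.support.card = 3 := hc.card_support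
    exact Finset.card_pos.1 (by omega)
  have hσx : σ x ∈ c.support := by
    by_contra h1
    have h2 := hfix _ h1
    exact h1 (by rw [σ.injective h2]; exact hx)
  have hcyc : c.IsCycle := hc.isCycle
  obtain ⟨k, hk⟩ := hcyc.exists_zpow_eq (mem_support.1 hx) (mem_support.1 hσx)
  refine ⟨k, Perm.ext fun y => ?_⟩
  by_cases hy : y ∈ c.support
  · obtain ⟨j, rfl⟩ := hcyc.exists_zpow_eq (mem_support.1 hx) (mem_support.1 hy)
    rw [hcommz, ← hk, ← Perm.mul_apply, ← Perm.mul_apply, ← zpow_add, ← zpow_add, add_comm]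
  · rw [hfix y hy]
    symm
    have h1 : c y = y := notMem_support.1 hy
    exact zpow_apply_eq_self_of_apply_eq_self h1 k

end perm

section
variable {F : Type u} [Field F] [Finite F] {H : Subgroup ↥(chevE7.group F)} {n : ℕ}
  {φ : ↥(alternatingGroup (Fin n)) →* ↥(chevE7.group F)}

omit [Finite F] in
/-- **the elements of `H` act on `A_n` as permutations** -/
theorem exists_perm (hn : 7 ≤ n) (hM : MaxAlt H n φ) {h : ↥(chevE7.group F)} (hh : h ∈ H) :
    ∃ σ : Perm (Fin n), ∀ a b : ↥(alternatingGroup (Fin n)), (b : Perm (Fin n)) = σ * a * σ⁻¹ → h * φ a * h⁻¹ = φ b := by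
  have hex : ∀ a, ∃ b, φ b = h * φ a * h⁻¹ := fun a => hM.norm h hh _ ⟨a, rfl⟩
  choose f hf using hex
  let e0 : ↥(alternatingGroup (Fin n)) →* ↥(alternatingGroup (Fin n)) := MonoidHom.mk' f fun a b => hM.inj (by
    rw [hf, map_mul, map_mul, hf, hf]; group)
  have he0 : ∀ a, φ (e0 a) = h * φ a * h⁻¹ := hf
  have hinj : Function.Injective e0 := by
    intro a b hab
    apply hM.inj
    have h1 : h * φ a * h⁻¹ = h * φ b * h⁻¹ := by rw [← he0, ← he0, hab]
    exact mul_left_cancel (mul_right_cancel h1)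
  let e : MulAut ↥(alternatingGroup (Fin n)) := MulEquiv.ofBijective e0 (Finite.injective_iff_bijective.1 hinj)
  obtain ⟨ψ, hψ⟩ := Cfsg.Agent.StandardComponent.AltAut.exists_autHom n hn
  refine ⟨ψ e, fun a b hb => ?_⟩
  have h1 : e a = b := by
    apply Subtype.ext
    rw [hψ e a, hb]
  rw [← h1, ← he0]
  rfl

omit [Finite F] in
/-- **an element of `H` which centralizes `C_{A_n}(c)` is a power of `c`** -/
theorem comm_three (hn : 7 ≤ n) (hM : MaxAlt H n φ) {h : ↥(chevE7.group F)} (hh : h ∈ H)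
    {c : ↥(alternatingGroup (Fin n))} (hc : (c : Perm (Fin n)).IsThreeCycle)
    (hcomm : ∀ a, a * c = c * a → h * φ a = φ a * h) : ∃ k : ℤ, h = φ c ^ k := by
  obtain ⟨σ, hσ⟩ := exists_perm hn hM hh
  have h1 : ∀ a ∈ alternatingGroup (Fin n), a * (c : Perm (Fin n)) = c * a → σ * a * σ⁻¹ = a := by
    intro a ha hac
    have hmem : σ * a * σ⁻¹ ∈ alternatingGroup (Fin n) := by
      rw [mem_alternatingGroup] at ha ⊢
      rw [Perm.sign_mul, Perm.sign_mul, ha, mul_one, Perm.sign_inv, Int.units_mul_self]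
    have h2 := hσ ⟨a, ha⟩ ⟨σ * a * σ⁻¹, hmem⟩ rfl
    have h3 := hcomm ⟨a, ha⟩ (Subtype.ext hac)
    rw [h3, mul_inv_cancel_right] at h2
    exact (congrArg Subtype.val (hM.inj h2)).symm
  obtain ⟨k, hk⟩ := perm_pow hn hc h1
  refine ⟨k, ?_⟩
  have h2 : ∀ a, φ a * ((φ c ^ k)⁻¹ * h) = ((φ c ^ k)⁻¹ * h) * φ a := by
    intro a
    have h3 := hσ a (c ^ k * a * (c ^ k)⁻¹) (by rw [hk]; rfl)
    rw [map_mul, map_mul, map_inv, map_zpow] at h3
    have h4 : h * φ a = φ c ^ k * φ a * (φ c ^ k)⁻¹ * h := by rw [← h3]; group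
    rw [mul_assoc (φ c ^ k)⁻¹, h4]
    group
  have h3 := centralizer_eq hM (by omega) h2
  rw [inv_mul_eq_one] at h3
  exact h3.symm

omit [Finite F] in
/-- elements commuting in the adjoint group with an element of odd order -/
theorem comm_lift {x g : Gh F} {k : ℕ} (hk : Odd k) (hx : x ^ k = 1) (h : ad F g * ad F x = ad F x * ad F g) :
    g * x = x * g := by
  have h1 : g * x * g⁻¹ = x := by
    apply odd_unique hk
    · rw [map_mul, map_mul, h, map_inv, mul_inv_cancel_right]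
    · rw [← MulAut.conj_apply, ← map_pow, hx, map_one]
    · exact hx
  rwa [mul_inv_eq_iff_eq_mul] at h1

/-- the torus of a lift of a 3-cycle is not in `H` -/
theorem no_tor (hn : 7 ≤ n) (hM : MaxAlt H n φ) {c : ↥(alternatingGroup (Fin n))} (hc : (c : Perm (Fin n)).IsThreeCycle)
    {x y : Gh F} (hx : x ^ 3 = 1) (hxc : ad F x = φ c) (hcomm : ∀ g, g * x = x * g → g * y = y * g)
    (hy : ad F y ∈ H) : orderOf (ad F y) ∣ 3 := by
  obtain ⟨k, hk⟩ := comm_three hn hM hy hc (fun a ha => by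
    obtain ⟨g, hg⟩ := ad_surjective (φ a)
    have h1 : g * x = x * g := comm_lift (by decide) hx (by rw [hg, hxc, ← map_mul, ← map_mul, ha])
    rw [← hg, ← map_mul, ← map_mul, hcomm g h1])
  apply orderOf_dvd_of_pow_eq_one
  rw [hk, ← zpow_natCast, ← zpow_mul, mul_comm, zpow_mul, zpow_natCast, ← hxc, ← map_pow, hx, map_one, one_zpow]

omit [Finite F] in
/-- the fixed points of `A_n` on the adjoint module form a stable subspace -/
theorem stab_inv (hM : MaxAlt H n φ) : Stab (L F) H (Representation.invariants (MonoidHom.comp (LK F) φ)) := by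
  intro g hg w hw
  rw [Representation.mem_invariants] at hw ⊢
  intro a
  obtain ⟨b, hb⟩ := hM.norm (ad F g)⁻¹ (inv_mem hg) _ ⟨a, rfl⟩
  rw [inv_inv] at hb
  have h1 : φ a * ad F g = ad F g * φ b := by rw [hb]; group
  show LK F (φ a) (LK F (ad F g) w) = LK F (ad F g) w
  rw [← Module.End.mul_apply, ← map_mul, h1, map_mul, Module.End.mul_apply]
  congr 1
  exact hw b

end

end Cfsg.Agent.R2.T1

private theorem dce_88c48cf1812f : _root_.True := by
  try have : _root_.True := by simp only [_root_.Cfsg.Agent.R2.T1.cyc3.eq_1]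
  exact _root_.True.intro
end

-- part: R2/T1/Odd/Nrm
section
prune_inst 0x14204940650002000018009281002664640001020063000119e00040084f53632907a70156f01a10111aaae04002814000000059803800002000820040010120942b72e2937cbd0476008fc0f807100000000000000000000000000000041004000000000
set_option linter.all false
open scoped Cfsg.Agent.FastGrp

/-!
# S5771: the preimage of `H` acts on the lift (helper11)

* `hom_eq` : homomorphisms of a perfect group into `Gh F` with the same image in the adjoint group are equal;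
* `norm_lift` : `g (ψ a) g⁻¹ = ψ (σ a σ⁻¹)` for `ad F g ∈ H`.
-/

set_option autoImplicit false

namespace Cfsg.Agent.R2.T1.Odd

open Cfsg Cfsg.Lie Module Equiv Equiv.Perm
open Cfsg.Agent.H952.F4 (MaxAlt)
open scoped commutatorElement

universe u

variable {F : Type u} [Field F]

theorem hom_eq {A : Type*} [Group A] (hA : commutator A = ⊤) {f1 f2 : A →* Gh F} (h : ∀ a, ad F (f1 a) = ad F (f2 a)) :
    ∀ a, f1 a = f2 a := by
  let E : Subgroup A :=
    { carrier := {a | f1 a = f2 a}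
      one_mem' := by show f1 1 = f2 1; rw [map_one, map_one]
      mul_mem' := by
        intro a b ha hb
        show f1 (a * b) = f2 (a * b)
        rw [map_mul, map_mul, show f1 a = f2 a from ha, show f1 b = f2 b from hb]
      inv_mem' := by
        intro a ha
        show f1 a⁻¹ = f2 a⁻¹
        rw [map_inv, map_inv, show f1 a = f2 a from ha] }
  have hz : ∀ a, ad F ((f2 a)⁻¹ * f1 a) = 1 := fun a => by rw [map_mul, map_inv, h, inv_mul_cancel]
  have h1 : commutator A ≤ E := by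
    rw [commutator_def, Subgroup.commutator_le]
    intro a _ b _
    show f1 ⁅a, b⁆ = f2 ⁅a, b⁆
    have ea : f1 a = f2 a * ((f2 a)⁻¹ * f1 a) := by rw [mul_inv_cancel_left]
    have eb : f1 b = f2 b * ((f2 b)⁻¹ * f1 b) := by rw [mul_inv_cancel_left]
    have ca := fun y => ker_comm (hz a) y
    have cb := fun y => ker_comm (hz b) y
    rw [map_commutatorElement, map_commutatorElement, commutatorElement_def, commutatorElement_def, ea, eb]
    generalize (f2 a)⁻¹ * f1 a = za at *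
    generalize (f2 b)⁻¹ * f1 b = zb at *
    rw [mul_inv_rev, mul_inv_rev]
    have c1 : ∀ y, za * y = y * za := fun y => (ca y).symm
    have c2 : ∀ y, zb * y = y * zb := fun y => (cb y).symm
    calc f2 a * za * (f2 b * zb) * (za⁻¹ * (f2 a)⁻¹) * (zb⁻¹ * (f2 b)⁻¹)
        = f2 a * (za * (f2 b * zb * za⁻¹)) * (f2 a)⁻¹ * (zb⁻¹ * (f2 b)⁻¹) := by group
      _ = f2 a * f2 b * (zb * ((f2 a)⁻¹ * zb⁻¹)) * (f2 b)⁻¹ := by rw [c1]; group
      _ = f2 a * f2 b * (f2 a)⁻¹ * (f2 b)⁻¹ := by rw [c2]; group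
  intro a
  have h2 : a ∈ E := h1 (by rw [hA]; trivial)
  exact h2

variable [Finite F] {n : ℕ} {H : Subgroup ↥(chevE7.group F)} {φ : ↥(alternatingGroup (Fin n)) →* ↥(chevE7.group F)}
  {ψ : ↥(alternatingGroup (Fin n)) →* Gh F}

theorem norm_lift (hn : 7 ≤ n) (hM : MaxAlt H n φ) (hψ : Lift φ ψ) {g : Gh F} (hg : ad F g ∈ H) :
    ∃ σ : Perm (Fin n), ∀ a b : ↥(alternatingGroup (Fin n)), (b : Perm (Fin n)) = σ * a * σ⁻¹ → g * ψ a * g⁻¹ = ψ b := by
  obtain ⟨σ, hσ⟩ := exists_perm hn hM hg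
  refine ⟨σ, ?_⟩
  have hmem : ∀ a : ↥(alternatingGroup (Fin n)), σ * a * σ⁻¹ ∈ alternatingGroup (Fin n) := by
    intro a
    rw [mem_alternatingGroup, Perm.sign_mul, Perm.sign_mul, Perm.sign_inv, mem_alternatingGroup.1 a.2, mul_one]
    exact Int.units_mul_self _
  let e : ↥(alternatingGroup (Fin n)) →* ↥(alternatingGroup (Fin n)) :=
    MonoidHom.mk' (fun a => ⟨σ * a * σ⁻¹, hmem a⟩) fun a b => by
      apply Subtype.ext
      show σ * (a * b : Perm (Fin n)) * σ⁻¹ = (σ * a * σ⁻¹) * (σ * b * σ⁻¹)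
      group
  have h1 := hom_eq (alt_perfect (by omega)) (f1 := (MulAut.conj g).toMonoidHom.comp ψ) (f2 := ψ.comp e) (by
    intro a
    show ad F (g * ψ a * g⁻¹) = ad F (ψ (e a))
    rw [map_mul, map_mul, map_inv, hψ, hψ]
    exact hσ a (e a) rfl)
  intro a b hb
  have h2 : b = e a := Subtype.ext hb
  rw [h2]
  exact h1 a

end Cfsg.Agent.R2.T1.Odd
end
end
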