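import Cfsg.Agent.R2.T1.T2p.Msk
import Cfsg.Agent.R2.PX.W.Cl_m3
import Cfsg.Agent.R2.T1.Odd.Nrm
import Cfsg.Agent.R2.T1.P3.Q3
import Cfsg.Agent.Prune
set_option linter.all false

section
prune_inst 0x7fbfeffbfbfcebffffff7e7faedefffdfbbfbfffe6dff9cbffe0ebffab9f7f92cbe5fb8f8feb1afe1ef7ea3450fc7bd3ffffffffea6ffc7ffffdfff45ffbffdffdf7bd0951dc98be1fbc2ffee3f0778e7f3fffffffffffffffffffffffffffbeffbfffffffff

-- part: R2/T1/Odd/U
section
prune_inst 0x10040402040000000000502100000000400010000230000914004040006d100000007004e001e00004090000000800000000010001000002000800040000020840342223250100424001180a806000000000000000000000000000000041004000000000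
set_option linter.all false
open scoped Cfsg.Agent.FastGrp

/-!
# S5771, ODD5: the 2-dimensional space `U` of the fixed points of `Q` (helper11)

* `CfgU ρ B` : the configuration;
* `swap_neg` : `s' = (04)(15)(26)(37)` acts as `-1` on `U = inv ρ Q`;
* `triv` : the even permutations which stabilize `{0,1,2,3}`, `{4,5,6,7}` and fix the other points act trivially on `U`.
-/

set_option autoImplicit false
set_option maxRecDepth 100000

namespace Cfsg.Agent.R2.T1.Odd

open Cfsg Cfsg.Lie Module Equiv Equiv.Perm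

universe u v

/-- the configuration -/
structure CfgU {F : Type*} [Field F] {W : Type*} [AddCommGroup W] [Module F W] {n : ℕ} [NeZero n]
    (ρ : Representation F ↥(alternatingGroup (Fin n)) W) (B : W →ₗ[F] W →ₗ[F] F) : Prop where
  two : (2 : F) ≠ 0
  fin : FiniteDimensional F W
  isom : ∀ g x y, B (ρ g x) (ρ g y) = B x y
  skew : ∀ x y, B x y = - B y x
  nd : ∀ x, (∀ y, B x y = 0) → x = 0
  dim : finrank F ↥(inv ρ (Tg n gQ)) = 2
  qs : inv ρ (Tg n gQs) = ⊥
  qj : inv ρ (Tg n gQ) ≤ inv ρ (Tg n gQj)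

def ls' : List (ℕ × ℕ) := [(0, 4), (1, 5), (2, 6), (3, 7)]
def lj : List (ℕ × ℕ) := [(0, 1), (4, 5)]

/-- `l` normalizes `Q` -/
def nrm (l : List (ℕ × ℕ)) : Bool := vl 8 l && gQ.all fun g => eQ.any fun w => cd 8 (g ++ l) == cd 8 (l ++ wd gQ w)

theorem nrm_spec {l : List (ℕ × ℕ)} (h : nrm l = true) : vl 8 l = true ∧ ∀ g ∈ gQ, ∃ w ∈ eQ, cd 8 (g ++ l) = cd 8 (l ++ wd gQ w) := by
  unfold nrm at h
  rw [Bool.and_eq_true, List.all_eq_true] at h
  refine ⟨h.1, fun g hg => ?_⟩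
  obtain ⟨w, hw, h1⟩ := List.any_eq_true.1 (h.2 g hg)
  exact ⟨w, hw, eq_of_beq h1⟩

theorem gQ_vl : gQ.all (vl 8) = true := by decide

section
variable {F : Type u} [Field F] {W : Type v} [AddCommGroup W] [Module F W] {n : ℕ} [NeZero n] (hn : 8 ≤ n)
  {ρ : Representation F ↥(alternatingGroup (Fin n)) W} {B : W →ₗ[F] W →ₗ[F] F}

theorem mem_U {gens : List (List (ℕ × ℕ))} {v : W} : v ∈ inv ρ (Tg n gens) ↔ ∀ g ∈ gens, ρ (P n g) v = v := by
  unfold Tg
  rw [mem_inv_closure]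
  constructor
  · exact fun h g hg => h _ ⟨g, hg, rfl⟩
  · rintro h _ ⟨g, hg, rfl⟩
    exact h g hg

theorem ρ_mul (a b : ↥(alternatingGroup (Fin n))) (v : W) : ρ (a * b) v = ρ a (ρ b v) := by
  rw [map_mul]; rfl

theorem ρ_one (v : W) : ρ 1 v = v := by rw [map_one]; rfl

theorem ρ_inv (a : ↥(alternatingGroup (Fin n))) (v : W) : ρ a⁻¹ (ρ a v) = v := by
  rw [← ρ_mul, inv_mul_cancel, ρ_one]

theorem ρ_inv' (a : ↥(alternatingGroup (Fin n))) (v : W) : ρ a (ρ a⁻¹ v) = v := by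
  rw [← ρ_mul, mul_inv_cancel, ρ_one]

include hn

/-- elements which normalize `Q` stabilize `U` -/
theorem nrm_mem {l : List (ℕ × ℕ)} (h : nrm l = true) {v : W} (hv : v ∈ inv ρ (Tg n gQ)) :
    ρ (P n l) v ∈ inv ρ (Tg n gQ) := by
  obtain ⟨h1, h2⟩ := nrm_spec h
  rw [mem_U]
  intro g hg
  obtain ⟨w, hw, h3⟩ := h2 g hg
  have hg' : vl 8 g = true := List.all_eq_true.1 gQ_vl g hg
  have h4 := (P_eq_iff hn (vl_append hg' h1) (vl_append h1 (vl_wd gQ_vl w))).2 h3
  rw [P_append hn hg' h1, P_append hn h1 (vl_wd gQ_vl w)] at h4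
  rw [← ρ_mul, h4, ρ_mul, hv _ (P_wd_mem hn gQ_vl w)]

theorem nrm_inv (hf : FiniteDimensional F W) {l : List (ℕ × ℕ)} (h : nrm l = true) {v : W} (hv : v ∈ inv ρ (Tg n gQ)) :
    ρ (P n l)⁻¹ v ∈ inv ρ (Tg n gQ) := by
  have h1 : (inv ρ (Tg n gQ)).map (ρ (P n l)) = inv ρ (Tg n gQ) := by
    apply Submodule.eq_of_le_of_finrank_eq
    · rintro _ ⟨x, hx, rfl⟩
      exact nrm_mem hn h hx
    · refine (LinearEquiv.finrank_eq (Submodule.equivMapOfInjective (ρ (P n l)) (fun x y hxy => ?_) _)).symm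
      have h2 := congrArg (ρ (P n l)⁻¹) hxy
      rwa [ρ_inv, ρ_inv] at h2
  rw [← h1] at hv
  obtain ⟨x, hx, rfl⟩ := hv
  rw [ρ_inv]
  exact hx

/-- `s'` acts as `-1` -/
theorem swap_neg (hC : CfgU ρ B) {u : W} (hu : u ∈ inv ρ (Tg n gQ)) : ρ (P n ls') u = -u := by
  have h1 : u + ρ (P n ls') u ∈ inv ρ (Tg n gQs) := by
    rw [mem_U]
    intro g hg
    have h2 : g ∈ gQ ∨ g = ls' := by revert g; decide
    rw [map_add]
    rcases h2 with h2 | rfl
    · have h3 := nrm_mem hn (l := ls') (by decide +kernel) hu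
      rw [mem_U] at hu h3
      rw [hu g h2, h3 g h2]
    · rw [← ρ_mul, ← pow_two, P_pow_one hn (m := 8) (by decide) (by decide), ρ_one, add_comm]
  rw [hC.qs, Submodule.mem_bot] at h1
  exact (neg_eq_of_add_eq_zero_right h1).symm

/-- the involutions `(ab)(cd)` with `a, b < 4 ≤ c, d < 8` -/
def tJ : List (List (ℕ × ℕ) × List (ℕ × ℕ)) :=
  [([(0, 1), (4, 5)], []), ([(0, 1), (4, 6)], [(5, 6), (6, 7)]), ([(0, 1), (4, 7)], [(5, 7), (7, 6)]), ([(0, 1),
   (5, 6)], [(4, 5), (5, 6)]), ([(0, 1), (5, 7)], [(4, 5), (5, 7)]), ([(0, 1), (6, 7)], [(4, 6), (5, 7)]), ([(0,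
   2), (4, 5)], [(1, 2), (6, 7)]), ([(0, 3), (4, 5)], [(1, 3), (3, 2)]), ([(1, 2), (4, 5)], [(0, 1), (1, 2)]),
   ([(1, 3), (4, 5)], [(0, 1), (1, 3)]), ([(2, 3), (4, 5)], [(0, 2), (1, 3)])]

theorem tJ_triv (hC : CfgU ρ B) {x : List (ℕ × ℕ) × List (ℕ × ℕ)} (hx : x ∈ tJ) {u : W} (hu : u ∈ inv ρ (Tg n gQ)) :
    ρ (P n x.1) u = u := by
  have key : ∀ x ∈ tJ, vl 8 x.1 = true ∧ nrm x.2 = true ∧ cd 8 (x.1 ++ x.2) = cd 8 (x.2 ++ lj) := by decide +kernel
  obtain ⟨h1, h2, h3⟩ := key x hx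
  have h4 := P_conj hn h1 (nrm_spec h2).1 (by decide) h3
  rw [h4, ρ_mul, ρ_mul]
  have h5 := nrm_inv hn hC.fin h2 hu
  have h6 := hC.qj h5
  rw [mem_U] at h6
  rw [h6 lj (by decide), ρ_inv']

/-- certificate: `[(i,j),(0,1)]` is a product of two elements of `tJ` -/
def tB : List (List (ℕ × ℕ) × List (ℕ × ℕ)) := ([], []) :: tJ

def chkB (i j : ℕ) : Bool :=
  Nat.beq i j || !(Nat.beq (i / 4) (j / 4)) || tB.any fun x => tB.any fun y =>
    vl 8 x.1 && vl 8 y.1 && cd 8 [(i, j), (0, 1)] == cd 8 (x.1 ++ y.1)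

omit hn in
theorem chkB_all : ((List.range 8).all fun i => (List.range 8).all fun j => chkB i j) = true := by decide +kernel

omit hn in
theorem vl_pair {x y : ℕ × ℕ} (hx : x.1 < 8 ∧ x.2 < 8 ∧ x.1 ≠ x.2) (hy : y.1 < 8 ∧ y.2 < 8 ∧ y.1 ≠ y.2) :
    vl 8 [x, y] = true := by
  rw [vl_iff]
  refine ⟨by simp, ?_⟩
  intro z hz
  simp only [List.mem_cons, List.not_mem_nil, or_false] at hz
  rcases hz with rfl | rfl
  · exact hx
  · exact hy

/-- in-block transpositions times `(01)` -/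
theorem base_triv (hC : CfgU ρ B) {i j : ℕ} (hi : i < 8) (hj : j < 8) (hij : i ≠ j) (hb : i / 4 = j / 4) {u : W}
    (hu : u ∈ inv ρ (Tg n gQ)) : ρ (P n [(i, j), (0, 1)]) u = u := by
  have key := List.all_eq_true.1 (List.all_eq_true.1 chkB_all i (List.mem_range.2 hi)) j (List.mem_range.2 hj)
  unfold chkB at key
  rw [Bool.or_eq_true, Bool.or_eq_true, Bool.not_eq_true', nb, ← Bool.not_eq_true, nb] at key
  have key' := (key.resolve_left (by rintro (h | h); exacts [hij h, h hb]))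
  obtain ⟨x, hx, key'⟩ := List.any_eq_true.1 key'
  obtain ⟨y, hy, key'⟩ := List.any_eq_true.1 key'
  rw [Bool.and_eq_true, Bool.and_eq_true, beq_iff_eq] at key'
  obtain ⟨⟨h1, h2⟩, h3⟩ := key'
  have hv : vl 8 [(i, j), (0, 1)] = true := vl_pair ⟨hi, hj, hij⟩ (by norm_num)
  have ht : ∀ z ∈ tB, ρ (P n z.1) u = u := by
    intro z hz
    rcases List.mem_cons.1 hz with rfl | hz
    · rw [P_nil, ρ_one]
    · exact tJ_triv hn hC hz hu
  rw [(P_eq_iff hn hv (vl_append h1 h2)).2 h3, P_append hn h1 h2, ρ_mul, ht y hy, ht x hx]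

omit hn in
/-- in-block lists -/
def IB (l : List (ℕ × ℕ)) : Prop := ∀ x ∈ l, x.1 < 8 ∧ x.2 < 8 ∧ x.1 ≠ x.2 ∧ x.1 / 4 = x.2 / 4

theorem pair_triv (hC : CfgU ρ B) {x y : ℕ × ℕ} (hx : x.1 < 8 ∧ x.2 < 8 ∧ x.1 ≠ x.2 ∧ x.1 / 4 = x.2 / 4)
    (hy : y.1 < 8 ∧ y.2 < 8 ∧ y.1 ≠ y.2 ∧ y.1 / 4 = y.2 / 4) {u : W}
    (hu : u ∈ inv ρ (Tg n gQ)) : ρ (P n [x, y]) u = u := by
  have h1 : P n [x, y] = P n [x, (0, 1)] * (P n [y, (0, 1)])⁻¹ := by
    have hx' : vl 8 [x, (0, 1)] = true := vl_pair ⟨hx.1, hx.2.1, hx.2.2.1⟩ (by norm_num)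
    have hy' : vl 8 [y, (0, 1)] = true := vl_pair ⟨hy.1, hy.2.1, hy.2.2.1⟩ (by norm_num)
    have hxy : vl 8 [x, y] = true := vl_pair ⟨hx.1, hx.2.1, hx.2.2.1⟩ ⟨hy.1, hy.2.1, hy.2.2.1⟩
    rw [eq_mul_inv_iff_mul_eq]
    apply Subtype.ext
    rw [Subgroup.coe_mul, coe_P hn hxy, coe_P hn hx', coe_P hn hy']
    simp only [pm_cons, pm_nil, mul_one, mul_assoc, swap_mul_self_mul]
  rw [h1, ρ_mul]
  have h2 : ρ (P n [y, (0, 1)])⁻¹ u = u := by
    have h3 := base_triv hn hC hy.1 hy.2.1 hy.2.2.1 hy.2.2.2 hu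
    conv_lhs => rw [← h3]
    rw [ρ_inv]
  rw [h2, base_triv hn hC hx.1 hx.2.1 hx.2.2.1 hx.2.2.2 hu]

/-- in-block lists of even length act trivially -/
theorem list_triv (hC : CfgU ρ B) {u : W} (hu : u ∈ inv ρ (Tg n gQ)) : ∀ (k : ℕ) (l : List (ℕ × ℕ)), l.length = 2 * k →
    IB l → ρ (P n l) u = u := by
  intro k
  induction k with
  | zero =>
    intro l hl _
    have h1 : l = [] := List.length_eq_zero_iff.1 hl
    rw [h1, P_nil, ρ_one]
  | succ k ih =>
    intro l hl hI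
    match l, hl, hI with
    | x :: y :: l, hl, hI =>
      have hl' : l.length = 2 * k := by
        rw [List.length_cons, List.length_cons] at hl
        omega
      have hx := hI x (by simp)
      have hy := hI y (by simp)
      have hI' : IB l := fun z hz => hI z (by simp [hz])
      have hv : vl 8 [x, y] = true := vl_pair ⟨hx.1, hx.2.1, hx.2.2.1⟩ ⟨hy.1, hy.2.1, hy.2.2.1⟩
      have hvl : vl 8 l = true := by
        rw [vl_iff]
        exact ⟨by omega, fun z hz => ⟨(hI' z hz).1, (hI' z hz).2.1, (hI' z hz).2.2.1⟩⟩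
      have h1 : P n (x :: y :: l) = P n [x, y] * P n l := P_append hn hv hvl
      rw [h1, ρ_mul, ih l hl' hI', pair_triv hn hC hx hy hu]

end

/-! ### general even permutations -/

section gen
variable {n : ℕ} [NeZero n]

/-- the block function -/
def bl (i : ℕ) : ℕ := if i < 8 then i / 4 else i

/-- permutations preserving the blocks are products of in-block transpositions -/
theorem exists_list (hn : 8 ≤ n) : ∀ (k : ℕ) (σ : Perm (Fin n)), σ.support.card ≤ k → (∀ i, bl (σ i).val = bl i.val) →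
    ∃ l, IB l ∧ pm n l = σ := by
  intro k
  induction k with
  | zero =>
    intro σ h _
    have h1 : σ = 1 := by rw [← Perm.card_support_eq_zero]; omega
    exact ⟨[], fun x hx => by simp at hx, by rw [h1, pm_nil]⟩
  | succ k ih =>
    intro σ h hb
    by_cases h1 : σ = 1
    · exact ⟨[], fun x hx => by simp at hx, by rw [h1, pm_nil]⟩
    · obtain ⟨i, hi⟩ : ∃ i, σ i ≠ i := by
        by_contra h2
        push Not at h2
        exact h1 (Perm.ext h2)
      have h3 := Perm.card_support_swap_mul hi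
      have hbi := hb i
      have hne : (σ i).val ≠ i.val := fun h => hi (Fin.ext h)
      have hi8 : i.val < 8 ∧ (σ i).val < 8 ∧ i.val / 4 = (σ i).val / 4 := by
        unfold bl at hbi
        split_ifs at hbi <;> omega
      obtain ⟨l, hl, hl'⟩ := ih (swap i (σ i) * σ) (by omega) (by
        intro j
        rw [Perm.mul_apply, swap_apply_def]
        split_ifs with h4 h5
        · rw [← hb j, h4, hbi]
        · rw [← hb j, h5, hbi]
        · exact hb j)
      refine ⟨(i.val, (σ i).val) :: l, ?_, ?_⟩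
      · intro x hx
        rcases List.mem_cons.1 hx with rfl | hx
        · exact ⟨hi8.1, hi8.2.1, fun h => hne h.symm, hi8.2.2⟩
        · exact hl x hx
      · rw [pm_cons, hl']
        have e1 : Fin.ofNat n i.val = i := Fin.ext (val_ofNat' i.2)
        have e2 : Fin.ofNat n (σ i).val = σ i := Fin.ext (val_ofNat' (σ i).2)
        rw [e1, e2, swap_mul_self_mul]

variable {F : Type u} [Field F] {W : Type v} [AddCommGroup W] [Module F W]
  {ρ : Representation F ↥(alternatingGroup (Fin n)) W} {B : W →ₗ[F] W →ₗ[F] F}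

/-- **even permutations preserving the blocks act trivially on `U`** -/
theorem triv (hn : 8 ≤ n) (hC : CfgU ρ B) {g : ↥(alternatingGroup (Fin n))} (hg : ∀ i, bl ((g : Perm (Fin n)) i).val = bl i.val)
    {u : W} (hu : u ∈ inv ρ (Tg n gQ)) : ρ g u = u := by
  obtain ⟨l, hl, hl'⟩ := exists_list hn _ (g : Perm (Fin n)) le_rfl hg
  have hE : En 8 l := fun x hx => ⟨(hl x hx).1, (hl x hx).2.1, (hl x hx).2.2.1⟩
  have h1 : l.length % 2 = 0 := by
    have h2 := mem_alternatingGroup.1 g.2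
    rw [← hl', sign_pm (hE.mono hn)] at h2
    by_contra h3
    rw [Odd.neg_one_pow (Nat.odd_iff.2 (by omega))] at h2
    exact absurd h2 (by decide)
  have hv : vl 8 l = true := vl_iff.2 ⟨h1, hE⟩
  have h2 : g = P n l := Subtype.ext (by rw [coe_P hn hv, hl'])
  rw [h2]
  exact list_triv hn hC hu (l.length / 2) l (by omega) hl

end gen

end Cfsg.Agent.R2.T1.Odd

private theorem dce_3214354cfdfc : _root_.True := by
  try have : _root_.True := by simp only [_root_.Cfsg.Agent.R2.T1.Odd.pm.congr_simp]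
  exact _root_.True.intro
end

-- part: R2/T1/Odd/Eo
section
prune_inst 0x4000000402100000008180012100000400000010200400000c000050608000040200300010a100410800018c020000000000001000028000000000000000000208000400002000004040001800000000000000000000000000000000000000000000000000
set_option linter.all false
open scoped Cfsg.Agent.FastGrp

-- part: R2/T1/Odd/Tab2
section
/-!
# S5771, ODD5: tables of cosets of `Q` (helper11)
-/

set_option autoImplicit false
set_option maxRecDepth 100000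

namespace Cfsg.Agent.R2.T1.Odd

/-- representatives of the classes: `1`, `2²`, `2⁴`, `42`, `44`, `3`, `33`, `322`, `62`, `5` -/
def r10 : List (List (ℕ × ℕ)) :=
  [[], [(0, 1), (2, 3)], [(0, 1), (2, 3), (4, 5), (6, 7)], [(0, 1), (1, 2), (2, 3), (4, 5)], [(0, 1), (1, 2), (2, 3), (4, 5), (5, 6), (6, 7)], [(0, 1), (1, 2)], [(0, 1), (1, 2), (4, 5), (5, 6)], [(0, 1), (1, 2), (3, 4), (5, 6)], [(0, 1), (1, 2), (2, 3), (3, 4), (4, 5), (6, 7)], [(0, 1), (1, 2), (2, 3), (3, 4)]]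

def dQY : List (ℕ × List (ℕ × ℕ)) :=
  [(5, []), (5, [(0, 1), (1, 3)]), (5, [(1, 3), (3, 2)]), (7, [(3, 4), (4, 5), (5, 6), (6, 7)]), (7, [(3, 7), (4,
   5)]), (5, [(1, 2), (2, 3)]), (7, [(0, 1), (1, 3), (3, 4), (4, 5), (5, 6), (6, 7)]), (7, [(0, 3), (3, 6), (6, 7),
   (1, 2)]), (7, [(1, 3), (3, 4), (4, 5), (5, 6), (6, 7), (7, 2)]), (7, [(0, 1), (2, 3), (3, 6), (6, 7)]), (7, [(3,
   4), (4, 7)]), (7, [(1, 2), (2, 3), (3, 4), (4, 5), (5, 6), (6, 7)]), (7, [(0, 2), (1, 3), (3, 7), (4, 5)]), (7,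
   [(0, 1), (1, 3), (3, 4), (4, 7)]), (7, [(1, 3), (3, 4), (4, 7), (7, 2)]), (7, [(1, 2), (2, 3), (3, 4), (4, 7)])]

def dQYY : List (ℕ × List (ℕ × ℕ)) :=
  [(6, []), (6, [(0, 1), (1, 3)]), (6, [(1, 3), (3, 2)]), (6, [(4, 5), (5, 7)]), (6, [(5, 7), (7, 6)]), (6, [(1,
   2), (2, 3)]), (6, [(0, 1), (1, 3), (4, 5), (5, 7)]), (6, [(0, 1), (1, 3), (5, 7), (7, 6)]), (6, [(1, 3), (3, 2),
   (4, 5), (5, 7)]), (6, [(1, 3), (3, 2), (5, 7), (7, 6)]), (6, [(5, 6), (6, 7)]), (6, [(1, 2), (2, 3), (4, 5), (5,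
   7)]), (6, [(1, 2), (2, 3), (5, 7), (7, 6)]), (6, [(0, 1), (1, 3), (5, 6), (6, 7)]), (6, [(1, 3), (3, 2), (5, 6),
   (6, 7)]), (6, [(1, 2), (2, 3), (5, 6), (6, 7)])]

def dQG1 : List (ℕ × List (ℕ × ℕ)) :=
  [(1, [(2, 3), (3, 4)]), (5, [(0, 2), (2, 4), (4, 1), (1, 3)]), (9, [(1, 3), (2, 4)]), (7, [(0, 3), (1, 5), (5,
   6), (6, 7), (7, 2), (2, 4)]), (7, [(0, 6), (6, 5), (5, 7), (7, 2), (2, 3), (1, 4)]), (9, [(0, 2), (2, 3), (3,
   4), (6, 7)]), (3, [(0, 3), (3, 2), (2, 4), (4, 7), (1, 5), (5, 6)]), (3, [(0, 2), (2, 6), (1, 3), (3, 4), (4,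
   5), (5, 7)]), (8, [(0, 5), (5, 3), (3, 2), (2, 1), (1, 4), (6, 7)]), (8, [(1, 3), (3, 4), (2, 6), (6, 5)]), (7,
   [(0, 3), (1, 7), (7, 2), (2, 4)]), (8, [(1, 2), (4, 5)]), (8, [(0, 6), (6, 7), (7, 5), (5, 3), (3, 2), (1, 4)]),
   (3, [(0, 4), (4, 5), (5, 6), (1, 2), (2, 3), (3, 7)]), (8, [(0, 4), (4, 3), (5, 7), (7, 6)]), (8, [(1, 2), (4,
   7), (7, 6), (6, 5)])]

def dQG2 : List (ℕ × List (ℕ × ℕ)) :=
  [(1, [(0, 3), (3, 2), (2, 4), (4, 7), (1, 5), (5, 6)]), (3, [(0, 5), (1, 2), (2, 4), (6, 7)]), (6, [(1, 2), (2,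
   4), (3, 6), (6, 5)]), (3, [(0, 2), (2, 3), (3, 4), (4, 6), (1, 5), (5, 7)]), (6, [(0, 2), (2, 4), (4, 3), (1,
   6), (6, 5), (5, 7)]), (6, [(1, 3), (3, 6), (6, 4), (2, 5)]), (2, [(3, 5), (5, 4)]), (8, [(0, 6), (1, 4), (4, 5),
   (5, 2), (2, 3), (3, 7)]), (8, [(1, 2), (2, 5), (5, 4), (4, 3)]), (4, [(1, 2), (2, 6), (6, 7), (7, 5), (5, 3),
   (3, 4)]), (6, [(0, 3), (1, 6), (6, 7), (2, 5)]), (8, [(1, 3), (2, 4)]), (4, [(0, 1), (1, 2), (2, 6), (6, 3), (3,
   4), (4, 5)]), (8, [(0, 2), (2, 4), (4, 6), (1, 7)]), (4, [(0, 6), (6, 4), (4, 2), (2, 1), (1, 5), (5, 7)]), (4,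
   [(1, 3), (3, 5), (5, 2), (2, 6), (6, 7), (7, 4)])]

def gCt : List (List (ℕ × ℕ)) :=
  [[(0, 1), (2, 3)]]

def eCt : List (List ℕ) :=
  [[], [0]]

def dCt : List (ℕ × List (ℕ × ℕ)) :=
  [(0, []), (1, [])]

def gCs : List (List (ℕ × ℕ)) :=
  [[(0, 1), (2, 3), (4, 5), (6, 7)]]

def eCs : List (List ℕ) :=
  [[], [0]]

def dCs : List (ℕ × List (ℕ × ℕ)) :=
  [(0, []), (2, [])]

def gC42 : List (List (ℕ × ℕ)) :=
  [[(0, 1), (1, 2), (2, 3), (4, 5)]]

def eC42 : List (List ℕ) :=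
  [[], [0], [0, 0], [0, 0, 0]]

def dC42 : List (ℕ × List (ℕ × ℕ)) :=
  [(0, []), (3, []), (1, [(1, 2), (4, 7), (7, 6), (6, 5)]), (3, [(0, 2), (4, 5)])]

def gC44 : List (List (ℕ × ℕ)) :=
  [[(0, 1), (1, 2), (2, 3), (4, 5), (5, 6), (6, 7)]]

def eC44 : List (List ℕ) :=
  [[], [0], [0, 0], [0, 0, 0]]

def dC44 : List (ℕ × List (ℕ × ℕ)) :=
  [(0, []), (4, []), (2, [(1, 2), (5, 6)]), (4, [(1, 3), (5, 7)])]

def gC5 : List (List (ℕ × ℕ)) :=
  [[(0, 1), (1, 2), (2, 3), (3, 4)]]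

def eC5 : List (List ℕ) :=
  [[], [0], [0, 0], [0, 0, 0], [0, 0, 0, 0]]

def dC5 : List (ℕ × List (ℕ × ℕ)) :=
  [(0, []), (9, []), (9, [(0, 1), (1, 3), (3, 2), (5, 7)]), (9, [(0, 4), (4, 1), (1, 2), (5, 7)]), (9, [(1, 4), (2,
   3)])]

theorem chkC_QY : chkC 8 gQ eQ [(0, 1), (1, 2)] r10 dQY = true := _root_.Cfsg.Agent.R2.T1.Odd.Fq.chkC_of (by decide +kernel)

theorem cnt_QY : (List.range 10).map (fun k => (dQY.map Prod.fst).count k) = [0, 0, 0, 0, 0, 4, 0, 12, 0, 0] := by decide +kernel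

theorem chkC_QYY : chkC 8 gQ eQ [(0, 1), (1, 2), (4, 5), (5, 6)] r10 dQYY = true := _root_.Cfsg.Agent.R2.T1.Odd.Fq.chkC_of (by decide +kernel)

theorem cnt_QYY : (List.range 10).map (fun k => (dQYY.map Prod.fst).count k) = [0, 0, 0, 0, 0, 0, 16, 0, 0, 0] := by decide +kernel

theorem chkC_QG1 : chkC 8 gQ eQ [(0, 1), (3, 4)] r10 dQG1 = true := _root_.Cfsg.Agent.R2.T1.Odd.Fq.chkC_of (by decide +kernel)

theorem cnt_QG1 : (List.range 10).map (fun k => (dQG1.map Prod.fst).count k) = [0, 1, 0, 3, 0, 1, 0, 3, 6, 2] := by decide +kernel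

theorem chkC_QG2 : chkC 8 gQ eQ [(2, 4), (3, 5)] r10 dQG2 = true := _root_.Cfsg.Agent.R2.T1.Odd.Fq.chkC_of (by decide +kernel)

theorem cnt_QG2 : (List.range 10).map (fun k => (dQG2.map Prod.fst).count k) = [0, 1, 1, 2, 4, 0, 4, 0, 4, 0] := by decide +kernel

theorem chkG_Ct : chkG 8 gCt eCt = true := _root_.Cfsg.Agent.R2.T1.Odd.Fq.chkG_of 2 (by decide +kernel)

theorem chkC_Ct : chkC 8 gCt eCt [] r10 dCt = true := _root_.Cfsg.Agent.R2.T1.Odd.Fq.chkC_of (by decide +kernel)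

theorem len_Ct : eCt.length = 2 := by decide

theorem cnt_Ct : (List.range 10).map (fun k => (dCt.map Prod.fst).count k) = [1, 1, 0, 0, 0, 0, 0, 0, 0, 0] := by decide +kernel

theorem chkG_Cs : chkG 8 gCs eCs = true := _root_.Cfsg.Agent.R2.T1.Odd.Fq.chkG_of 2 (by decide +kernel)

theorem chkC_Cs : chkC 8 gCs eCs [] r10 dCs = true := _root_.Cfsg.Agent.R2.T1.Odd.Fq.chkC_of (by decide +kernel)

theorem len_Cs : eCs.length = 2 := by decide

theorem cnt_Cs : (List.range 10).map (fun k => (dCs.map Prod.fst).count k) = [1, 0, 1, 0, 0, 0, 0, 0, 0, 0] := by decide +kernel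

theorem chkG_C42 : chkG 8 gC42 eC42 = true := _root_.Cfsg.Agent.R2.T1.Odd.Fq.chkG_of 8 (by decide +kernel)

theorem chkC_C42 : chkC 8 gC42 eC42 [] r10 dC42 = true := _root_.Cfsg.Agent.R2.T1.Odd.Fq.chkC_of (by decide +kernel)

theorem len_C42 : eC42.length = 4 := by decide

theorem cnt_C42 : (List.range 10).map (fun k => (dC42.map Prod.fst).count k) = [1, 1, 0, 2, 0, 0, 0, 0, 0, 0] := by decide +kernel

theorem chkG_C44 : chkG 8 gC44 eC44 = true := _root_.Cfsg.Agent.R2.T1.Odd.Fq.chkG_of 8 (by decide +kernel)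

theorem chkC_C44 : chkC 8 gC44 eC44 [] r10 dC44 = true := _root_.Cfsg.Agent.R2.T1.Odd.Fq.chkC_of (by decide +kernel)

theorem len_C44 : eC44.length = 4 := by decide

theorem cnt_C44 : (List.range 10).map (fun k => (dC44.map Prod.fst).count k) = [1, 0, 1, 0, 2, 0, 0, 0, 0, 0] := by decide +kernel

theorem chkG_C5 : chkG 8 gC5 eC5 = true := _root_.Cfsg.Agent.R2.T1.Odd.Fq.chkG_of 16 (by decide +kernel)

theorem chkC_C5 : chkC 8 gC5 eC5 [] r10 dC5 = true := _root_.Cfsg.Agent.R2.T1.Odd.Fq.chkC_of (by decide +kernel)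

theorem len_C5 : eC5.length = 5 := by decide

theorem cnt_C5 : (List.range 10).map (fun k => (dC5.map Prod.fst).count k) = [1, 0, 0, 0, 0, 0, 0, 0, 0, 4] := by decide +kernel

end Cfsg.Agent.R2.T1.Odd
end

-- part: R2/T1/Odd/Eo
section
/-!
# S5771, ODD5: the operator `E = Σ_{k ∈ Q} ρ(k)` on `U = V^Q` (helper11)

* `trT`, `tr_EE` : traces over explicit subgroups and cosets;
* `EE` : the operator, `EE_mem`, `EE_U`, `EE_left`, `EE_right`, `EE_adj`;
* `scal` : `E ρ(h)` is a scalar on `U` for `h² = 1`; `tr_scal` : its trace is `2 c`.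
-/

set_option autoImplicit false
set_option maxRecDepth 100000

namespace Cfsg.Agent.R2.T1.Odd

open Cfsg Cfsg.Lie Module Equiv Equiv.Perm
open Cfsg.Agent.H952.F4 (ev es)

universe u v

/-! ### traces -/

section trace
variable {n m : ℕ} [NeZero n] {gens : List (List (ℕ × ℕ))} {els : List (List ℕ)}
  {F : Type u} [Field F] {W : Type v} [AddCommGroup W] [Module F W]

noncomputable instance instTg (gens : List (List (ℕ × ℕ))) : Fintype ↥(Tg n gens) := Fintype.ofFinite _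

theorem tr_conj {X : Type*} [Group X] (ρ : Representation F X W) (g x : X) :
    LinearMap.trace F W (ρ (g * x * g⁻¹)) = LinearMap.trace F W (ρ x) := by
  have h1 : ρ (g * x * g⁻¹) = ρ g * ρ x * ρ g⁻¹ := by rw [map_mul ρ, map_mul ρ]
  have h2 : ρ g⁻¹ * (ρ g * ρ x) = ρ x := by rw [← mul_assoc, ← map_mul ρ, inv_mul_cancel, map_one, one_mul]
  rw [h1, LinearMap.trace_mul_comm, h2]

theorem cntc {dat : List (ℕ × List (ℕ × ℕ))} {K : ℕ} {c : List ℕ}
    (hc : (List.range K).map (fun k => (dat.map Prod.fst).count k) = c) {k : ℕ} (hk : k ∈ Finset.range K) :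
    c.getD k 0 = (dat.map Prod.fst).count k := by
  have h2 : k < ((List.range K).map (fun k => (dat.map Prod.fst).count k)).length := by
    rw [List.length_map, List.length_range]
    exact Finset.mem_range.1 hk
  rw [← hc, List.getD_eq_getElem _ _ h2, List.getElem_map, List.getElem_range]

/-- traces over a subgroup -/
theorem trT [FiniteDimensional F W] (hm : m ≤ n) (h : chkG m gens els = true) {reps : List (List (ℕ × ℕ))}
    {dat : List (ℕ × List (ℕ × ℕ))} (hC : chkC m gens els [] reps dat = true) {N K : ℕ} (hN : els.length = N)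
    (hK : reps.length = K) (hF : (N : F) ≠ 0)
    {c : List ℕ} (hc : (List.range K).map (fun k => (dat.map Prod.fst).count k) = c)
    (ρ : Representation F ↥(alternatingGroup (Fin n)) W) :
    (N : F) * (finrank F ↥(inv ρ (Tg n gens)) : F) =
      ∑ k ∈ Finset.range K, (c.getD k 0 : F) * LinearMap.trace F W (ρ (P n (reps.getD k []))) := by
  subst hN hK
  have h1 := Art.sum_trace (T := ↥(Tg n gens)) (by rw [card_Tg hm h]; exact hF) (MonoidHom.comp ρ (Tg n gens).subtype)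
  rw [card_Tg hm h, ← inv_eq_invariants] at h1
  rw [← h1]
  have h2 : ∀ x : ↥(Tg n gens), LinearMap.trace F W ((MonoidHom.comp ρ (Tg n gens).subtype : ↥(Tg n gens) →* Module.End F W) x) =
      (fun y => LinearMap.trace F W (ρ y)) ((x : ↥(alternatingGroup (Fin n))) * P n []) := by
    intro x
    rw [P_nil, mul_one]
    rfl
  rw [Finset.sum_congr rfl fun x _ => h2 x, sum_cls hm h hC (fun y => LinearMap.trace F W (ρ y)) (tr_conj ρ)]
  refine Finset.sum_congr rfl fun k hk => ?_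
  rw [nsmul_eq_mul, cntc hc hk]

/-- the fixed points of a cyclic group -/
theorem inv1 (ρ : Representation F ↥(alternatingGroup (Fin n)) W) (l : List (ℕ × ℕ)) :
    finrank F ↥(inv ρ (Tg n [l])) = ev (ρ (P n l)) 1 := by
  unfold ev
  have h1 : inv ρ (Tg n [l]) = Module.End.eigenspace (ρ (P n l)) 1 := by
    ext v
    rw [mem_U, Module.End.mem_eigenspace_iff, one_smul]
    simp
  rw [h1]

end trace

/-! ### the operator -/

section E
variable {n : ℕ} [NeZero n] {F : Type u} [Field F] {W : Type v} [AddCommGroup W] [Module F W]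
  (ρ : Representation F ↥(alternatingGroup (Fin n)) W) {B : W →ₗ[F] W →ₗ[F] F}

/-- `E = Σ_{k ∈ Q} ρ(k)` -/
noncomputable def EE : Module.End F W := ∑ k : ↥(Tg n gQ), ρ (k : ↥(alternatingGroup (Fin n)))

variable {ρ}

theorem EE_apply (w : W) : EE ρ w = ∑ k : ↥(Tg n gQ), ρ (k : ↥(alternatingGroup (Fin n))) w := by
  rw [EE, LinearMap.sum_apply]

theorem EE_left {k : ↥(alternatingGroup (Fin n))} (hk : k ∈ Tg n gQ) (w : W) : ρ k (EE ρ w) = EE ρ w := by
  rw [EE_apply, map_sum]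
  refine Fintype.sum_equiv (Equiv.mulLeft (⟨k, hk⟩ : ↥(Tg n gQ))) _ _ fun x => ?_
  rw [← ρ_mul]
  rfl

theorem EE_right {k : ↥(alternatingGroup (Fin n))} (hk : k ∈ Tg n gQ) (w : W) : EE ρ (ρ k w) = EE ρ w := by
  rw [EE_apply, EE_apply]
  refine Fintype.sum_equiv (Equiv.mulRight (⟨k, hk⟩ : ↥(Tg n gQ))) _ _ fun x => ?_
  rw [← ρ_mul]
  rfl

theorem EE_mem (w : W) : EE ρ w ∈ inv ρ (Tg n gQ) := fun _ hk => EE_left hk w

theorem EE_U (hn : 8 ≤ n) {u : W} (hu : u ∈ inv ρ (Tg n gQ)) : EE ρ u = (16 : F) • u := by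
  rw [EE_apply, Finset.sum_congr rfl fun k _ => hu _ k.2, Finset.sum_const, Finset.card_univ, card_Tg hn chkG_Q, len_Q,
    ← Nat.cast_smul_eq_nsmul F]
  norm_num

theorem B_move (hB : ∀ g x y, B (ρ g x) (ρ g y) = B x y) (g : ↥(alternatingGroup (Fin n))) (x y : W) :
    B (ρ g x) y = B x (ρ g⁻¹ y) := by
  rw [← hB g x (ρ g⁻¹ y), ρ_inv']

theorem EE_adj (hB : ∀ g x y, B (ρ g x) (ρ g y) = B x y) (x y : W) : B (EE ρ x) y = B x (EE ρ y) := by
  rw [EE_apply, EE_apply, map_sum, LinearMap.sum_apply, map_sum]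
  refine Fintype.sum_equiv (Equiv.inv ↥(Tg n gQ)) _ _ fun k => ?_
  rw [B_move hB]
  rfl

/-- self-adjoint operators on a symplectic plane are scalars -/
theorem two_scal {U : Submodule F W} (hU : finrank F ↥U = 2) (h2 : (2 : F) ≠ 0) (hskew : ∀ x y, B x y = - B y x)
    (hnd : ∀ u ∈ U, (∀ v ∈ U, B u v = 0) → u = 0) {T : W → W} (hadd : ∀ x y, T (x + y) = T x + T y)
    (hsmul : ∀ (c : F) x, T (c • x) = c • T x) (hT : ∀ u ∈ U, T u ∈ U)
    (hadj : ∀ u ∈ U, ∀ v ∈ U, B (T u) v = B u (T v)) : ∃ c : F, ∀ u ∈ U, T u = c • u := by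
  have hBB : ∀ x, B x x = 0 := by
    intro x
    have h1 := hskew x x
    have h3 : (2 : F) * B x x = 0 := by linear_combination h1
    exact (mul_eq_zero.1 h3).resolve_left h2
  have hTu : ∀ u ∈ U, B (T u) u = 0 := by
    intro u hu
    have h1 := hadj u hu u hu
    have h3 := hskew u (T u)
    have h4 : (2 : F) * B (T u) u = 0 := by linear_combination h1 + h3
    exact (mul_eq_zero.1 h4).resolve_left h2
  have hfd : FiniteDimensional F ↥U := Module.finite_of_finrank_pos (by omega)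
  let b := Module.finBasisOfFinrankEq F ↥U hU
  have hspan : ∀ u ∈ U, ∃ x y : F, u = x • (b 0 : W) + y • (b 1 : W) := by
    intro u hu
    refine ⟨b.repr ⟨u, hu⟩ 0, b.repr ⟨u, hu⟩ 1, ?_⟩
    have h1 := congrArg (Subtype.val) (b.sum_repr ⟨u, hu⟩)
    rw [Fin.sum_univ_two] at h1
    exact h1.symm
  have hb0 : (b 0 : W) ≠ 0 := by
    intro h
    exact b.ne_zero 0 (Subtype.ext h)
  have h01 : B (b 0) (b 1) ≠ 0 := by
    intro h
    apply hb0
    apply hnd _ (b 0).2
    intro v hv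
    obtain ⟨x, y, rfl⟩ := hspan v hv
    rw [map_add, map_smul, map_smul, hBB, h, smul_zero, smul_zero, add_zero]
  have h10 : B (b 1) (b 0) ≠ 0 := by rw [hskew]; exact _root_.neg_ne_zero.2 h01
  obtain ⟨a, c, h1⟩ := hspan _ (hT _ (b 0).2)
  obtain ⟨d, e, h3⟩ := hspan _ (hT _ (b 1).2)
  have hc : c = 0 := by
    have h4 := hTu _ (b 0).2
    rw [h1, map_add, map_smul, map_smul, LinearMap.add_apply, LinearMap.smul_apply, LinearMap.smul_apply, hBB, smul_zero,
      zero_add, smul_eq_mul] at h4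
    exact (mul_eq_zero.1 h4).resolve_right h10
  have hd : d = 0 := by
    have h4 := hTu _ (b 1).2
    rw [h3, map_add, map_smul, map_smul, LinearMap.add_apply, LinearMap.smul_apply, LinearMap.smul_apply, hBB, smul_zero,
      add_zero, smul_eq_mul] at h4
    exact (mul_eq_zero.1 h4).resolve_right h01
  rw [hc, zero_smul, add_zero] at h1
  rw [hd, zero_smul, zero_add] at h3
  have hae : a = e := by
    have h4 := hadj _ (b 0).2 _ (b 1).2
    rw [h1, h3, map_smul, LinearMap.smul_apply, map_smul, smul_eq_mul, smul_eq_mul] at h4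
    exact mul_right_cancel₀ h01 h4
  refine ⟨a, fun u hu => ?_⟩
  obtain ⟨x, y, rfl⟩ := hspan u hu
  rw [hadd, hsmul, hsmul, h1, h3, ← hae, smul_add, smul_smul, smul_smul, smul_smul, smul_smul, mul_comm a x, mul_comm a y]

theorem sixteen_ne (h2 : (2 : F) ≠ 0) : (16 : F) ≠ 0 := by
  have : (16 : F) = 2 ^ 4 := by norm_num
  rw [this]
  exact pow_ne_zero 4 h2

/-- `B` is nondegenerate on `U` -/
theorem nd_U (hn : 8 ≤ n) (hC : CfgU ρ B) : ∀ u ∈ inv ρ (Tg n gQ), (∀ v ∈ inv ρ (Tg n gQ), B u v = 0) → u = 0 := by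
  intro u hu h
  apply hC.nd
  intro y
  have h1 : B (EE ρ u) y = 0 := by rw [EE_adj hC.isom, h _ (EE_mem y)]
  rw [EE_U hn hu, map_smul, LinearMap.smul_apply, smul_eq_mul] at h1
  exact (mul_eq_zero.1 h1).resolve_left (sixteen_ne hC.two)

/-- **`E ρ(h)` is a scalar on `U` for every involution `h`** -/
theorem scal (hn : 8 ≤ n) (hC : CfgU ρ B) {h : ↥(alternatingGroup (Fin n))} (hh : h⁻¹ = h) :
    ∃ c : F, ∀ u ∈ inv ρ (Tg n gQ), EE ρ (ρ h u) = c • u := by
  refine two_scal (B := B) (T := fun u => EE ρ (ρ h u)) hC.dim hC.two hC.skew (nd_U hn hC)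
    (fun x y => by rw [map_add, map_add]) (fun c x => by rw [map_smul, map_smul]) (fun u _ => EE_mem _) ?_
  intro u hu v hv
  show B (EE ρ (ρ h u)) v = B u (EE ρ (ρ h v))
  rw [EE_adj hC.isom, EE_U hn hv, map_smul, B_move hC.isom, hh, ← EE_adj hC.isom, EE_U hn hu, map_smul,
    LinearMap.smul_apply]

theorem tr_EE (hn : 8 ≤ n) {r : List (ℕ × ℕ)} {reps : List (List (ℕ × ℕ))} {dat : List (ℕ × List (ℕ × ℕ))}
    (hC : chkC 8 gQ eQ r reps dat = true) {K : ℕ} (hK : reps.length = K)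
    {c : List ℕ} (hc : (List.range K).map (fun k => (dat.map Prod.fst).count k) = c) :
    LinearMap.trace F W (EE ρ * ρ (P n r)) =
      ∑ k ∈ Finset.range K, (c.getD k 0 : F) * LinearMap.trace F W (ρ (P n (reps.getD k []))) := by
  subst hK
  have h1 := sum_cls hn chkG_Q hC (fun y => LinearMap.trace F W (ρ y)) (tr_conj ρ)
  rw [EE, Finset.sum_mul, map_sum]
  have h2 : ∀ k : ↥(Tg n gQ), LinearMap.trace F W (ρ (k : ↥(alternatingGroup (Fin n))) * ρ (P n r)) =
      LinearMap.trace F W (ρ ((k : ↥(alternatingGroup (Fin n))) * P n r)) := fun k => by rw [map_mul ρ]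
  rw [Finset.sum_congr rfl fun k _ => h2 k, h1]
  refine Finset.sum_congr rfl fun k hk => ?_
  rw [nsmul_eq_mul, cntc hc hk]

theorem tr_E [FiniteDimensional F W] (hn : 8 ≤ n) (hC : CfgU ρ B) : LinearMap.trace F W (EE ρ) = 32 := by
  have h1 := Art.sum_trace (T := ↥(Tg n gQ)) (by rw [card_Tg hn chkG_Q, len_Q]; exact_mod_cast sixteen_ne hC.two)
    (MonoidHom.comp ρ (Tg n gQ).subtype)
  rw [card_Tg hn chkG_Q, ← inv_eq_invariants, hC.dim, len_Q] at h1
  rw [EE, map_sum]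
  have h2 : ∑ k : ↥(Tg n gQ), LinearMap.trace F W (ρ (k : ↥(alternatingGroup (Fin n)))) = ((16 : ℕ) : F) * ((2 : ℕ) : F) := h1
  rw [h2]
  norm_num

/-- the trace of `E ρ(x)` -/
theorem tr_scal [FiniteDimensional F W] (hn : 8 ≤ n) (hC : CfgU ρ B) {x : ↥(alternatingGroup (Fin n))} {c : F}
    (hc : ∀ u ∈ inv ρ (Tg n gQ), EE ρ (ρ x u) = c • u) : LinearMap.trace F W (EE ρ * ρ x) = 2 * c := by
  have h1 : EE ρ * (EE ρ * ρ x) = (16 : F) • (EE ρ * ρ x) := by
    ext w
    exact EE_U hn (EE_mem _)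
  have h2 : (EE ρ * ρ x) * EE ρ = c • EE ρ := by
    ext w
    exact hc _ (EE_mem w)
  have h3 : (16 : F) * LinearMap.trace F W (EE ρ * ρ x) = c * 32 := by
    rw [← smul_eq_mul, ← map_smul, ← h1, LinearMap.trace_mul_comm, h2, map_smul, tr_E hn hC, smul_eq_mul]
  have h4 : (16 : F) * (LinearMap.trace F W (EE ρ * ρ x) - 2 * c) = 0 := by linear_combination h3
  exact sub_eq_zero.1 ((mul_eq_zero.1 h4).resolve_left (sixteen_ne hC.two))

end E

end Cfsg.Agent.R2.T1.Odd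
end

private theorem dce_8ecd338b9691 : _root_.True := by
  try have : _root_.True := by simp only [_root_.Cfsg.Agent.R2.T1.Odd.EE.eq_1]
  exact _root_.True.intro
end

-- part: R2/T1/Odd/Out
section
prune_inst 0x4000040000100000000000010000000000000000200000000004000000800000000020001040000000008800000000000000000100020000000000000000000000000020030500000000010000004000000000000000000000000000000000004000000000
set_option linter.all false
open scoped Cfsg.Agent.FastGrp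

-- part: R2/T1/Odd/O3
section
/-!
# S5771, ODD5 (O3): `Σ_{k ∈ Q} ρ(k (01)(34)) u = 8 u` for `u ∈ U` (helper11)
-/

set_option autoImplicit false
set_option maxRecDepth 100000

namespace Cfsg.Agent.R2.T1.Odd

open Cfsg Cfsg.Lie Module Equiv Equiv.Perm
open Cfsg.Agent.H952.F4 (ev es)

universe u v

def l322 : List (ℕ × ℕ) := [(0, 1), (1, 2), (3, 4), (5, 6)]
def l62 : List (ℕ × ℕ) := [(0, 1), (1, 2), (2, 3), (3, 4), (4, 5), (6, 7)]
def l5 : List (ℕ × ℕ) := [(0, 1), (1, 2), (2, 3), (3, 4)]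
def lg1 : List (ℕ × ℕ) := [(0, 1), (3, 4)]
def lg2 : List (ℕ × ℕ) := [(2, 4), (3, 5)]

theorem r10_eq : r10 = [[], lt, ls, l42, l44, l3, l33, l322, l62, l5] := by decide

/-- the configuration with the types of the elements, `p ≠ 5` -/
structure CfgT {F : Type*} [Field F] {W : Type*} [AddCommGroup W] [Module F W] {n : ℕ} [NeZero n]
    (ρ : Representation F ↥(alternatingGroup (Fin n)) W) (B : W →ₗ[F] W →ₗ[F] F) : Prop extends CfgU ρ B where
  five : (5 : F) ≠ 0
  dimW : finrank F W = 56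
  evt : ev (ρ (P n lt)) 1 = 32
  evs : ev (ρ (P n ls)) 1 = 24
  ev42 : ev (ρ (P n l42)) 1 = 16
  ev44 : ev (ρ (P n l44)) 1 = 12
  ev5 : ev (ρ (P n l5)) 1 = 16

section
variable {n : ℕ} [NeZero n] {F : Type u} [Field F] {W : Type v} [AddCommGroup W] [Module F W]
  {ρ : Representation F ↥(alternatingGroup (Fin n)) W} {B : W →ₗ[F] W →ₗ[F] F}

theorem tr_nil (ρ : Representation F ↥(alternatingGroup (Fin n)) W) [FiniteDimensional F W] :
    LinearMap.trace F W (ρ (P n [])) = (finrank F W : F) := by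
  rw [P_nil, map_one ρ, LinearMap.trace_one]

variable (hn : 8 ≤ n) (hC : CfgT ρ B)
include hn hC

theorem tr_t [FiniteDimensional F W] : LinearMap.trace F W (ρ (P n lt)) = 8 := by
  have h := trT hn chkG_Ct chkC_Ct len_Ct (K := 10) rfl (by exact_mod_cast hC.two) cnt_Ct ρ
  have h1 : finrank F ↥(inv ρ (Tg n gCt)) = 32 := (inv1 ρ lt).trans hC.evt
  simp only [r10_eq, Finset.sum_range_succ, Finset.sum_range_zero, List.getD_cons_zero, List.getD_cons_succ, tr_nil, h1,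
    hC.dimW] at h
  push_cast at h
  linear_combination -h

theorem tr_s [FiniteDimensional F W] : LinearMap.trace F W (ρ (P n ls)) = -8 := by
  have h := trT hn chkG_Cs chkC_Cs len_Cs (K := 10) rfl (by exact_mod_cast hC.two) cnt_Cs ρ
  have h1 : finrank F ↥(inv ρ (Tg n gCs)) = 24 := (inv1 ρ ls).trans hC.evs
  simp only [r10_eq, Finset.sum_range_succ, Finset.sum_range_zero, List.getD_cons_zero, List.getD_cons_succ, tr_nil, h1,
    hC.dimW] at h
  push_cast at h
  linear_combination -h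

theorem four_ne : ((4 : ℕ) : F) ≠ 0 := by
  have : ((4 : ℕ) : F) = 2 * 2 := by norm_num
  rw [this]
  exact mul_ne_zero hC.two hC.two

theorem tr_42 [FiniteDimensional F W] : LinearMap.trace F W (ρ (P n l42)) = 0 := by
  have h := trT hn chkG_C42 chkC_C42 len_C42 (K := 10) rfl (four_ne hn hC) cnt_C42 ρ
  have h1 : finrank F ↥(inv ρ (Tg n gC42)) = 16 := (inv1 ρ l42).trans hC.ev42
  simp only [r10_eq, Finset.sum_range_succ, Finset.sum_range_zero, List.getD_cons_zero, List.getD_cons_succ, tr_nil, h1,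
    hC.dimW, tr_t hn hC] at h
  push_cast at h
  have h3 : (2 : F) * LinearMap.trace F W (ρ (P n l42)) = 0 := by linear_combination -h
  exact (mul_eq_zero.1 h3).resolve_left hC.two

theorem tr_44 [FiniteDimensional F W] : LinearMap.trace F W (ρ (P n l44)) = 0 := by
  have h := trT hn chkG_C44 chkC_C44 len_C44 (K := 10) rfl (four_ne hn hC) cnt_C44 ρ
  have h1 : finrank F ↥(inv ρ (Tg n gC44)) = 12 := (inv1 ρ l44).trans hC.ev44
  simp only [r10_eq, Finset.sum_range_succ, Finset.sum_range_zero, List.getD_cons_zero, List.getD_cons_succ, tr_nil, h1,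
    hC.dimW, tr_s hn hC] at h
  push_cast at h
  have h3 : (2 : F) * LinearMap.trace F W (ρ (P n l44)) = 0 := by linear_combination -h
  exact (mul_eq_zero.1 h3).resolve_left hC.two

theorem tr_5 [FiniteDimensional F W] : LinearMap.trace F W (ρ (P n l5)) = 6 := by
  have h := trT hn chkG_C5 chkC_C5 len_C5 (K := 10) rfl (by exact_mod_cast hC.five) cnt_C5 ρ
  have h1 : finrank F ↥(inv ρ (Tg n gC5)) = 16 := (inv1 ρ l5).trans hC.ev5
  simp only [r10_eq, Finset.sum_range_succ, Finset.sum_range_zero, List.getD_cons_zero, List.getD_cons_succ, tr_nil, h1,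
    hC.dimW] at h
  push_cast at h
  have h3 : (2 : F) * (2 * (LinearMap.trace F W (ρ (P n l5)) - 6)) = 0 := by linear_combination -h
  exact sub_eq_zero.1 ((mul_eq_zero.1 ((mul_eq_zero.1 h3).resolve_left hC.two)).resolve_left hC.two)

/-- `4 τ₃ + 12 τ₃₂₂ = 32` -/
theorem tr_y [FiniteDimensional F W] : 4 * LinearMap.trace F W (ρ (P n l3)) + 12 * LinearMap.trace F W (ρ (P n l322)) = 32 := by
  have h := tr_EE (ρ := ρ) hn chkC_QY (K := 10) rfl cnt_QY
  have h1 : ∀ u ∈ inv ρ (Tg n gQ), EE ρ (ρ (P n l3) u) = (16 : F) • u := by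
    intro u hu
    rw [list_triv hn hC.toCfgU hu 1 l3 rfl (by unfold IB l3; decide), EE_U hn hu]
  have h3 : LinearMap.trace F W (EE ρ * ρ (P n [(0, 1), (1, 2)])) = 2 * 16 := tr_scal hn hC.toCfgU h1
  rw [h3] at h
  simp only [r10_eq, Finset.sum_range_succ, Finset.sum_range_zero, List.getD_cons_zero, List.getD_cons_succ] at h
  push_cast at h
  linear_combination -h

/-- `16 τ₃₃ = 32` -/
theorem tr_33 [FiniteDimensional F W] : LinearMap.trace F W (ρ (P n l33)) = 2 := by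
  have h := tr_EE (ρ := ρ) hn chkC_QYY (K := 10) rfl cnt_QYY
  have h1 : ∀ u ∈ inv ρ (Tg n gQ), EE ρ (ρ (P n l33) u) = (16 : F) • u := by
    intro u hu
    rw [list_triv hn hC.toCfgU hu 2 l33 rfl (by unfold IB l33; decide), EE_U hn hu]
  have h3 : LinearMap.trace F W (EE ρ * ρ (P n [(0, 1), (1, 2), (4, 5), (5, 6)])) = 2 * 16 := tr_scal hn hC.toCfgU h1
  rw [h3] at h
  simp only [r10_eq, Finset.sum_range_succ, Finset.sum_range_zero, List.getD_cons_zero, List.getD_cons_succ] at h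
  push_cast at h
  have h4 : (16 : F) * (LinearMap.trace F W (ρ (P n l33)) - 2) = 0 := by linear_combination -h
  exact sub_eq_zero.1 ((mul_eq_zero.1 h4).resolve_left (sixteen_ne hC.two))

/-- `E ρ(g₂) = 0` on `U` -/
theorem E_g2 (u : W) (hu : u ∈ inv ρ (Tg n gQ)) : EE ρ (ρ (P n lg2) u) = 0 := by
  have h1 : P n [(0, 2), (1, 3), (4, 6), (5, 7)] * P n lg2 = P n lg2 * P n ls' := by
    rw [← P_append hn (m := 8) (by decide) (by decide), ← P_append hn (m := 8) (by decide) (by decide),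
      P_eq_iff hn (by decide) (by decide)]
    decide
  have h2 : P n [(0, 2), (1, 3), (4, 6), (5, 7)] ∈ Tg n gQ := by
    have h3 := P_wd_mem (n := n) hn (gens := gQ) gQ_vl [1, 3]
    exact h3
  have h3 := EE_right (ρ := ρ) h2 (ρ (P n lg2) u)
  rw [← ρ_mul, h1, ρ_mul, swap_neg hn hC.toCfgU hu, map_neg, map_neg] at h3
  have h4 : (2 : F) • EE ρ (ρ (P n lg2) u) = 0 := by
    rw [two_smul]
    nth_rewrite 1 [← h3]
    exact neg_add_cancel _
  exact (smul_eq_zero.1 h4).resolve_left hC.two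

theorem tr_62 [FiniteDimensional F W] : LinearMap.trace F W (ρ (P n l62)) = -2 := by
  have h := tr_EE (ρ := ρ) hn chkC_QG2 (K := 10) rfl cnt_QG2
  have h3 : LinearMap.trace F W (EE ρ * ρ (P n [(2, 4), (3, 5)])) = 2 * 0 :=
    tr_scal hn hC.toCfgU fun u hu => by rw [zero_smul]; exact E_g2 hn hC u hu
  rw [h3] at h
  simp only [r10_eq, Finset.sum_range_succ, Finset.sum_range_zero, List.getD_cons_zero, List.getD_cons_succ, tr_t hn hC,
    tr_s hn hC, tr_42 hn hC, tr_44 hn hC, tr_33 hn hC] at h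
  push_cast at h
  have h4 : ((4 : ℕ) : F) * (LinearMap.trace F W (ρ (P n l62)) + 2) = 0 := by push_cast; linear_combination -h
  exact eq_neg_of_add_eq_zero_left ((mul_eq_zero.1 h4).resolve_left (four_ne hn hC))

/-- **O3** -/
theorem E_g1 : ∀ u ∈ inv ρ (Tg n gQ), EE ρ (ρ (P n lg1) u) = (8 : F) • u := by
  have := hC.fin
  obtain ⟨c, hc⟩ := scal hn hC.toCfgU (h := P n lg1) (by
    rw [inv_eq_iff_mul_eq_one, ← pow_two]
    exact P_pow_one hn (m := 8) (by decide) (by decide))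
  have h := tr_EE (ρ := ρ) hn chkC_QG1 (K := 10) rfl cnt_QG1
  have h3 : LinearMap.trace F W (EE ρ * ρ (P n [(0, 1), (3, 4)])) = 2 * c := tr_scal hn hC.toCfgU hc
  rw [h3] at h
  simp only [r10_eq, Finset.sum_range_succ, Finset.sum_range_zero, List.getD_cons_zero, List.getD_cons_succ, tr_t hn hC,
    tr_42 hn hC, tr_5 hn hC, tr_62 hn hC] at h
  push_cast at h
  have h5 := tr_y hn hC
  have h6 : (2 : F) * (2 * (2 * (c - 8))) = 0 := by linear_combination 4 * h + h5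
  have h7 : c = 8 := sub_eq_zero.1 ((mul_eq_zero.1 ((mul_eq_zero.1 ((mul_eq_zero.1 h6).resolve_left hC.two)).resolve_left
    hC.two)).resolve_left hC.two)
  rw [← h7]
  exact hc

end

end Cfsg.Agent.R2.T1.Odd
end

-- part: R2/T1/Odd/O4
section
/-!
# S5771, ODD5 (O4): the vectors `w_A` and `v_i`, `n = 8`, `p ≠ 2, 5` (helper11)

`ρ` a representation of `A_8` on `W` with `CfgT ρ B`; `U = inv ρ (Tg 8 gQ)`.

* `wA ρ A : W →ₗ[F] W` for `A : Finset (Fin 8)`, `|A| = 4`: on `U` it is `ρ(g)`, `g{0,1,2,3} = A`;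
* `vi ρ i : W →ₗ[F] W` : `v_i = (1/20) Σ_{A ∋ i} w_A`;
* `vi_equi`, `vi_sum`, `vi_four`, `wA_sum`, `gram`, `fix_pt`.
-/

set_option autoImplicit false
set_option maxRecDepth 100000

namespace Cfsg.Agent.R2.T1.Odd

open Cfsg Cfsg.Lie Module Equiv Equiv.Perm
open Cfsg.Agent.H952.F4 (ev es)

universe u v

/-- the group `A_8` -/
abbrev A8 := ↥(alternatingGroup (Fin 8))

/-- `{0,1,2,3}` -/
def A0 : Finset (Fin 8) := {0, 1, 2, 3}

/-- the 4-subsets -/
def S4 : Finset (Finset (Fin 8)) := Finset.powersetCard 4 Finset.univ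

theorem mem_S4 {A : Finset (Fin 8)} : A ∈ S4 ↔ A.card = 4 := by
  unfold S4
  rw [Finset.mem_powersetCard, and_iff_right (Finset.subset_univ A)]

theorem mem_A0 {i : Fin 8} : i ∈ A0 ↔ i.val < 4 := by revert i; decide

/-- `g{0,1,2,3} = A` -/
def sends (g : A8) (A : Finset (Fin 8)) : Prop := ∀ i, (g : Perm (Fin 8)) i ∈ A ↔ i.val < 4

theorem exists_sends {A : Finset (Fin 8)} (hA : A.card = 4) : ∃ g, sends g A := by
  classical
  have h1 : Fintype.card {i : Fin 8 // i.val < 4} = Fintype.card {i : Fin 8 // i ∈ A} := by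
    rw [Fintype.card_coe, hA]
    decide
  let e := Fintype.equivOfCardEq h1
  let σ : Perm (Fin 8) := e.extendSubtype
  have hσ : ∀ i, σ i ∈ A ↔ i.val < 4 := by
    intro i
    constructor
    · intro h
      by_contra h2
      exact e.extendSubtype_not_mem i h2 h
    · exact fun h => e.extendSubtype_mem i h
  by_cases hs : sign σ = 1
  · exact ⟨⟨σ, mem_alternatingGroup.2 hs⟩, hσ⟩
  · have h3 : sign (σ * swap 0 1) = 1 := by
      rw [Perm.sign_mul, sign_swap (by decide), (Int.units_eq_one_or _).resolve_left hs]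
      decide
    refine ⟨⟨σ * swap 0 1, mem_alternatingGroup.2 h3⟩, fun i => ?_⟩
    show (σ * swap 0 1 : Perm (Fin 8)) i ∈ A ↔ _
    rw [Perm.mul_apply, hσ]
    revert i
    decide

section
variable {F : Type u} [Field F] {W : Type v} [AddCommGroup W] [Module F W]
  (ρ : Representation F A8 W) {B : W →ₗ[F] W →ₗ[F] F}

open Classical in
/-- the maps `w_A` -/
noncomputable def wA (A : Finset (Fin 8)) : W →ₗ[F] W := if h : ∃ g, sends g A then ρ (Classical.choose h) else 0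

/-- the maps `v_i` -/
noncomputable def vi (i : Fin 8) : W →ₗ[F] W := (20⁻¹ : F) • ∑ A ∈ S4.filter (i ∈ ·), wA ρ A

variable {ρ}

theorem wA_eq (hC : CfgU ρ B) {A : Finset (Fin 8)} {g : A8} (hg : sends g A) {u : W} (hu : u ∈ inv ρ (Tg 8 gQ)) :
    wA ρ A u = ρ g u := by
  have h : ∃ g, sends g A := ⟨g, hg⟩
  rw [wA, dif_pos h]
  have h1 := Classical.choose_spec h
  generalize Classical.choose h = k at h1
  have h2 : ρ (k⁻¹ * g) u = u := by
    apply triv le_rfl hC _ hu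
    intro i
    have h3 := h1 ((((k⁻¹ * g : A8) : Perm (Fin 8))) i)
    have h4 : (k : Perm (Fin 8)) (((k⁻¹ * g : A8) : Perm (Fin 8)) i) = (g : Perm (Fin 8)) i := by
      rw [← Perm.mul_apply, ← Subgroup.coe_mul, mul_inv_cancel_left]
    rw [h4, hg i] at h3
    generalize ((k⁻¹ * g : A8) : Perm (Fin 8)) i = j at *
    unfold bl
    have h5 := i.2
    have h6 := j.2
    rw [if_pos h5, if_pos h6]
    omega
  have h3 : ρ g u = ρ k (ρ (k⁻¹ * g) u) := by rw [← ρ_mul, mul_inv_cancel_left]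
  rw [h3, h2]

theorem wA_map (hC : CfgU ρ B) {A : Finset (Fin 8)} (hA : A.card = 4) (g : A8) {u : W} (hu : u ∈ inv ρ (Tg 8 gQ)) :
    ρ g (wA ρ A u) = wA ρ (A.map (g : Perm (Fin 8)).toEmbedding) u := by
  obtain ⟨k, hk⟩ := exists_sends hA
  rw [wA_eq hC hk hu, ← ρ_mul]
  refine (wA_eq hC (fun i => ?_) hu).symm
  rw [Subgroup.coe_mul, Perm.mul_apply, Finset.mem_map_equiv, Equiv.symm_apply_apply, hk i]

theorem wA_compl (hC : CfgU ρ B) {A : Finset (Fin 8)} (hA : A.card = 4) {u : W} (hu : u ∈ inv ρ (Tg 8 gQ)) :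
    wA ρ Aᶜ u = - wA ρ A u := by
  obtain ⟨k, hk⟩ := exists_sends hA
  rw [wA_eq hC hk hu, wA_eq (g := k * P 8 ls') hC (fun i => ?_) hu, ρ_mul, swap_neg le_rfl hC hu, map_neg]
  rw [Finset.mem_compl, Subgroup.coe_mul, Perm.mul_apply, hk, coe_P le_rfl (m := 8) (by decide),
    pm_apply (vl_iff.1 (show vl 8 ls' = true by decide)).2]
  have key : ∀ i < 8, (¬ ap ls' i < 4 ↔ i < 4) := by decide
  exact key _ i.2

theorem wA_zero (hC : CfgU ρ B) {u : W} (hu : u ∈ inv ρ (Tg 8 gQ)) : wA ρ A0 u = u := by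
  rw [wA_eq (g := 1) hC (fun i => mem_A0) hu, ρ_one]

theorem vi_apply (i : Fin 8) (u : W) : vi ρ i u = (20⁻¹ : F) • ∑ A ∈ S4.filter (i ∈ ·), wA ρ A u := by
  rw [vi, LinearMap.smul_apply, LinearMap.sum_apply]

/-- **equivariance** -/
theorem vi_equi (hC : CfgU ρ B) (g : A8) (i : Fin 8) {u : W} (hu : u ∈ inv ρ (Tg 8 gQ)) :
    ρ g (vi ρ i u) = vi ρ ((g : Perm (Fin 8)) i) u := by
  rw [vi_apply, vi_apply, map_smul, map_sum]
  congr 1
  refine Finset.sum_bij' (fun A _ => A.map (g : Perm (Fin 8)).toEmbedding)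
    (fun A _ => A.map (g : Perm (Fin 8)).symm.toEmbedding) ?_ ?_ ?_ ?_ ?_
  · intro A hA
    rw [Finset.mem_filter, mem_S4] at hA ⊢
    exact ⟨by rw [Finset.card_map]; exact hA.1, by rw [Finset.mem_map_equiv, Equiv.symm_apply_apply]; exact hA.2⟩
  · intro A hA
    rw [Finset.mem_filter, mem_S4] at hA ⊢
    exact ⟨by rw [Finset.card_map]; exact hA.1, by rw [Finset.mem_map_equiv, Equiv.symm_symm]; exact hA.2⟩
  · intro A _
    ext i
    rw [Finset.mem_map_equiv, Finset.mem_map_equiv, Equiv.symm_symm, Equiv.symm_apply_apply]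
  · intro A _
    ext i
    rw [Finset.mem_map_equiv, Finset.mem_map_equiv, Equiv.symm_symm, Equiv.apply_symm_apply]
  · intro A hA
    rw [Finset.mem_filter, mem_S4] at hA
    exact wA_map hC hA.1 g hu

/-- the sums `X_j` -/
noncomputable def Xj (ρ : Representation F A8 W) (j : ℕ) (u : W) : W :=
  ∑ A ∈ S4.filter (fun A => (A ∩ A0).card = j), wA ρ A u

theorem sum_Xj (c : ℕ → F) (u : W) : ∑ A ∈ S4, c (A ∩ A0).card • wA ρ A u = ∑ j ∈ Finset.range 5, c j • Xj ρ j u := by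
  have h1 : ∀ A ∈ S4, (A ∩ A0).card ∈ Finset.range 5 := fun A _ =>
    Finset.mem_range.2 (Nat.lt_succ_of_le (Finset.card_le_card Finset.inter_subset_right))
  rw [← Finset.sum_fiberwise_of_maps_to h1]
  refine Finset.sum_congr rfl fun j _ => ?_
  rw [Xj, Finset.smul_sum]
  refine Finset.sum_congr rfl fun A hA => ?_
  rw [(Finset.mem_filter.1 hA).2]

theorem Xj_neg (hC : CfgU ρ B) {j : ℕ} (hj : j ≤ 4) {u : W} (hu : u ∈ inv ρ (Tg 8 gQ)) : Xj ρ (4 - j) u = - Xj ρ j u := by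
  have key : ∀ A ∈ S4, (Aᶜ ∩ A0).card = 4 - (A ∩ A0).card ∧ (A ∩ A0).card ≤ 4 := fun A _ => by
    have h1 : (A0 \ A).card + (A0 ∩ A).card = 4 := Finset.card_sdiff_add_card_inter A0 A
    rw [Finset.sdiff_eq_inter_compl, Finset.inter_comm, Finset.inter_comm A0] at h1
    omega
  rw [Xj, Xj, ← Finset.sum_neg_distrib]
  refine Finset.sum_bij' (fun A _ => Aᶜ) (fun A _ => Aᶜ) ?_ ?_ ?_ ?_ ?_
  · intro A hA
    rw [Finset.mem_filter] at hA ⊢
    refine ⟨by rw [mem_S4, Finset.card_compl, Fintype.card_fin, mem_S4.1 hA.1], ?_⟩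
    have h1 := key A hA.1
    rw [h1.1, hA.2]
    omega
  · intro A hA
    rw [Finset.mem_filter] at hA ⊢
    refine ⟨by rw [mem_S4, Finset.card_compl, Fintype.card_fin, mem_S4.1 hA.1], ?_⟩
    have h1 := key A hA.1
    rw [h1.1, hA.2]
  · intro A _; exact compl_compl A
  · intro A _; exact compl_compl A
  · intro A hA
    rw [Finset.mem_filter] at hA
    rw [wA_compl hC (mem_S4.1 hA.1) hu, neg_neg]

theorem Xj_four (hC : CfgU ρ B) {u : W} (hu : u ∈ inv ρ (Tg 8 gQ)) : Xj ρ 4 u = u := by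
  have h1 : S4.filter (fun A => (A ∩ A0).card = 4) = {A0} := by decide +kernel
  rw [Xj, h1, Finset.sum_singleton, wA_zero hC hu]

/-- the set `k{0,1,2,4}` for `k` the word `w` in `Q` -/
def Bw (w : List ℕ) : Finset (Fin 8) := Finset.univ.filter fun i => (ap (wd gQ w) i.val) ∈ [0, 1, 2, 4]

theorem Xj_three (hC : CfgT ρ B) {u : W} (hu : u ∈ inv ρ (Tg 8 gQ)) : Xj ρ 3 u = (8 : F) • u := by
  have h1 : S4.filter (fun A => (A ∩ A0).card = 3) = (eQ.map Bw).toFinset := by decide +kernel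
  have h2 : (eQ.map Bw).Nodup := by decide +kernel
  rw [Xj, h1, List.sum_toFinset _ h2, ← E_g1 le_rfl hC u hu, EE_apply, sum_Tg le_rfl chkG_Q (fun k => ρ k (ρ (P 8 lg1) u)),
    List.map_map]
  congr 1
  apply List.map_congr_left
  intro w hw
  have hv := vl_wd gQ_vl w
  have hv' : vl 8 (wd gQ w ++ lg1) = true := vl_append hv (by decide)
  rw [← ρ_mul, ← P_append le_rfl hv (by decide)]
  refine wA_eq hC.toCfgU (fun i => ?_) hu
  rw [coe_P le_rfl hv']
  unfold Bw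
  rw [Finset.mem_filter, and_iff_right (Finset.mem_univ _), pm_apply (vl_iff.1 hv').2]
  have key : ∀ w ∈ eQ, ∀ i < 8, (ap (wd gQ w) (ap (wd gQ w ++ lg1) i) ∈ [0, 1, 2, 4] ↔ i < 4) := by decide +kernel
  exact key w hw _ i.2

theorem twenty_ne (hC : CfgT ρ B) : (20 : F) ≠ 0 := by
  have : (20 : F) = 2 * 2 * 5 := by norm_num
  rw [this]
  exact mul_ne_zero (mul_ne_zero hC.two hC.two) hC.five

/-- `v_0 + v_1 + v_2 + v_3 = w_{0123}` -/
theorem vi_four (hC : CfgT ρ B) {u : W} (hu : u ∈ inv ρ (Tg 8 gQ)) : ∑ i ∈ A0, vi ρ i u = u := by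
  have h1 : ∑ i ∈ A0, vi ρ i u = (20⁻¹ : F) • ∑ A ∈ S4, ((A ∩ A0).card : F) • wA ρ A u := by
    rw [Finset.sum_congr rfl fun i _ => vi_apply i u, ← Finset.smul_sum]
    congr 1
    rw [Finset.sum_congr rfl fun i _ => Finset.sum_filter _ _, Finset.sum_comm]
    refine Finset.sum_congr rfl fun A _ => ?_
    rw [← Finset.sum_filter, Finset.sum_const, Nat.cast_smul_eq_nsmul, Finset.inter_comm, Finset.filter_mem_eq_inter]
  have h2 : ∑ A ∈ S4, ((A ∩ A0).card : F) • wA ρ A u = (20 : F) • u := by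
    rw [sum_Xj (fun k => (k : F)) u]
    simp only [Finset.sum_range_succ, Finset.sum_range_zero]
    have e4 := Xj_four hC.toCfgU hu
    have e3 := Xj_three hC hu
    have e1 : Xj ρ 1 u = -((8 : F) • u) := by rw [← e3]; exact Xj_neg hC.toCfgU (j := 3) (by norm_num) hu
    have e2 : Xj ρ 2 u = 0 := by
      have h3 : Xj ρ 2 u = - Xj ρ 2 u := Xj_neg hC.toCfgU (j := 2) (by norm_num) hu
      have h4 : (2 : F) • Xj ρ 2 u = 0 := by
        rw [two_smul]
        nth_rewrite 1 [h3]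
        exact neg_add_cancel _
      exact (smul_eq_zero.1 h4).resolve_left hC.two
    rw [e4, e3, e2, e1]
    push_cast
    module
  rw [h1, h2, smul_smul, inv_mul_cancel₀ (twenty_ne hC), one_smul]

/-- `w_A = Σ_{i ∈ A} v_i` -/
theorem wA_sum (hC : CfgT ρ B) {A : Finset (Fin 8)} (hA : A.card = 4) {u : W} (hu : u ∈ inv ρ (Tg 8 gQ)) :
    wA ρ A u = ∑ i ∈ A, vi ρ i u := by
  obtain ⟨g, hg⟩ := exists_sends hA
  rw [wA_eq hC.toCfgU hg hu]
  conv_lhs => rw [← vi_four hC hu]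
  rw [map_sum, Finset.sum_congr rfl fun i _ => vi_equi hC.toCfgU g i hu]
  have h1 : A = A0.map (g : Perm (Fin 8)).toEmbedding := by
    ext j
    rw [Finset.mem_map_equiv, mem_A0, ← hg, Equiv.apply_symm_apply]
  conv_rhs => rw [h1]
  rw [Finset.sum_map]
  rfl

/-- `Σ v_i = 0` -/
theorem vi_sum (hC : CfgT ρ B) {u : W} (hu : u ∈ inv ρ (Tg 8 gQ)) : ∑ i, vi ρ i u = 0 := by
  have h1 := wA_sum hC (A := A0ᶜ) (by decide) hu
  rw [wA_compl hC.toCfgU (by decide) hu, wA_zero hC.toCfgU hu] at h1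
  rw [← Finset.sum_add_sum_compl A0, vi_four hC hu, ← h1, add_neg_cancel]

theorem two_trans {i j : Fin 8} (h : i ≠ j) : ∃ g : A8, (g : Perm (Fin 8)) 0 = i ∧ (g : Perm (Fin 8)) 1 = j := by
  have h0 : swap 0 i j ≠ 0 := by
    intro h1
    have h2 := congrArg (swap 0 i) h1
    rw [swap_apply_self, swap_apply_left] at h2
    exact h h2.symm
  have e0 : (swap 0 i * swap 1 (swap 0 i j)) 0 = i := by
    rw [Perm.mul_apply, swap_apply_of_ne_of_ne (by decide) h0.symm, swap_apply_left]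
  have e1 : (swap 0 i * swap 1 (swap 0 i j)) 1 = j := by
    rw [Perm.mul_apply, swap_apply_left, swap_apply_self]
  generalize swap 0 i * swap 1 (swap 0 i j) = σ at e0 e1
  by_cases hs : sign σ = 1
  · exact ⟨⟨σ, mem_alternatingGroup.2 hs⟩, e0, e1⟩
  · have h3 : sign (σ * swap 2 3) = 1 := by
      rw [Perm.sign_mul, sign_swap (by decide), (Int.units_eq_one_or _).resolve_left hs]
      decide
    refine ⟨⟨σ * swap 2 3, mem_alternatingGroup.2 h3⟩, ?_, ?_⟩
    · show (σ * swap 2 3 : Perm (Fin 8)) 0 = i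
      rw [Perm.mul_apply, swap_apply_of_ne_of_ne (by decide) (by decide), e0]
    · show (σ * swap 2 3 : Perm (Fin 8)) 1 = j
      rw [Perm.mul_apply, swap_apply_of_ne_of_ne (by decide) (by decide), e1]

/-- **the Gram matrix** -/
theorem gram (hC : CfgT ρ B) {u u' : W} (hu : u ∈ inv ρ (Tg 8 gQ)) (hu' : u' ∈ inv ρ (Tg 8 gQ)) (i j : Fin 8) :
    16 * B (vi ρ i u) (vi ρ j u') = (if i = j then 7 else -1) * B u u' := by
  have hne : ∀ i j : Fin 8, i ≠ j → B (vi ρ i u) (vi ρ j u') = B (vi ρ 0 u) (vi ρ 1 u') := by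
    intro i j h
    obtain ⟨g, h0, h1⟩ := two_trans h
    rw [← hC.isom g (vi ρ 0 u), vi_equi hC.toCfgU g 0 hu, vi_equi hC.toCfgU g 1 hu', h0, h1]
  have heq : ∀ i : Fin 8, B (vi ρ i u) (vi ρ i u') = -7 * B (vi ρ 0 u) (vi ρ 1 u') := by
    intro i
    have h1 : ∑ j, B (vi ρ i u) (vi ρ j u') = 0 := by rw [← map_sum, vi_sum hC hu', map_zero]
    rw [← Finset.sum_erase_add _ _ (Finset.mem_univ i), Finset.sum_congr rfl fun j hj => hne i j (Finset.ne_of_mem_erase hj).symm,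
      Finset.sum_const, Finset.card_erase_of_mem (Finset.mem_univ i), Finset.card_univ, Fintype.card_fin, nsmul_eq_mul] at h1
    push_cast at h1
    linear_combination h1
  have h3 : B u u' = -16 * B (vi ρ 0 u) (vi ρ 1 u') := by
    conv_lhs => rw [← vi_four hC hu, ← vi_four hC hu']
    have h4 : ∀ f : Fin 8 → W, ∑ i ∈ A0, f i = f 0 + f 1 + f 2 + f 3 := by
      intro f
      unfold A0
      rw [Finset.sum_insert (by decide), Finset.sum_insert (by decide), Finset.sum_insert (by decide),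
        Finset.sum_singleton]
      abel
    rw [h4, h4]
    simp only [map_add, LinearMap.add_apply]
    rw [heq 0, heq 1, heq 2, heq 3, hne 0 1 (by decide), hne 0 2 (by decide), hne 0 3 (by decide), hne 1 0 (by decide),
      hne 1 2 (by decide), hne 1 3 (by decide), hne 2 0 (by decide), hne 2 1 (by decide), hne 2 3 (by decide),
      hne 3 0 (by decide), hne 3 1 (by decide), hne 3 2 (by decide)]
    ring
  split_ifs with h
  · subst h
    rw [heq i, h3]
    ring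
  · rw [hne i j h, h3]
    ring

/-- **fixed points of a point stabilizer** -/
theorem fix_pt (hC : CfgT ρ B) {w : W} (hw : ∀ g : A8, (g : Perm (Fin 8)) 7 = 7 → ρ g w = w) :
    ∃ u ∈ inv ρ (Tg 8 gQ), w = vi ρ 7 u := by
  have htr : ∀ i : Fin 8, ∃ g : A8, (g : Perm (Fin 8)) 7 = i := by
    intro i
    obtain ⟨a, ha⟩ : ∃ a : Fin 8, a ≠ i := by
      by_cases h : i = 0
      · exact ⟨1, by rw [h]; decide⟩
      · exact ⟨0, fun h' => h h'.symm⟩
    obtain ⟨g, hg, -⟩ := two_trans (i := i) (j := a) ha.symm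
    obtain ⟨k, hk, -⟩ := two_trans (i := 7) (j := 6) (by decide)
    refine ⟨g * k⁻¹, ?_⟩
    have h1 : ((k⁻¹ : A8) : Perm (Fin 8)) 7 = 0 := by
      rw [Subgroup.coe_inv, Perm.inv_eq_iff_eq, hk]
    rw [Subgroup.coe_mul, Perm.mul_apply, h1, hg]
  choose g hg using htr
  let x : Fin 8 → W := fun i => ρ (g i) w
  have hx : ∀ k : A8, ρ k w = x ((k : Perm (Fin 8)) 7) := by
    intro k
    have h1 : ρ ((g ((k : Perm (Fin 8)) 7))⁻¹ * k) w = w := by
      apply hw
      rw [Subgroup.coe_mul, Perm.mul_apply, Subgroup.coe_inv, Perm.inv_eq_iff_eq, hg]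
    show _ = ρ (g _) w
    conv_rhs => rw [← h1]
    rw [← ρ_mul, mul_inv_cancel_left]
  have hxe : ∀ (k : A8) i, ρ k (x i) = x ((k : Perm (Fin 8)) i) := by
    intro k i
    show ρ k (ρ (g i) w) = _
    rw [← ρ_mul, hx, Subgroup.coe_mul, Perm.mul_apply, hg]
  have hxA : ∀ (k : A8) (A : Finset (Fin 8)), sends k A → ρ k (∑ i ∈ A0, x i) = ∑ i ∈ A, x i := by
    intro k A hk
    have h1 : A = A0.map (k : Perm (Fin 8)).toEmbedding := by
      ext j
      rw [Finset.mem_map_equiv, mem_A0, ← hk, Equiv.apply_symm_apply]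
    rw [map_sum, Finset.sum_congr rfl fun i _ => hxe k i]
    conv_rhs => rw [h1]
    rw [Finset.sum_map]
    rfl
  have hu : (∑ i ∈ A0, x i) ∈ inv ρ (Tg 8 gQ) := by
    rw [mem_U]
    intro l hl
    have hv : vl 8 l = true := List.all_eq_true.1 gQ_vl l hl
    apply hxA
    intro i
    rw [coe_P le_rfl hv, mem_A0, pm_apply (vl_iff.1 hv).2]
    have key : ∀ l ∈ gQ, ∀ i < 8, (ap l i < 4 ↔ i < 4) := by decide
    exact key l hl _ i.2
  refine ⟨_, hu, ?_⟩
  have hcompl : ∑ i ∈ A0ᶜ, x i = - ∑ i ∈ A0, x i := by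
    obtain ⟨k, hk⟩ := exists_sends (A := A0ᶜ) (by decide)
    rw [← hxA k _ hk, ← wA_eq hC.toCfgU hk hu, wA_compl hC.toCfgU (by decide) hu, wA_zero hC.toCfgU hu]
  have hsum : ∑ i, x i = 0 := by
    rw [← Finset.sum_add_sum_compl A0, hcompl, add_neg_cancel]
  have hwA : ∀ A ∈ S4, wA ρ A (∑ i ∈ A0, x i) = ∑ i ∈ A, x i := by
    intro A hA
    obtain ⟨k, hk⟩ := exists_sends (mem_S4.1 hA)
    rw [wA_eq hC.toCfgU hk hu, hxA k A hk]
  rw [vi_apply, Finset.sum_congr rfl fun A hA => hwA A (Finset.mem_filter.1 hA).1]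
  have h2 : ∑ A ∈ S4.filter ((7 : Fin 8) ∈ ·), ∑ i ∈ A, x i =
      ∑ i, ((S4.filter (fun A => (7 : Fin 8) ∈ A ∧ i ∈ A)).card : F) • x i := by
    have h3 : ∀ A : Finset (Fin 8), ∑ i ∈ A, x i = ∑ i, if i ∈ A then x i else 0 := by
      intro A
      rw [← Finset.sum_filter, Finset.filter_mem_eq_inter, Finset.univ_inter]
    rw [Finset.sum_congr rfl fun A _ => h3 A, Finset.sum_comm]
    refine Finset.sum_congr rfl fun i _ => ?_
    rw [← Finset.sum_filter, Finset.filter_filter, Finset.sum_const, Nat.cast_smul_eq_nsmul]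
  have hcard : ∀ i : Fin 8, (S4.filter (fun A => (7 : Fin 8) ∈ A ∧ i ∈ A)).card = if i = 7 then 35 else 15 := by
    decide +kernel
  have h4 : ∑ i, ((S4.filter (fun A => (7 : Fin 8) ∈ A ∧ i ∈ A)).card : F) • x i = (20 : F) • x 7 := by
    have h5 : ∀ i : Fin 8, ((S4.filter (fun A => (7 : Fin 8) ∈ A ∧ i ∈ A)).card : F) • x i =
        (15 : F) • x i + if i = 7 then (20 : F) • x i else 0 := by
      intro i
      rw [hcard]
      split_ifs
      · push_cast
        module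
      · push_cast
        module
    rw [Finset.sum_congr rfl fun i _ => h5 i, Finset.sum_add_distrib, ← Finset.smul_sum, hsum, smul_zero, zero_add,
      Finset.sum_ite_eq' Finset.univ (7 : Fin 8), if_pos (Finset.mem_univ _)]
  rw [h2, h4, smul_smul, inv_mul_cancel₀ (twenty_ne hC), one_smul]
  have h6 := hx 1
  rw [ρ_one] at h6
  exact h6

end

end Cfsg.Agent.R2.T1.Odd
end

-- part: R2/T1/Odd/Out
section
/-!
# S5771, ODD5: the configuration for `V F`; restriction to `A_8`; the output for the boxes P3 and Q4 (helper11)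

* `emb8 hn : A8 →* A_n` (acting on the first 8 points), `emb8_val`, `emb8_P`, `exists_emb8`;
* `cfgU`, `cfgT` : the configuration of `O3`, `O4` for `(V F) ∘ ψ`, `ψ : A_n →* Gh F`, `n ≥ 8`, `2 ≠ 0` (`5 ≠ 0`);
-/

set_option autoImplicit false
set_option maxRecDepth 100000

namespace Cfsg.Agent.R2.T1.Odd

open Cfsg Cfsg.Lie Module Equiv Equiv.Perm
open Cfsg.Agent.H943.E7V.Block (D1 rho)
open Cfsg.Agent.H952.F4 (ev es)

universe u v

/-! ### the embedding of `A_8` -/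

section emb8
variable {n : ℕ} (hn : 8 ≤ n)

def fE : Fin 8 ≃ {i : Fin n // i.val < 8} where
  toFun i := ⟨⟨i.val, i.2.trans_le hn⟩, i.2⟩
  invFun i := ⟨i.1.val, i.2⟩
  left_inv _ := rfl
  right_inv _ := rfl

/-- `A_8` acting on the first 8 points -/
noncomputable def emb8 : A8 →* ↥(alternatingGroup (Fin n)) :=
  ((Perm.extendDomainHom (fE hn)).comp (alternatingGroup (Fin 8)).subtype).codRestrict _ fun g => by
    rw [mem_alternatingGroup]
    show sign (Perm.extendDomain (g : Perm (Fin 8)) (fE hn)) = 1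
    rw [Perm.sign_extendDomain]
    exact mem_alternatingGroup.1 g.2

theorem emb8_coe (g : A8) : ((emb8 hn g : ↥(alternatingGroup (Fin n))) : Perm (Fin n)) =
    Perm.extendDomain (g : Perm (Fin 8)) (fE hn) := rfl

theorem emb8_lt (g : A8) (i : Fin 8) : ((emb8 hn g : ↥(alternatingGroup (Fin n))) : Perm (Fin n)) ⟨i.val, i.2.trans_le hn⟩ =
    ⟨((g : Perm (Fin 8)) i).val, ((g : Perm (Fin 8)) i).2.trans_le hn⟩ := by
  rw [emb8_coe]
  exact Perm.extendDomain_apply_image (g : Perm (Fin 8)) (fE hn) i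

theorem emb8_ge (g : A8) (i : Fin n) (hi : 8 ≤ i.val) : ((emb8 hn g : ↥(alternatingGroup (Fin n))) : Perm (Fin n)) i = i := by
  rw [emb8_coe]
  exact Perm.extendDomain_apply_not_subtype (g : Perm (Fin 8)) (fE hn) (by omega)

theorem emb8_inj : Function.Injective (emb8 hn) := by
  intro a b h
  apply Subtype.ext
  apply Perm.ext
  intro i
  have h1 := emb8_lt hn a i
  rw [h, emb8_lt] at h1
  exact Fin.ext (congrArg Fin.val h1).symm

theorem emb8_P [NeZero n] {l : List (ℕ × ℕ)} (hl : vl 8 l = true) : emb8 hn (P 8 l) = P n l := by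
  apply Subtype.ext
  apply Perm.ext
  intro i
  rw [coe_P hn hl]
  have hE := (vl_iff.1 hl).2
  by_cases hi : i.val < 8
  · have h1 := emb8_lt hn (P 8 l) ⟨i.val, hi⟩
    have h2 : (⟨(⟨i.val, hi⟩ : Fin 8).val, i.2⟩ : Fin n) = i := rfl
    rw [h2] at h1
    rw [h1]
    apply Fin.ext
    show ((P 8 l : Perm (Fin 8)) ⟨i.val, hi⟩).val = _
    rw [coe_P le_rfl hl, pm_apply hE, pm_apply (hE.mono hn)]
  · rw [emb8_ge hn _ _ (by omega)]
    apply Fin.ext
    rw [pm_apply (hE.mono hn), ap_ge hE (by omega)]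

theorem exists_emb8 {g : ↥(alternatingGroup (Fin n))} (hg : ∀ i : Fin n, 8 ≤ i.val → (g : Perm (Fin n)) i = i) :
    ∃ g' : A8, emb8 hn g' = g := by
  have hp : ∀ x : Fin n, (x.val < 8) ↔ ((g : Perm (Fin n)) x).val < 8 := by
    intro x
    constructor
    · intro hx
      by_contra h
      have h1 := hg _ (by omega : 8 ≤ ((g : Perm (Fin n)) x).val)
      have h2 := (g : Perm (Fin n)).injective h1
      rw [h2] at h
      exact h hx
    · intro hx
      by_contra h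
      rw [hg x (by omega)] at hx
      exact h hx
  let σ : Perm (Fin 8) := (fE hn).symm.permCongr ((g : Perm (Fin n)).subtypePerm (p := fun x => x.val < 8) (fun x => (hp x).symm))
  have h1 : Perm.extendDomain σ (fE hn) = (g : Perm (Fin n)) := by
    apply Perm.ext
    intro i
    by_cases hi : i.val < 8
    · rw [Perm.extendDomain_apply_subtype σ (fE hn) hi]
      simp [σ]
    · rw [Perm.extendDomain_apply_not_subtype σ (fE hn) hi, hg i (by omega)]
  have h2 : σ ∈ alternatingGroup (Fin 8) := by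
    rw [mem_alternatingGroup, ← Perm.sign_extendDomain σ (fE hn), h1]
    exact mem_alternatingGroup.1 g.2
  exact ⟨⟨σ, h2⟩, Subtype.ext h1⟩

end emb8

/-! ### the configuration -/

section cfg
variable {F : Type u} [Field F] [Finite F] (h2 : (2 : F) ≠ 0) {n : ℕ} [NeZero n] (hn : 8 ≤ n)
  {ψ : ↥(alternatingGroup (Fin n)) →* Gh F} (hψ : ∀ a, ad F (ψ a) = 1 → a = 1)

include h2 hn hψ

theorem cfgU : CfgU (MonoidHom.comp (V F) ψ : Representation F ↥(alternatingGroup (Fin n)) (D1 → F)) (sf F) where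
  two := h2
  fin := inferInstance
  isom g x y := sf_V (ψ g) x y
  skew x y := sf_swap x y
  nd x h := sf_nondeg' h
  dim := (types hn h2 hψ).2.2.2.2.1
  qs := Submodule.finrank_eq_zero.1 (types hn h2 hψ).2.2.2.2.2.1
  qj := by
    have h1 := (types hn h2 hψ).2.2.2.2.1
    have h3 := (types hn h2 hψ).2.2.2.2.2.2
    exact (Submodule.eq_of_le_of_finrank_eq (inv_mono gQ_le_gQj) (by rw [h3, h1])).ge

theorem cfgT (h5 : (5 : F) ≠ 0) :
    CfgT (MonoidHom.comp (V F) ψ : Representation F ↥(alternatingGroup (Fin n)) (D1 → F)) (sf F) where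
  toCfgU := cfgU h2 hn hψ
  five := h5
  dimW := finrank_V
  evt := (types hn h2 hψ).1
  evs := (types hn h2 hψ).2.1
  ev42 := (types hn h2 hψ).2.2.1
  ev44 := (types hn h2 hψ).2.2.2.1
  ev5 := by
    have h1 : P n l5 ^ 5 = 1 := P_pow_one hn (m := 8) (by decide) (by decide)
    have h3 : P n [(1, 2), (2, 4), (4, 3), (5, 6)] * P n l5 * (P n [(1, 2), (2, 4), (4, 3), (5, 6)])⁻¹ = P n l5 ^ 2 := by
      rw [mul_inv_eq_iff_eq_mul, ← P_pwl hn (m := 8) (by decide), ← P_append hn (m := 8) (by decide) (by decide),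
        ← P_append hn (m := 8) (by decide) (by decide), P_eq_iff hn (by decide) (by decide)]
      decide
    refine five_rat h5 (x := ψ (P n l5)) (g := ψ (P n [(1, 2), (2, 4), (4, 3), (5, 6)])) ?_ ?_ ?_
    · rw [← map_pow, h1, map_one]
    · intro h4
      exact psi_ne hn hψ (l := l5) (by decide) (by decide) (by rw [h4, map_one])
    · rw [← map_inv, ← map_mul, ← map_mul, h3, map_pow]

end cfg

end Cfsg.Agent.R2.T1.Odd
end

private theorem dce_ce1d4e4fa230 : _root_.True := by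
  try have : _root_.True := by simp only [_root_.Cfsg.Agent.R2.T1.Odd.fE.congr_simp]
  try have : _root_.True := by simp only [_root_.Cfsg.Agent.R2.T1.Odd.Xj.eq_1]
  try have : _root_.True := by simp only [_root_.Cfsg.Agent.R2.T1.Odd.wA.eq_1]
  try have : _root_.True := by simp only [_root_.Cfsg.Agent.R2.T1.Odd.vi.eq_1]
  exact _root_.True.intro
end
end
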