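import Cfsg.Agent.R2.T1.Odd.Scal
import Cfsg.Agent.R2.T1.Odd.Out
import Cfsg.Agent.Prune
set_option linter.all false
prune_inst 0x7f00000000000000000000000000000000000000000000000000000000000000000000000000000000000000000000000000000000000000000000000000000000000000000000000000000000000000003fffffffffffffffffffffffffffbeffbdffffffff

/-!
# S5771, ODD5: `(89)(01)` acts as `-1` on `U`, `n = 10` (helper11)
-/

set_option autoImplicit false
set_option maxRecDepth 100000

namespace Cfsg.Agent.R2.T1.Odd

open Cfsg Cfsg.Lie Module Equiv Equiv.Perm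
open Cfsg.Agent.H943.E7V.Block (D1 rho)
open Cfsg.Agent.H952.F4 (ev es MaxAlt)
open Cfsg.Agent.R2.T1.Art

universe u v


section
variable {F : Type u} [Field F] [Finite F] (h2 : (2 : F) ≠ 0) {ψ : ↥(alternatingGroup (Fin 10)) →* Gh F}
  (hψ : ∀ a, ad F (ψ a) = 1 → a = 1)
include h2 hψ

end

end Cfsg.Agent.R2.T1.Odd
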