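import Cfsg.Agent.R2.T1.Odd.T9
import Cfsg.Agent.Prune
set_option linter.all false
prune_inst 0x7f00000000000000000000000000000000000000000000000000000000000000000000000000000000000000000000000000000000000000000000000000000000000000000000000000000000000000003fffffffffffffffffffffffffffbeffbdffffffff
open scoped Cfsg.Agent.FastGrp

/-!
# S5771, ODD5: elements (helper11)

* `four_dvd` : `4 ∣ ev (V F x) 1` if `x ^ 4 = 1`;
* `ev_rat` : multiplicities of the eigenvalues of an element conjugate to its square;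
* `five_rat`, `nine_rat`.
-/

set_option autoImplicit false
set_option maxRecDepth 100000

namespace Cfsg.Agent.R2.T1.Odd

open Cfsg Cfsg.Lie Module
open Cfsg.Agent.H943.E7V.Block (D1 rho)
open Cfsg.Agent.H952.F4 (ev es)
open Cfsg.Agent.H944.E6T (ev_conj trace_conj)

universe u v

section
variable {F : Type u} [Field F]

theorem four_dvd [Finite F] (h2 : (2 : F) ≠ 0) {x : Gh F} (hx : x ^ 4 = 1) : 4 ∣ ev (V F x) 1 := by
  have h4 : ((4 : ℕ) : F) ≠ 0 := by
    have : ((4 : ℕ) : F) = 2 * 2 := by norm_num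
    rw [this]
    exact mul_ne_zero h2 h2
  obtain ⟨P, hP, h1, -⟩ := patF chk4 h4 hx
  rw [h1]
  have key : ∀ P ∈ T4, 4 ∣ P.1.getD 0 0 := by decide
  exact key P hP

theorem ev_pow_eq {K : Type v} [Field K] {M : Type*} [AddCommGroup M] [Module K M] {T : Module.End K M} {N a b : ℕ}
    (hT : T ^ N = 1) {ζ : K} (hζ : ζ ^ N = 1) (hab : a * b % N = 1) (hN : 1 < N) (k : ℕ) :
    ev (T ^ a) (ζ ^ k) = ev T (ζ ^ (k * b)) := by
  have hmod : ∀ {j : ℕ}, j % N = 1 → T ^ j = T := by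
    intro j hj
    rw [← Nat.div_add_mod j N, hj, pow_add, pow_mul, hT, one_pow, one_mul, pow_one]
  have hmodζ : ∀ {j : ℕ}, j % N = 1 → ζ ^ j = ζ := by
    intro j hj
    rw [← Nat.div_add_mod j N, hj, pow_add, pow_mul, hζ, one_pow, one_mul, pow_one]
  have hpow : ∀ {S : Module.End K M} {μ : K} {v : M} (j : ℕ), S v = μ • v → (S ^ j) v = μ ^ j • v := by
    intro S μ v j h
    induction j with
    | zero => rw [pow_zero, pow_zero, one_smul]; rfl
    | succ j ih => rw [pow_succ, Module.End.mul_apply, h, map_smul, ih, smul_smul, pow_succ']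
  unfold ev
  have h1 : Module.End.eigenspace (T ^ a) (ζ ^ k) = Module.End.eigenspace T (ζ ^ (k * b)) := by
    ext v
    rw [Module.End.mem_eigenspace_iff, Module.End.mem_eigenspace_iff]
    constructor
    · intro h
      have h2 := hpow b h
      rw [← pow_mul, hmod hab, ← pow_mul] at h2
      exact h2
    · intro h
      have h2 := hpow a h
      have h3 : (ζ ^ (k * b)) ^ a = ζ ^ k := by
        rw [← pow_mul, mul_assoc, mul_comm k, mul_comm b a, pow_mul, hmodζ hab]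
      rw [h3] at h2
      exact h2
  rw [h1]

/-- multiplicities of a rational element -/
theorem ev_rat {K : Type v} [Field K] {Y : Type*} [Group Y] {M : Type*} [AddCommGroup M] [Module K M]
    (ρ : Representation K Y M) {x g : Y} {N a b : ℕ} (hx : x ^ N = 1) {ζ : K} (hζ : ζ ^ N = 1)
    (hab : a * b % N = 1) (hN : 1 < N) (hg : g * x * g⁻¹ = x ^ a) (k : ℕ) :
    ev (ρ x) (ζ ^ k) = ev (ρ x) (ζ ^ (k * b)) := by
  rw [← ev_pow_eq (T := ρ x) (by rw [← map_pow, hx, map_one]) hζ hab hN k, ← map_pow, ← hg, ev_conj]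

theorem emb_rat {K : Type v} [Field K] (f : F →+* K) {x g : Gh F} {a : ℕ} (hg : g * x * g⁻¹ = x ^ a) :
    emb f g * emb f x * (emb f g)⁻¹ = emb f x ^ a := by
  rw [← map_inv, ← map_mul, ← map_mul, hg, map_pow]

theorem emb_pow_one {K : Type v} [Field K] (f : F →+* K) {x : Gh F} {N : ℕ} (hx : x ^ N = 1) : emb f x ^ N = 1 := by
  rw [← map_pow, hx, map_one]

/-- **rational elements of order 5** -/
theorem five_rat [Finite F] (h5 : (5 : F) ≠ 0) {x g : Gh F} (hx : x ^ 5 = 1) (hx1 : x ≠ 1) (hg : g * x * g⁻¹ = x ^ 2) :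
    ev (V F x) 1 = 16 := by
  have h5' : ((5 : ℕ) : F) ≠ 0 := by exact_mod_cast h5
  obtain ⟨p, hpp, hp, hcop⟩ := exists_char h5'
  obtain ⟨ζ, hζ, P, hP, h1⟩ := pat chk5 (by norm_num) p hcop hx
  have e1 := ev_rat (V (AlgebraicClosure F)) (N := 5) (a := 2) (b := 3) (emb_pow_one (algebraMap F _) hx) hζ.pow_eq_one
    (by norm_num) (by norm_num) (emb_rat _ hg) 1
  have h2 := (h1 1 (by norm_num)).1
  have h3 := (h1 3 (by norm_num)).1
  have h0 := (h1 0 (by norm_num)).1
  rw [pow_zero, ev_V_one] at h0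
  rw [h2, one_mul, h3] at e1
  have key : ∀ P ∈ T5, P.1.getD 0 0 = 56 ∨ P.1.getD 0 0 = 16 ∨ P.1.getD 1 0 ≠ P.1.getD 3 0 := by decide
  rcases key P hP with h | h | h
  · exact absurd (eq_one_of_ev (h0.trans h)) hx1
  · rw [h0, h]
  · exact absurd e1 h

/-- **rational elements of order 9** -/
theorem nine_rat [Finite F] (h3 : (3 : F) ≠ 0) {x g : Gh F} (hx : x ^ 9 = 1) (hg : g * x * g⁻¹ = x ^ 2) :
    ev (V F x) 1 % 3 ≠ 1 := by
  have h9 : ((9 : ℕ) : F) ≠ 0 := by
    have : ((9 : ℕ) : F) = 3 * 3 := by norm_num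
    rw [this]
    exact mul_ne_zero h3 h3
  obtain ⟨p, hpp, hp, hcop⟩ := exists_char h9
  obtain ⟨ζ, hζ, P, hP, h1⟩ := pat chk9 (by norm_num) p hcop hx
  have hm : ∀ j, ζ ^ j = ζ ^ (j % 9) := fun j => pow_mod_eq hζ j
  have eV := fun k => ev_rat (V (AlgebraicClosure F)) (N := 9) (a := 2) (b := 5) (emb_pow_one (algebraMap F _) hx)
    hζ.pow_eq_one (by norm_num) (by norm_num) (emb_rat _ hg) k
  have eL := fun k => ev_rat (L (AlgebraicClosure F)) (N := 9) (a := 2) (b := 5) (emb_pow_one (algebraMap F _) hx)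
    hζ.pow_eq_one (by norm_num) (by norm_num) (emb_rat _ hg) k
  have e1 := eV 1
  have e2 := eV 5
  have e3 := eV 3
  have e4 := eL 1
  rw [one_mul, (h1 1 (by norm_num)).1, (h1 5 (by norm_num)).1] at e1
  rw [hm (5 * 5), (h1 5 (by norm_num)).1, (h1 7 (by norm_num)).1] at e2
  rw [hm (3 * 5), (h1 3 (by norm_num)).1, (h1 6 (by norm_num)).1] at e3
  rw [one_mul, (h1 1 (by norm_num)).2, (h1 5 (by norm_num)).2] at e4
  have h0 := (h1 0 (by norm_num)).1
  rw [pow_zero, ev_V_one] at h0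
  rw [h0]
  have key : ∀ P ∈ T9, P.1.getD 1 0 = P.1.getD 5 0 → P.1.getD 5 0 = P.1.getD 7 0 → P.1.getD 3 0 = P.1.getD 6 0 →
      P.2.getD 1 0 = P.2.getD 5 0 → P.1.getD 0 0 % 3 ≠ 1 := by decide
  exact key P hP e1 e2 e3 e4

end

end Cfsg.Agent.R2.T1.Odd
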