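import Cfsg.Agent.R2.T1.Odd.Out
import Cfsg.Agent.Prune
set_option linter.all false
prune_inst 0x7f00000000000000000000000000000000000000000000000000000000000000000000000000000000000000000000000000000000000000000000000000000000000000000000000000000000000000003fffffffffffffffffffffffffffbeffbdffffffff

/-!
# S5771, ODD5 (O6): colourings of `n ≤ 10` points (helper11)

The cosets `g D` of the stabilizer `D` of the colouring `col` (four points of colour 0, four of colour 1, the others of
colour 2) are described by the colourings `c = col ∘ g⁻¹`. `all8`, `all9`, `all10` : each of them contains an involution
(also after exchanging the colours 0 and 1), or (`n = 10`) there is an element which shows `E ρ(g) = 0`.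
-/

set_option autoImplicit false
set_option maxRecDepth 100000
namespace Cfsg.Agent.R2.T1.Odd

/-- exchange of the colours 0 and 1 -/
def cs (a : ℕ) : ℕ := if Nat.beq a 0 then 1 else if Nat.beq a 1 then 0 else a

namespace Fq

end Fq

end Cfsg.Agent.R2.T1.Odd
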