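import Cfsg.Agent.R2.T1.Odd.Col
import Cfsg.Agent.Prune
set_option linter.all false
prune_inst 0x7f00000000000000000000000000000000000000000000000000000000000000000000000000000000000000000000000000000000000000000000000000000000000000000000000000000000000000003fffffffffffffffffffffffffffbeffbdffffffff

/-!
# S5771, ODD5 (O6): `E ρ(g)` is a scalar on `U` for every `g ∈ A_n`, `8 ≤ n ≤ 10`; reducibility (helper11)

* `all_scal` : `∃ c, ∀ u ∈ U, E (ρ(g) u) = c u`;
* `exists_sub` : a proper non-zero stable subspace.
-/

set_option autoImplicit false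
set_option maxRecDepth 100000

namespace Cfsg.Agent.R2.T1.Odd

open Cfsg Cfsg.Lie Module Equiv Equiv.Perm

universe u v

/-! ### words -/

/-! ### the colouring of an element -/

section
variable {n : ℕ}

end

/-! ### colour preserving elements -/

section act
variable {n : ℕ} [NeZero n] {F : Type u} [Field F] {W : Type v} [AddCommGroup W] [Module F W]
  {ρ : Representation F ↥(alternatingGroup (Fin n)) W} {B : W →ₗ[F] W →ₗ[F] F}

end act

/-! ### scalars -/

section scal
variable {n : ℕ} [NeZero n] {F : Type u} [Field F] {W : Type v} [AddCommGroup W] [Module F W]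
  {ρ : Representation F ↥(alternatingGroup (Fin n)) W} {B : W →ₗ[F] W →ₗ[F] F}

end scal

section ten
variable {F : Type u} [Field F] {W : Type v} [AddCommGroup W] [Module F W]
  {ρ : Representation F ↥(alternatingGroup (Fin 10)) W} {B : W →ₗ[F] W →ₗ[F] F}

end ten

/-! ### all elements -/

section all
variable {F : Type u} [Field F] {W : Type v} [AddCommGroup W] [Module F W] {B : W →ₗ[F] W →ₗ[F] F}

end all

end Cfsg.Agent.R2.T1.Odd
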